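import Groth.Agent.ThetaS.K943.FibBase

/-!
# Functors out of a category fibred in groupoids are determined by their restriction to a covering sub

`ℬ` fibred in groupoids over `(C, J)`, `P` a property of objects of `ℬ` closed under arrows into, such that every
object of `ℬ` is `J`-covered by objects with `P`.  Restriction of functors to a stack along `sub ℬ P ⟶ ℬ` is an
equivalence (fully faithful for a prestack).
-/

set_option backward.isDefEq.respectTransparency false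
set_option backward.isDefEq.respectTransparency.types false
set_option autoImplicit false
set_option linter.style.haveILetI false

universe v₄ u₄ v₃ u₃ v₂ u₂ v u

open CategoryTheory Opposite FibCat K943.FibBase

namespace K943.CoverExt

variable {C : Type u} [Category.{v} C]

/-- The full subcategory of `ℬ` on the objects with `P`, over `C`. -/
abbrev sub (ℬ : BasedCategory.{v₂, u₂} C) (P : ℬ.obj → Prop) : BasedCategory.{v₂, u₂} C where
  obj := ObjectProperty.FullSubcategory P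
  p := ObjectProperty.ι P ⋙ ℬ.p

/-- Its inclusion. -/
def subI (ℬ : BasedCategory.{v₂, u₂} C) (P : ℬ.obj → Prop) : sub ℬ P ⥤ᵇ ℬ where
  toFunctor := ObjectProperty.ι P
  w := rfl

variable {ℬ : BasedCategory.{v₂, u₂} C} {P : ℬ.obj → Prop}

/-- `P` is closed under arrows into. -/
def ClosedInto (P : ℬ.obj → Prop) : Prop := ∀ ⦃a b : ℬ.obj⦄, (a ⟶ b) → P b → P a

theorem isFibGrpd_sub [hℬ : IsFibGrpd ℬ.p] (hP : ClosedInto P) : IsFibGrpd (sub ℬ P).p where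
  exists_lift := fun {x} {V} f => by
    obtain ⟨y, φ, hφ⟩ := hℬ.exists_lift (x := x.obj) f
    refine ⟨⟨y, hP φ x.property⟩, ObjectProperty.homMk φ, ?_⟩
    refine IsHomLift.of_fac' _ _ _ (IsHomLift.domain_eq ℬ.p f φ) rfl ?_
    exact IsHomLift.fac' ℬ.p f φ
  isStronglyCartesian := fun {y x} φ =>
    { universal_property' := fun {a'} g φ' hφ' => by
        have h1 : g ≫ ℬ.p.map φ.hom = ℬ.p.map φ'.hom :=
          IsHomLift.eq_of_isHomLift (sub ℬ P).p (g ≫ (sub ℬ P).p.map φ) φ'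
        obtain ⟨χ, ⟨h2, h3⟩, h4⟩ := existsUnique_fac ℬ.p φ.hom φ'.hom g h1
        refine ⟨ObjectProperty.homMk χ, ⟨?_, ?_⟩, ?_⟩
        · subst h2
          exact IsHomLift.map (sub ℬ P).p (ObjectProperty.homMk χ : a' ⟶ y)
        · apply ObjectProperty.hom_ext; exact h3
        · rintro χ' ⟨h5, h6⟩
          apply ObjectProperty.hom_ext
          refine h4 χ'.hom ⟨?_, ?_⟩
          · exact (IsHomLift.eq_of_isHomLift (sub ℬ P).p g χ').symm
          · exact congrArg (fun t => t.hom) h6 }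

variable [hℬ : IsFibGrpd ℬ.p]

/-- The sieve on `p b` of the morphisms which lift to morphisms `a ⟶ b` with `P a`. -/
def cov (hP : ClosedInto P) (b : ℬ.obj) : Sieve (ℬ.p.obj b) where
  arrows V g := ∃ (a : ℬ.obj) (k : a ⟶ b), P a ∧ ℬ.p.IsHomLift g k
  downward_closed := by
    rintro V W g ⟨a, k, ha, hk⟩ h
    obtain ⟨a', k', hk'⟩ := exists_lift_of_eq ℬ.p h (IsHomLift.domain_eq ℬ.p g k)
    exact ⟨a', k' ≫ k, hP k' ha, inferInstance⟩

variable {𝒳 : BasedCategory.{v₃, u₃} C} [h𝒳 : IsFibGrpd 𝒳.p]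

omit hℬ h𝒳 in
theorem lift_trans {a b : ℬ.obj} {x y : 𝒳.obj} {V T : C} (g : V ⟶ T) (m : a ⟶ b) (e : x ⟶ y)
    [ℬ.p.IsHomLift g m] [𝒳.p.IsHomLift (ℬ.p.map m) e] : 𝒳.p.IsHomLift g e := by
  subst_hom_lift ℬ.p g m; assumption

omit hℬ h𝒳 in
theorem lift_trans_comp {a b : ℬ.obj} {x y : 𝒳.obj} {V T T' : C} (g : V ⟶ T) (m : a ⟶ b) (f : T ⟶ T')
    (e : x ⟶ y) [hm : ℬ.p.IsHomLift g m] {f' : ℬ.p.obj b ⟶ T'} (hf : HEq f' f := by exact HEq.rfl)
    [he : 𝒳.p.IsHomLift (ℬ.p.map m ≫ f') e] : 𝒳.p.IsHomLift (g ≫ f) e := by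
  subst_hom_lift ℬ.p g m; cases hf; exact he

/-- An object over `p b` receiving compatible arrows from the values of `F'` on the objects with `P` over `b`. -/
structure Cc (F' : sub ℬ P ⥤ᵇ 𝒳) (b : ℬ.obj) where
  /-- the object -/
  pt : 𝒳.obj
  hpt : 𝒳.p.obj pt = ℬ.p.obj b
  /-- the arrows -/
  e : ∀ (a : (sub ℬ P).obj) (_ : a.obj ⟶ b), F'.obj a ⟶ pt
  lift : ∀ (a : (sub ℬ P).obj) (m : a.obj ⟶ b), 𝒳.p.IsHomLift (ℬ.p.map m) (e a m)
  nat : ∀ {a a' : (sub ℬ P).obj} (n : a' ⟶ a) (m : a.obj ⟶ b), F'.map n ≫ e a m = e a' (n.hom ≫ m)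

namespace Cc

variable {F' : sub ℬ P ⥤ᵇ 𝒳} {b : ℬ.obj} (c : Cc F' b)

omit hℬ in
/-- The factorisation of an arrow `z ⟶ pt` over `p m` through `e m`. -/
theorem exists_fac {z : 𝒳.obj} (k : z ⟶ c.pt) {a : (sub ℬ P).obj} (m : a.obj ⟶ b)
    {V : C} (g : V ⟶ ℬ.p.obj b) [𝒳.p.IsHomLift g k] [ℬ.p.IsHomLift g m] :
    ∃ s : z ⟶ F'.obj a, 𝒳.p.IsHomLift (𝟙 V) s ∧ s ≫ c.e a m = k := by
  have h2 := c.lift a m
  haveI h1 : 𝒳.p.IsHomLift g (c.e a m) := lift_trans (ℬ := ℬ) (𝒳 := 𝒳) g m (c.e a m)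
  haveI : 𝒳.p.IsHomLift (𝟙 V ≫ g) k := by rw [Category.id_comp]; infer_instance
  obtain ⟨s, hs, -⟩ := existsUnique_fac_lift 𝒳.p (𝟙 V) g (c.e a m) k
  exact ⟨s, hs⟩

/-- Two arrows out of `pt` over the same morphism which agree on the `e m` are equal. -/
theorem hom_ext (hP : ClosedInto P) (hpre : Stk.IsPrestackFor (cov hP b) 𝒳) {y : 𝒳.obj} {T : C}
    (f : ℬ.p.obj b ⟶ T) (χ χ' : c.pt ⟶ y) [𝒳.p.IsHomLift f χ] [𝒳.p.IsHomLift f χ']
    (h : ∀ (a : (sub ℬ P).obj) (m : a.obj ⟶ b), c.e a m ≫ χ = c.e a m ≫ χ') : χ = χ' := by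
  refine hom_ext_of_sieve' c.hpt f hpre ?_
  rintro z k ⟨a, m, ha, hm⟩
  haveI : 𝒳.p.IsHomLift (𝒳.p.map k ≫ eqToHom c.hpt) k := inferInstance
  obtain ⟨s, hs, rfl⟩ := c.exists_fac k (a := ⟨a, ha⟩) m (𝒳.p.map k ≫ eqToHom c.hpt)
  rw [Category.assoc, Category.assoc, h]

/-- A compatible family of arrows on the members glues. -/
theorem glue (hP : ClosedInto P) (hpre : Stk.IsPrestackFor (cov hP b) 𝒳) {y : 𝒳.obj} {T : C}
    (hy : 𝒳.p.obj y = T) (f : ℬ.p.obj b ⟶ T)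
    (ψ : ∀ (a : (sub ℬ P).obj) (_ : a.obj ⟶ b), F'.obj a ⟶ y)
    (hl : ∀ (a : (sub ℬ P).obj) (m : a.obj ⟶ b), 𝒳.p.IsHomLift (ℬ.p.map m ≫ f) (ψ a m))
    (hn : ∀ {a a' : (sub ℬ P).obj} (n : a' ⟶ a) (m : a.obj ⟶ b), F'.map n ≫ ψ a m = ψ a' (n.hom ≫ m)) :
    ∃ χ : c.pt ⟶ y, 𝒳.p.IsHomLift f χ ∧ ∀ (a : (sub ℬ P).obj) (m : a.obj ⟶ b), c.e a m ≫ χ = ψ a m := by
  -- any two presentations of `k` give the same value
  have key : ∀ {z z' : 𝒳.obj} (h : z' ⟶ z) {V V' : C} (g : V ⟶ ℬ.p.obj b) (u : V' ⟶ V)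
      {a a' : (sub ℬ P).obj} (m : a.obj ⟶ b) (m' : a'.obj ⟶ b) (s : z ⟶ F'.obj a) (s' : z' ⟶ F'.obj a'),
      𝒳.p.IsHomLift u h → ℬ.p.IsHomLift g m → ℬ.p.IsHomLift (u ≫ g) m' → 𝒳.p.IsHomLift (𝟙 V) s →
      𝒳.p.IsHomLift (𝟙 V') s' → h ≫ s ≫ c.e a m = s' ≫ c.e a' m' → h ≫ s ≫ ψ a m = s' ≫ ψ a' m' := by
    intro z z' h V V' g u a a' m m' s s' hh hm hm' hs hs' e
    obtain ⟨n, ⟨hn1, hn2⟩, -⟩ := existsUnique_fac_lift ℬ.p u g m m'
    subst hn2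
    have e1 : F'.map (ObjectProperty.homMk n : a' ⟶ a) ≫ ψ a m = ψ a' (n ≫ m) := hn _ _
    have e2 : F'.map (ObjectProperty.homMk n : a' ⟶ a) ≫ c.e a m = c.e a' (n ≫ m) := c.nat _ _
    rw [← e1, ← Category.assoc, ← Category.assoc]
    congr 1
    haveI := c.lift a m
    haveI : 𝒳.p.IsHomLift g (c.e a m) := lift_trans (ℬ := ℬ) (𝒳 := 𝒳) g m (c.e a m)
    haveI : (sub ℬ P).p.IsHomLift u (ObjectProperty.homMk n : a' ⟶ a) :=
      IsHomLift.of_fac' _ _ _ (IsHomLift.domain_eq ℬ.p u n) (IsHomLift.codomain_eq ℬ.p u n)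
        (IsHomLift.fac' ℬ.p u n)
    haveI : 𝒳.p.IsHomLift u (F'.map (ObjectProperty.homMk n : a' ⟶ a)) :=
      BasedFunctor.preserves_isHomLift F' u _
    haveI i1 : 𝒳.p.IsHomLift u (h ≫ s) := inferInstance
    haveI i2 : 𝒳.p.IsHomLift u (s' ≫ F'.map (ObjectProperty.homMk n : a' ⟶ a)) := inferInstance
    refine cart_ext_lift 𝒳.p u (c.e a m) ?_
    rw [Category.assoc, e, Category.assoc, e2]
  have hex : ∀ ⦃z : 𝒳.obj⦄ (k : z ⟶ c.pt) (hk : (cov hP b) (𝒳.p.map k ≫ eqToHom c.hpt)),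
      ∃ (a : (sub ℬ P).obj) (m : a.obj ⟶ b) (s : z ⟶ F'.obj a),
        ℬ.p.IsHomLift (𝒳.p.map k ≫ eqToHom c.hpt) m ∧ 𝒳.p.IsHomLift (𝟙 (𝒳.p.obj z)) s ∧
        s ≫ c.e a m = k := by
    rintro z k ⟨a, m, ha, hm⟩
    haveI : 𝒳.p.IsHomLift (𝒳.p.map k ≫ eqToHom c.hpt) k := inferInstance
    obtain ⟨s, hs, hs'⟩ := c.exists_fac k (a := ⟨a, ha⟩) m (𝒳.p.map k ≫ eqToHom c.hpt)
    exact ⟨⟨a, ha⟩, m, s, hm, hs, hs'⟩
  choose A M S hM hS hSe using hex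
  obtain ⟨χ, h1, h2⟩ := hom_glue' (x := c.pt) (y := y) c.hpt hy f hpre
    (fun z k hk => S k hk ≫ ψ (A k hk) (M k hk)) (fun z k hk => by
      haveI := hS k hk
      haveI := hM k hk
      haveI := hl (A k hk) (M k hk)
      haveI : 𝒳.p.IsHomLift ((𝒳.p.map k ≫ eqToHom c.hpt) ≫ f) (ψ (A k hk) (M k hk)) :=
        lift_trans_comp (ℬ := ℬ) (𝒳 := 𝒳) _ (M k hk) f _
      rw [← Category.assoc (𝒳.p.map k)]
      infer_instance)
    (fun z z' h k hk hk' => by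
      have h1 : 𝒳.p.map (h ≫ k) ≫ eqToHom c.hpt = 𝒳.p.map h ≫ 𝒳.p.map k ≫ eqToHom c.hpt := by
        rw [Functor.map_comp, Category.assoc]
      refine key h (𝒳.p.map k ≫ eqToHom c.hpt) (𝒳.p.map h) (M k hk) (M (h ≫ k) hk') (S k hk) (S (h ≫ k) hk')
        inferInstance (hM k hk) ?_ (hS k hk) (hS _ hk') ?_
      · rw [← h1]; exact hM _ hk'
      · rw [hSe, hSe])
  refine ⟨χ, h1, fun a m => ?_⟩
  haveI := c.lift a m
  have e1 : 𝒳.p.map (c.e a m) ≫ eqToHom c.hpt =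
      eqToHom (IsHomLift.domain_eq 𝒳.p (ℬ.p.map m) (c.e a m)) ≫ ℬ.p.map m := by
    rw [IsHomLift.fac' 𝒳.p (ℬ.p.map m) (c.e a m)]; simp
  have hk : (cov hP b) (𝒳.p.map (c.e a m) ≫ eqToHom c.hpt) := by
    rw [e1]
    refine Sieve.downward_closed _ (f := ℬ.p.map m) ?_ _
    exact ⟨a.obj, m, a.property, IsHomLift.map ℬ.p m⟩
  rw [h2 _ hk]
  have h3 := key (𝟙 (F'.obj a)) (𝒳.p.map (c.e a m) ≫ eqToHom c.hpt) (𝟙 _) m (M _ hk) (𝟙 _) (S _ hk)
    (IsHomLift.id rfl) (by rw [e1]; infer_instance) (by rw [Category.id_comp]; exact hM _ hk)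
    (IsHomLift.id rfl) (hS _ hk) (by rw [hSe]; simp)
  rw [← h3]; simp

end Cc

/-- The pullbacks of `b` along the members of the covering sieve have `P`. -/
theorem yo_mem (hP : ClosedInto P) (b : ℬ.obj) (g : (Stk.sieveCat (cov hP b)).obj) :
    P ((yoAlong b (𝟙 _)).obj g.obj) := by
  obtain ⟨a, m, ha, hm⟩ := g.property
  haveI : ℬ.p.IsHomLift (𝟙 g.obj.left ≫ g.obj.hom) (yoMap b (𝟙 _) g.obj) := by
    have := yoMap_lift b (𝟙 _) g.obj
    rw [Category.comp_id] at this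
    rw [Category.id_comp]; exact this
  haveI : ℬ.p.IsHomLift g.obj.hom m := hm
  obtain ⟨s, -, -⟩ := existsUnique_fac_lift ℬ.p (𝟙 g.obj.left) g.obj.hom m (yoMap b (𝟙 _) g.obj)
  exact hP s ha

/-- The restriction of the 2-Yoneda functor to the covering sieve. -/
noncomputable def yoSub (hP : ClosedInto P) (b : ℬ.obj) : Stk.sieveCat (cov hP b) ⥤ᵇ sub ℬ P where
  toFunctor :=
    { obj := fun g => ⟨(yoAlong b (𝟙 _)).obj g.obj, yo_mem hP b g⟩
      map := fun {g g'} h => ObjectProperty.homMk ((yoAlong b (𝟙 _)).map h.hom)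
      map_id := fun g => by
        apply ObjectProperty.hom_ext
        exact (yoAlong b (𝟙 _)).toFunctor.map_id _
      map_comp := fun h h' => by
        apply ObjectProperty.hom_ext
        exact (yoAlong b (𝟙 _)).toFunctor.map_comp _ _ }
  w := CategoryTheory.Functor.ext (fun g => p_yoAlong b _ g.obj) (fun g g' h => by
    exact Functor.congr_hom (yoAlong b (𝟙 _)).w h.hom)

omit h𝒳 in
/-- For a stack the cocone object exists. -/
theorem exists_cc (hP : ClosedInto P) (F' : sub ℬ P ⥤ᵇ 𝒳) (b : ℬ.obj)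
    (hst : Stk.IsStackFor (cov hP b) 𝒳) : Nonempty (Cc F' b) := by
  obtain ⟨x, e, hx, hl, hn⟩ := obj_glue hst (BasedFunctor.comp (yoSub hP b) F')
  -- the member of the sieve given by `m : a ⟶ b`
  let G : ∀ (a : (sub ℬ P).obj) (m : a.obj ⟶ b), (Stk.sieveCat (cov hP b)).obj := fun a m =>
    ⟨Over.mk (ℬ.p.map m), ⟨a.obj, m, a.property, IsHomLift.map ℬ.p m⟩⟩
  have il : ∀ (a : (sub ℬ P).obj) (m : a.obj ⟶ b), ℬ.p.IsHomLift ((G a m).obj.hom ≫ 𝟙 _) m := by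
    intro a m
    rw [Category.comp_id]; exact IsHomLift.map ℬ.p m
  let s : ∀ (a : (sub ℬ P).obj) (m : a.obj ⟶ b), a ⟶ (yoSub hP b).obj (G a m) := fun a m =>
    haveI := il a m
    ObjectProperty.homMk (toYo (𝟙 _) (G a m).obj m)
  have hs : ∀ (a : (sub ℬ P).obj) (m : a.obj ⟶ b), (s a m).hom ≫ yoMap b (𝟙 _) (G a m).obj = m :=
    fun a m => by
      haveI := il a m
      exact toYo_comp (𝟙 _) (G a m).obj m
  have hs' : ∀ (a : (sub ℬ P).obj) (m : a.obj ⟶ b),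
      (sub ℬ P).p.IsHomLift (𝟙 (ℬ.p.obj a.obj)) (s a m) := fun a m => by
    haveI := il a m
    have h1 : ℬ.p.IsHomLift (𝟙 (ℬ.p.obj a.obj)) (toYo (𝟙 _) (G a m).obj m) :=
      toYo_lift (𝟙 _) (G a m).obj m
    exact IsHomLift.of_fac' _ _ _ (IsHomLift.domain_eq ℬ.p (𝟙 (ℬ.p.obj a.obj)) (toYo (𝟙 _) (G a m).obj m))
      (IsHomLift.codomain_eq ℬ.p (𝟙 (ℬ.p.obj a.obj)) (toYo (𝟙 _) (G a m).obj m))
      (IsHomLift.fac' ℬ.p (𝟙 (ℬ.p.obj a.obj)) (toYo (𝟙 _) (G a m).obj m))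
  refine ⟨⟨x, hx, fun a m => F'.map (s a m) ≫ e (G a m), fun a m => ?_, fun {a a'} n m => ?_⟩⟩
  · haveI := hs' a m
    haveI : 𝒳.p.IsHomLift (𝟙 (ℬ.p.obj a.obj)) (F'.map (s a m)) :=
      BasedFunctor.preserves_isHomLift F' _ _
    haveI : 𝒳.p.IsHomLift (ℬ.p.map m) (e (G a m)) := hl (G a m)
    infer_instance
  · let t : G a' (n.hom ≫ m) ⟶ G a m := ObjectProperty.homMk (Over.homMk (ℬ.p.map n.hom)
      (by simp [G]))
    have h1 : (BasedFunctor.comp (yoSub hP b) F').map t ≫ e (G a m) = e (G a' (n.hom ≫ m)) := hn t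
    have h2 : n ≫ s a m = s a' (n.hom ≫ m) ≫ (yoSub hP b).map t := by
      apply ObjectProperty.hom_ext
      change n.hom ≫ (s a m).hom = (s a' (n.hom ≫ m)).hom ≫ (yoAlong b (𝟙 _)).map t.hom
      refine cart_ext ℬ.p (yoMap b (𝟙 _) (G a m).obj) ?_ ?_
      · have i1 : (sub ℬ P).p.IsHomLift (𝟙 (ℬ.p.obj a.obj)) (s a m) := hs' a m
        have i2 : (sub ℬ P).p.IsHomLift (𝟙 (ℬ.p.obj a'.obj)) (s a' (n.hom ≫ m)) := hs' a' (n.hom ≫ m)
        have j1 : ℬ.p.map (s a m).hom = _ :=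
          IsHomLift.fac' (sub ℬ P).p (𝟙 (ℬ.p.obj a.obj)) (s a m)
        have j2 : ℬ.p.map (s a' (n.hom ≫ m)).hom = _ :=
          IsHomLift.fac' (sub ℬ P).p (𝟙 (ℬ.p.obj a'.obj)) (s a' (n.hom ≫ m))
        have j3 : ℬ.p.map ((yoAlong b (𝟙 _)).map t.hom) = _ :=
          IsHomLift.fac' ℬ.p t.hom.left ((yoAlong b (𝟙 _)).map t.hom)
        rw [Functor.map_comp, Functor.map_comp, j1, j2, j3]
        simp [t]
      · rw [Category.assoc, hs, Category.assoc]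
        erw [yoAlong_map_comp]
        exact (hs a' (n.hom ≫ m)).symm
    have h3 : F'.map n ≫ F'.map (s a m) = F'.map (s a' (n.hom ≫ m)) ≫ F'.map ((yoSub hP b).map t) := by
      have := congrArg F'.map h2
      simpa using this
    rw [← Category.assoc, h3, Category.assoc, ← h1]
    rfl

omit hℬ h𝒳 in
/-- The cocone object of a functor defined everywhere. -/
def Cc.ofFun (F : ℬ ⥤ᵇ 𝒳) (b : ℬ.obj) : Cc (BasedFunctor.comp (subI ℬ P) F) b where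
  pt := F.obj b
  hpt := F.w_obj b
  e := fun a m => F.map m
  lift := fun a m => by
    haveI : ℬ.p.IsHomLift (ℬ.p.map m) m := IsHomLift.map ℬ.p m
    exact BasedFunctor.preserves_isHomLift F _ _
  nat := fun {a a'} n m => (F.toFunctor.map_comp n.hom m).symm

/-- 2-morphisms are determined by their restriction to a covering sub. -/
theorem nat_ext (hP : ClosedInto P) (hpre : ∀ b : ℬ.obj, Stk.IsPrestackFor (cov hP b) 𝒳) {F G : ℬ ⥤ᵇ 𝒳}
    {β β' : F ⟶ G} (h : BasedCategory.whiskerLeft (subI ℬ P) β = BasedCategory.whiskerLeft (subI ℬ P) β') :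
    β = β' := by
  apply BasedNatTrans.homCategory.ext
  ext b
  have hb : ∀ (a : (sub ℬ P).obj), β.toNatTrans.app a.obj = β'.toNatTrans.app a.obj := fun a =>
    congrArg (fun t : BasedFunctor.comp (subI ℬ P) F ⟶ BasedFunctor.comp (subI ℬ P) G =>
      t.toNatTrans.app a) h
  haveI : 𝒳.p.IsHomLift (𝟙 (ℬ.p.obj b)) (β.toNatTrans.app b) := β.isHomLift' b
  haveI : 𝒳.p.IsHomLift (𝟙 (ℬ.p.obj b)) (β'.toNatTrans.app b) := β'.isHomLift' b
  refine (Cc.ofFun F b).hom_ext hP (hpre b) (𝟙 _) (β.toNatTrans.app b) (β'.toNatTrans.app b) ?_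
  intro a m
  change F.map m ≫ β.toNatTrans.app b = F.map m ≫ β'.toNatTrans.app b
  rw [β.toNatTrans.naturality, β'.toNatTrans.naturality, hb a]

/-- 2-morphisms extend from a covering sub. -/
theorem exists_ext_nat (hP : ClosedInto P) (hpre : ∀ b : ℬ.obj, Stk.IsPrestackFor (cov hP b) 𝒳)
    {F G : ℬ ⥤ᵇ 𝒳} (α : BasedFunctor.comp (subI ℬ P) F ⟶ BasedFunctor.comp (subI ℬ P) G) :
    ∃ β : F ⟶ G, BasedCategory.whiskerLeft (subI ℬ P) β = α := by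
  have ex : ∀ b : ℬ.obj, ∃ χ : F.obj b ⟶ G.obj b, 𝒳.p.IsHomLift (𝟙 (ℬ.p.obj b)) χ ∧
      ∀ (a : (sub ℬ P).obj) (m : a.obj ⟶ b), F.map m ≫ χ = α.toNatTrans.app a ≫ G.map m := by
    intro b
    refine (Cc.ofFun F b).glue hP (hpre b) (G.w_obj b) (𝟙 _)
      (fun a m => α.toNatTrans.app a ≫ G.map m) (fun a m => ?_) (fun {a a'} n m => ?_)
    · haveI : 𝒳.p.IsHomLift (𝟙 (ℬ.p.obj a.obj)) (α.toNatTrans.app a) := α.isHomLift' a
      haveI : ℬ.p.IsHomLift (ℬ.p.map m) m := IsHomLift.map ℬ.p m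
      haveI : 𝒳.p.IsHomLift (ℬ.p.map m) (G.map m) := BasedFunctor.preserves_isHomLift G _ _
      rw [Category.comp_id]
      infer_instance
    · have h1 : F.map n.hom ≫ α.toNatTrans.app a = α.toNatTrans.app a' ≫ G.map n.hom :=
        α.toNatTrans.naturality n
      change F.map n.hom ≫ α.toNatTrans.app a ≫ G.map m = α.toNatTrans.app a' ≫ G.map (n.hom ≫ m)
      rw [← Category.assoc, h1, Category.assoc, ← G.toFunctor.map_comp]
  choose χ h1 h2 using ex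
  refine ⟨{ toNatTrans := { app := χ, naturality := ?_ }, isHomLift' := h1 }, ?_⟩
  · intro b c m
    haveI : ℬ.p.IsHomLift (ℬ.p.map m) m := IsHomLift.map ℬ.p m
    haveI : 𝒳.p.IsHomLift (ℬ.p.map m) (F.map m) := BasedFunctor.preserves_isHomLift F _ _
    haveI : 𝒳.p.IsHomLift (ℬ.p.map m) (G.map m) := BasedFunctor.preserves_isHomLift G _ _
    haveI := h1 b
    haveI := h1 c
    haveI i1 : 𝒳.p.IsHomLift (ℬ.p.map m) (F.map m ≫ χ c) := inferInstance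
    haveI i2 : 𝒳.p.IsHomLift (ℬ.p.map m) (χ b ≫ G.map m) := inferInstance
    refine (Cc.ofFun F b).hom_ext hP (hpre b) (ℬ.p.map m) (F.map m ≫ χ c) (χ b ≫ G.map m) ?_
    intro a n
    change F.map n ≫ F.map m ≫ χ c = F.map n ≫ χ b ≫ G.map m
    rw [← Category.assoc, ← F.toFunctor.map_comp, h2 c, ← Category.assoc, h2 b, Category.assoc,
      ← G.toFunctor.map_comp]
  · apply BasedNatTrans.homCategory.ext
    ext a
    change χ a.obj = α.toNatTrans.app a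
    have h3 := h2 a.obj a (𝟙 _)
    have e1 : F.map (𝟙 a.obj) = 𝟙 _ := F.toFunctor.map_id _
    have e2 : G.map (𝟙 a.obj) = 𝟙 _ := G.toFunctor.map_id _
    rw [e1, e2, Category.id_comp] at h3
    exact h3.trans (Category.comp_id _)

/-- 2-isomorphisms extend from a covering sub. -/
theorem exists_ext_iso (hP : ClosedInto P) (hpre : ∀ b : ℬ.obj, Stk.IsPrestackFor (cov hP b) 𝒳)
    {F G : ℬ ⥤ᵇ 𝒳} (α : BasedFunctor.comp (subI ℬ P) F ≅ BasedFunctor.comp (subI ℬ P) G) :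
    ∃ β : F ≅ G, BasedCategory.whiskerLeft (subI ℬ P) β.hom = α.hom := by
  obtain ⟨β, hβ⟩ := exists_ext_nat hP hpre α.hom
  obtain ⟨β', hβ'⟩ := exists_ext_nat hP hpre α.inv
  refine ⟨⟨β, β', ?_, ?_⟩, hβ⟩
  · apply nat_ext hP hpre
    rw [LiftSq.whiskerLeft_comp', hβ, hβ', LiftSq.whiskerLeft_id']
    exact α.hom_inv_id
  · apply nat_ext hP hpre
    rw [LiftSq.whiskerLeft_comp', hβ, hβ', LiftSq.whiskerLeft_id']
    exact α.inv_hom_id

omit hℬ h𝒳 in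
theorem prestackFor_of_stackFor {T : C} {R : Sieve T} (h : Stk.IsStackFor R 𝒳) : Stk.IsPrestackFor R 𝒳 := by
  haveI : (Stk.resSieve R 𝒳).IsEquivalence := h
  exact ⟨inferInstance, inferInstance⟩

/-- Functors to a stack extend from a covering sub. -/
theorem exists_ext (hP : ClosedInto P) (hst : ∀ b : ℬ.obj, Stk.IsStackFor (cov hP b) 𝒳)
    (F' : sub ℬ P ⥤ᵇ 𝒳) : ∃ F : ℬ ⥤ᵇ 𝒳, Nonempty (BasedFunctor.comp (subI ℬ P) F ≅ F') := by
  let c : ∀ b : ℬ.obj, Cc F' b := fun b => (exists_cc hP F' b (hst b)).some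
  have hpre : ∀ b : ℬ.obj, Stk.IsPrestackFor (cov hP b) 𝒳 := fun b => prestackFor_of_stackFor (hst b)
  have ex : ∀ {b b' : ℬ.obj} (m : b ⟶ b'), ∃ χ : (c b).pt ⟶ (c b').pt, 𝒳.p.IsHomLift (ℬ.p.map m) χ ∧
      ∀ (a : (sub ℬ P).obj) (n : a.obj ⟶ b), (c b).e a n ≫ χ = (c b').e a (n ≫ m) := by
    intro b b' m
    refine (c b).glue hP (hpre b) (c b').hpt (ℬ.p.map m) (fun a n => (c b').e a (n ≫ m))
      (fun a n => ?_) (fun {a a'} n m' => ?_)
    · rw [← Functor.map_comp]; exact (c b').lift a (n ≫ m)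
    · rw [(c b').nat, Category.assoc]
  choose χ h1 h2 using @ex
  have hid : ∀ b : ℬ.obj, χ (𝟙 b) = 𝟙 _ := by
    intro b
    haveI : 𝒳.p.IsHomLift (𝟙 (ℬ.p.obj b)) (χ (𝟙 b)) := by
      have := h1 (𝟙 b)
      rwa [ℬ.p.map_id] at this
    haveI : 𝒳.p.IsHomLift (𝟙 (ℬ.p.obj b)) (𝟙 (c b).pt) := IsHomLift.id (c b).hpt
    refine (c b).hom_ext hP (hpre b) (𝟙 _) _ _ (fun a m => ?_)
    rw [h2, Category.comp_id, Category.comp_id]
  have hcomp : ∀ {b b' b'' : ℬ.obj} (m : b ⟶ b') (m' : b' ⟶ b''), χ (m ≫ m') = χ m ≫ χ m' := by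
    intro b b' b'' m m'
    haveI := h1 m
    haveI := h1 m'
    haveI : 𝒳.p.IsHomLift (ℬ.p.map m ≫ ℬ.p.map m') (χ (m ≫ m')) := by
      rw [← ℬ.p.map_comp]; exact h1 _
    refine (c b).hom_ext hP (hpre b) (ℬ.p.map m ≫ ℬ.p.map m') _ _ (fun a n => ?_)
    rw [h2, ← Category.assoc ((c b).e a n), h2, h2, Category.assoc]
  let F : ℬ ⥤ᵇ 𝒳 :=
    { toFunctor :=
        { obj := fun b => (c b).pt
          map := fun m => χ m
          map_id := hid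
          map_comp := hcomp }
      w := CategoryTheory.Functor.ext (fun b => (c b).hpt) (fun b b' m => by
        haveI := h1 m
        exact IsHomLift.fac' 𝒳.p (ℬ.p.map m) (χ m)) }
  have hl : ∀ a : (sub ℬ P).obj, 𝒳.p.IsHomLift (𝟙 (ℬ.p.obj a.obj)) ((c a.obj).e a (𝟙 _)) := by
    intro a
    have := (c a.obj).lift a (𝟙 _)
    rwa [ℬ.p.map_id] at this
  let α : F' ⟶ BasedFunctor.comp (subI ℬ P) F :=
    { toNatTrans :=
        { app := fun a => (c a.obj).e a (𝟙 _)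
          naturality := fun a a' n => by
            have e1 : F'.map n ≫ (c a'.obj).e a' (𝟙 _) = (c a'.obj).e a (n.hom ≫ 𝟙 _) := (c a'.obj).nat n _
            have e2 : (c a.obj).e a (𝟙 _) ≫ χ n.hom = (c a'.obj).e a (𝟙 _ ≫ n.hom) := h2 n.hom a (𝟙 _)
            change F'.map n ≫ (c a'.obj).e a' (𝟙 _) = (c a.obj).e a (𝟙 _) ≫ χ n.hom
            rw [e1, e2, Category.comp_id, Category.id_comp] }
      isHomLift' := hl }
  haveI : ∀ a, IsIso (α.toNatTrans.app a) := fun a => by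
    haveI := hl a
    exact isIso_of_lift_id 𝒳.p (T := ℬ.p.obj a.obj) ((c a.obj).e a (𝟙 _))
  haveI : IsIso (X := F'.toFunctor) α.toNatTrans := NatIso.isIso_of_isIso_app _
  haveI : IsIso α := BasedNatIso.isIso_of_toNatTrans_isIso α
  exact ⟨F, ⟨(asIso α).symm⟩⟩

end K943.CoverExt
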