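import Groth.Agent.ThetaS.K943.Hart
import Groth.Agent.CohqA.PullbackQCoh
import Groth.Agent.Fdesc.QCohStalk

/-!
# Sections of quasi-coherent modules extend over codimension-two complements

`W` an affine open, `α β ∈ Γ(Y, W)`, `E` quasi-coherent with `Hart α β Γ(E, W)`: the restriction
`Γ(E, W) → Γ(E, D(α) ⊔ D(β))` is bijective.
-/

set_option autoImplicit false
universe u

open CategoryTheory CategoryTheory.Limits AlgebraicGeometry TopologicalSpace Opposite
open Groth.Agent.Fdesc.QCohStalk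

namespace K943.SecExt

open K943.Depth2

variable {Y : Scheme.{u}} (E : Y.Modules)

/-- Restriction of sections. -/
noncomputable abbrev rs {U V : Y.Opens} (h : V ≤ U) (s : Γ(E, U)) : Γ(E, V) := E.presheaf.map (homOfLE h).op s

/-- Restriction of functions. -/
noncomputable abbrev rf {U V : Y.Opens} (h : V ≤ U) (s : Γ(Y, U)) : Γ(Y, V) := Y.presheaf.map (homOfLE h).op s

variable {E} in
theorem rs_rs {U V W : Y.Opens} (h : V ≤ U) (h' : W ≤ V) (s : Γ(E, U)) :
    rs E h' (rs E h s) = rs E (h'.trans h) s := map_map E h h' s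

variable {E} in
theorem rs_self {U : Y.Opens} (h : U ≤ U) (s : Γ(E, U)) : rs E h s = s := map_self E h s

variable {E} in
theorem rs_smul {U V : Y.Opens} (h : V ≤ U) (r : Γ(Y, U)) (s : Γ(E, U)) :
    rs E h (r • s) = rf h r • rs E h s := map_smul' E h r s

theorem rf_rf {U V W : Y.Opens} (h : V ≤ U) (h' : W ≤ V) (s : Γ(Y, U)) :
    rf h' (rf h s) = rf (h'.trans h) s := by
  rw [rf, rf, rf, ← CommRingCat.comp_apply, ← Functor.map_comp]; rfl

theorem rf_pow {U V : Y.Opens} (h : V ≤ U) (s : Γ(Y, U)) (n : ℕ) : rf h (s ^ n) = rf h s ^ n := map_pow _ _ _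

variable {E} in
theorem ext₂ {U U₁ U₂ : Y.Opens} (h₁ : U₁ ≤ U) (h₂ : U₂ ≤ U) (h : U ≤ U₁ ⊔ U₂) {s t : Γ(E, U)}
    (e₁ : rs E h₁ s = rs E h₁ t) (e₂ : rs E h₂ s = rs E h₂ t) : s = t :=
  TopCat.Sheaf.eq_of_locally_eq₂ (F := (⟨E.presheaf, E.isSheaf⟩ : TopCat.Sheaf Ab.{u} Y)) (homOfLE h₁)
    (homOfLE h₂) h s t e₁ e₂

theorem isUnit_rf (U : Y.Opens) (f : Γ(Y, U)) {V : Y.Opens} (h : V ≤ Y.basicOpen f) :
    IsUnit (rf (h.trans (Y.basicOpen_le f)) f) := by
  have h1 : IsUnit (rf (Y.basicOpen_le f) f) := RingedSpace.isUnit_res_basicOpen _ f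
  have h2 := h1.map (Y.presheaf.map (homOfLE h).op).hom
  have h3 : (Y.presheaf.map (homOfLE h).op).hom (rf (Y.basicOpen_le f) f) =
      rf (h.trans (Y.basicOpen_le f)) f := rf_rf (Y.basicOpen_le f) h f
  rwa [h3] at h2

variable {E}

theorem bijective_rs (hE : Coh.IsQCoh E) {W : Y.Opens} (hW : IsAffineOpen W) (α β : Γ(Y, W))
    (h : Hart α β Γ(E, W)) {W' : Y.Opens} (hW' : W' = Y.basicOpen α ⊔ Y.basicOpen β) (hle : W' ≤ W) :
    Function.Bijective (rs E hle) := by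
  subst hW'
  have iα : Y.basicOpen α ≤ W := Y.basicOpen_le α
  have iβ : Y.basicOpen β ≤ W := Y.basicOpen_le β
  constructor
  · intro s t e
    have e1 : rs E iα (s - t) = 0 := by
      have h1 : rs E iα (s - t) = rs E iα s - rs E iα t := map_sub _ _ _
      rw [h1, sub_eq_zero, ← rs_rs hle le_sup_left, ← rs_rs hle le_sup_left, e]
    obtain ⟨n, hn⟩ := exists_pow_smul_eq_zero E hW hE α (s - t) e1
    exact sub_eq_zero.1 (h.reg₁_pow n _ hn)
  · intro t
    obtain ⟨n, x, hx⟩ := exists_map_eq_pow_smul E hW hE α (rs E (le_sup_left : Y.basicOpen α ≤ _) t)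
    obtain ⟨m, y, hy⟩ := exists_map_eq_pow_smul E hW hE β (rs E (le_sup_right : Y.basicOpen β ≤ _) t)
    change rs E iα x = rf iα α ^ n • _ at hx
    change rs E iβ y = rf iβ β ^ m • _ at hy
    have iαβ : Y.basicOpen (α * β) ≤ W := Y.basicOpen_le _
    have jα : Y.basicOpen (α * β) ≤ Y.basicOpen α := by rw [Scheme.basicOpen_mul]; exact inf_le_left
    have jβ : Y.basicOpen (α * β) ≤ Y.basicOpen β := by rw [Scheme.basicOpen_mul]; exact inf_le_right
    have e1 : rs E iαβ (β ^ m • x) = rs E iαβ (α ^ n • y) := by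
      have a1 : rs E iαβ x = rf iαβ α ^ n • rs E (jα.trans le_sup_left) t := by
        rw [← rs_rs iα jα, hx, rs_smul, rs_rs, rf_pow, rf_rf]
      have a2 : rs E iαβ y = rf iαβ β ^ m • rs E (jα.trans le_sup_left) t := by
        rw [← rs_rs iβ jβ, hy, rs_smul, rs_rs, rf_pow, rf_rf]
      rw [rs_smul, rs_smul, a1, a2, rf_pow, rf_pow, smul_comm]
    have e2 : rs E iαβ (β ^ m • x - α ^ n • y) = 0 := by
      have h1 : rs E iαβ (β ^ m • x - α ^ n • y) = rs E iαβ (β ^ m • x) - rs E iαβ (α ^ n • y) := map_sub _ _ _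
      rw [h1, e1, sub_self]
    obtain ⟨k, hk⟩ := exists_pow_smul_eq_zero E hW hE (α * β) _ e2
    obtain ⟨z, hz1, hz2⟩ := h.ex_pow m n (sub_eq_zero.1 (h.reg_mul_pow k _ hk))
    refine ⟨z, ext₂ (le_sup_left : Y.basicOpen α ≤ _) (le_sup_right : Y.basicOpen β ≤ _) le_rfl ?_ ?_⟩
    · have hu := (isUnit_rf W α (le_refl (Y.basicOpen α))).pow n
      rw [rs_rs]
      apply hu.smul_left_cancel.1
      rw [hz1, rs_smul, rf_pow] at hx
      exact hx
    · have hu := (isUnit_rf W β (le_refl (Y.basicOpen β))).pow m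
      rw [rs_rs]
      apply hu.smul_left_cancel.1
      rw [hz2, rs_smul, rf_pow] at hy
      exact hy

end K943.SecExt
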