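import Groth.Prelude.Def_ModSt
import Groth.Agent.ThetaS.K943.SecExt
import Groth.Agent.Flat2C.FlatSec
import Groth.Agent.CohqA.PullbackQCoh

/-!
# Cartesian comparison maps along open immersions

For an open immersion `j`, `c : E ⟶ j_* F` cartesian: `c` is bijective on sections over opens inside the range of
`j`; an isomorphism `c` is cartesian; if `E` is flat over an affine base and `j` is the base change of the complement
of a regular sequence `a, b` then `c` is an isomorphism.
-/

set_option autoImplicit false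
universe u

open CategoryTheory CategoryTheory.Limits AlgebraicGeometry TopologicalSpace Opposite
open Groth.Agent.CohqA.PullbackUniv Groth.Agent.CohqA.PullbackSections Groth.Agent.CohqA.PullbackAffine
  Groth.Agent.CohqA.PullbackQCoh

namespace K943.OpenCart

open K943.Depth2 K943.SecExt

variable {Y Z : Scheme.{u}}

/-- An isomorphic comparison map along an open immersion is cartesian. -/
theorem isCart_of_isIso (j : Y ⟶ Z) [IsOpenImmersion j] {N : Z.Modules} {M : Y.Modules}
    (c : N ⟶ (Scheme.Modules.pushforward j).obj M) [IsIso c] : ModSt.IsCart j c := by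
  intro M'
  constructor
  · intro v w e
    exact (Scheme.Modules.pushforward j).map_injective ((cancel_epi c).1 e)
  · intro v
    obtain ⟨w, hw⟩ := (Scheme.Modules.pushforward j).map_surjective (inv c ≫ v)
    exact ⟨w, by dsimp only; rw [hw, IsIso.hom_inv_id_assoc]⟩

/-- Sections over opens inside the range of `j`. -/
theorem bijective_app (j : Y ⟶ Z) [IsOpenImmersion j] {N : Z.Modules} {M : Y.Modules}
    (c : N ⟶ (Scheme.Modules.pushforward j).obj M) (hc : ModSt.IsCart j c) {W : Z.Opens}
    (hW : W ≤ j.opensRange) : Function.Bijective (c.app W) := by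
  obtain ⟨e, he, -⟩ := (isUniv_resUnit j N).exists_iso (show IsUniv j c from hc)
  rw [← he]
  have h1 : Function.Bijective ((resUnit j N).app W) := by
    rw [resUnit_app]
    have h2 : W = j ''ᵁ j ⁻¹ᵁ W := by
      rw [Scheme.Hom.image_preimage_eq_opensRange_inf]
      exact (inf_eq_right.2 hW).symm
    have h3 : IsIso (homOfLE (j.image_preimage_le W)) := by
      have h4 : IsIso (eqToHom h2.symm) := inferInstance
      have h5 : homOfLE (j.image_preimage_le W) = eqToHom h2.symm := Subsingleton.elim _ _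
      rw [h5]; exact h4
    exact ConcreteCategory.bijective_of_isIso (N.presheaf.map (homOfLE (j.image_preimage_le W)).op)
  have h2 : Function.Bijective (((Scheme.Modules.pushforward j).map e.hom).app W) :=
    ConcreteCategory.bijective_of_isIso _
  have h3 : (resUnit j N ≫ (Scheme.Modules.pushforward j).map e.hom).app W =
      (resUnit j N).app W ≫ ((Scheme.Modules.pushforward j).map e.hom).app W := rfl
  rw [h3]
  exact h2.comp h1

theorem opensRange_eq {X' X T' T : Scheme.{u}} {g' : X' ⟶ X} {q' : X' ⟶ T'} {q : X ⟶ T} {g : T' ⟶ T}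
    (h : IsPullback g' q' q g) [IsOpenImmersion g] [IsOpenImmersion g'] : g'.opensRange = q ⁻¹ᵁ g.opensRange := by
  have h1 : g' = h.isoPullback.hom ≫ pullback.fst q g := (h.isoPullback_hom_fst).symm
  ext x
  change x ∈ Set.range g' ↔ x ∈ (q ⁻¹ᵁ g.opensRange : Set X)
  rw [← IsOpenImmersion.range_pullbackFst g q, h1]
  constructor
  · rintro ⟨y, rfl⟩; exact ⟨h.isoPullback.hom y, rfl⟩
  · rintro ⟨y, rfl⟩
    obtain ⟨z, rfl⟩ := h.isoPullback.hom.surjective y
    exact ⟨z, rfl⟩

theorem le_pre {X T : Scheme.{u}} (q : X ⟶ T) (W : X.Opens) : W ≤ q ⁻¹ᵁ ⊤ := le_top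

/-- The function on an open of `X` attached to a function on the base. -/
noncomputable abbrev fn {X T : Scheme.{u}} (q : X ⟶ T) (a : Γ(T, ⊤)) (W : X.Opens) : Γ(X, W) :=
  q.appLE ⊤ W (le_pre q W) a

theorem basicOpen_fn {X T : Scheme.{u}} (q : X ⟶ T) (a : Γ(T, ⊤)) (W : X.Opens) :
    X.basicOpen (fn q a W) = W ⊓ q ⁻¹ᵁ T.basicOpen a := Scheme.basicOpen_appLE _ _ _ _ _ |>.trans rfl

theorem rf_fn {X T : Scheme.{u}} (q : X ⟶ T) (a : Γ(T, ⊤)) {W W' : X.Opens} (h : W' ≤ W) :
    rf h (fn q a W) = fn q a W' := by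
  have h1 := q.appLE_map (le_pre q W) (homOfLE h).op
  exact congr($h1 a)

open Groth.Agent.Flat2C.FlatSec in
/-- The sections of a flat quasi-coherent module on affine opens. -/
theorem hart_sections {X T : Scheme.{u}} [IsAffine T] (q : X ⟶ T) {a b : Γ(T, ⊤)} (hab : Hart a b Γ(T, ⊤))
    {E : X.Modules} (hE : Coh.IsQCoh E) (hfl : FlatMod.IsFlatOver q E) {W : X.Opens} (hW : IsAffineOpen W) :
    Hart (fn q a W) (fn q b W) Γ(E, W) := by
  have e : W ≤ q ⁻¹ᵁ ⊤ := le_top
  have h1 := (flat_sections_iff q E hW (isAffineOpen_top T) e hE).2 fun x _ => hfl x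
  let i1 : Module Γ(T, ⊤) Γ(E, W) := moduleOver q E e
  have i2 : Module.Flat Γ(T, ⊤) Γ(E, W) := h1
  exact (hab.of_flat Γ(E, W)).of_smul_eq (fun _ => rfl) (fun _ => rfl)

theorem isIso_of_bijective_affine {M N : Z.Modules} (φ : M ⟶ N)
    (h : ∀ W : Z.Opens, IsAffineOpen W → Function.Bijective (φ.app W)) : IsIso φ :=
  isIso_of_bijective_basis φ (ι := Z.affineOpens) Subtype.val
    (by rw [Subtype.range_coe_subtype]; exact Z.isBasis_affineOpens) fun i => h i.1 i.2

/-- A flat quasi-coherent module on `X` over the affine `T` is the push-forward of its restriction to the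
preimage of the open `D(a) ∪ D(b)` of `T`, for `a, b` a regular sequence on `T`. -/
theorem isIso_c {X T X' T' : Scheme.{u}} [IsAffine T] {g' : X' ⟶ X} {q' : X' ⟶ T'} {q : X ⟶ T} {g : T' ⟶ T}
    (h : IsPullback g' q' q g) [IsOpenImmersion g] [IsOpenImmersion g'] {a b : Γ(T, ⊤)}
    (hr : g.opensRange = T.basicOpen a ⊔ T.basicOpen b) (hab : Hart a b Γ(T, ⊤))
    {E : X.Modules} {F : X'.Modules} (hE : Coh.IsQCoh E) (hfl : FlatMod.IsFlatOver q E)
    (c : E ⟶ (Scheme.Modules.pushforward g').obj F) (hc : ModSt.IsCart g' c) : IsIso c := by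
  refine isIso_of_bijective_affine c fun W hW => ?_
  have h1 := hart_sections q hab hE hfl hW
  let W' : X.Opens := X.basicOpen (fn q a W) ⊔ X.basicOpen (fn q b W)
  have hle : W' ≤ W := sup_le (X.basicOpen_le _) (X.basicOpen_le _)
  have hb := bijective_rs hE hW _ _ h1 (W' := W') rfl hle
  have hW' : W' = W ⊓ g'.opensRange := by
    rw [opensRange_eq h, hr]
    change X.basicOpen (fn q a W) ⊔ X.basicOpen (fn q b W) = W ⊓ (q ⁻¹ᵁ T.basicOpen a ⊔ q ⁻¹ᵁ T.basicOpen b)
    rw [basicOpen_fn, basicOpen_fn, inf_sup_left]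
  have h2 := bijective_app g' c hc (W := W') (hW' ▸ inf_le_right)
  have h3 : g' ⁻¹ᵁ W' = g' ⁻¹ᵁ W := by
    rw [hW']
    change g' ⁻¹ᵁ W ⊓ g' ⁻¹ᵁ g'.opensRange = _
    rw [Scheme.Hom.preimage_opensRange, inf_top_eq]
  have h4 : ∀ s, c.app W' (rs E hle s) = F.presheaf.map (homOfLE h3.le).op (c.app W s) :=
    fun s => app_map c hle s
  have h5 : Function.Bijective (F.presheaf.map (homOfLE h3.le).op) := by
    have h6 : IsIso (homOfLE h3.le) := by
      have h7 : IsIso (eqToHom h3) := inferInstance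
      have h8 : homOfLE h3.le = eqToHom h3 := Subsingleton.elim _ _
      rw [h8]; exact h7
    exact ConcreteCategory.bijective_of_isIso (F.presheaf.map (homOfLE h3.le).op)
  have h6 := h2.comp hb
  have h7 : (c.app W' : Γ(E, W') → _) ∘ rs E hle = (F.presheaf.map (homOfLE h3.le).op) ∘ (c.app W) := funext h4
  rw [h7] at h6
  exact (Function.Bijective.of_comp_iff' h5 _).1 h6

end K943.OpenCart
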