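import Groth.Agent.ThetaS.K943.SpComplete
import Groth.Agent.AlgSt.K744.TorsProp
import Groth.Agent.AlgSp.K640.Joint
import Mathlib.RingTheory.FiniteType

/-!
# S-complete algebraic spaces are separated: the functor from `ST_R ∖ 0` attached to two points
-/

set_option autoImplicit false
set_option linter.style.haveILetI false
set_option backward.isDefEq.respectTransparency false
set_option backward.isDefEq.respectTransparency.types false
universe v₂ u₂ w v u
open CategoryTheory CategoryTheory.Limits AlgebraicGeometry Opposite Topology TopologicalSpace FibCat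
open CartesianMonoidalCategory MonoidalCategory
open scoped Polynomial

namespace K943.SpSep

open AlgSp ThetaS K943.SpConst K943.SpUniq K943.SpVal K943.LocPair K943.SelfLift K943.FibBase K943.CoverExt
  K943.QuotAtlas K943.QuotCover K943.QuotOpen K943.QuotTriv K943.SpNode K943.Points K943.LocLift K942.Coord
  K942.AffMain K951.Pts K943.SpTheta K640.Joint

attribute [local instance] K951.Pts.algΓ

section Gen

variable {S : Scheme.{u}} {M : Sp S} {ℬ : BasedCategory.{v₂, u₂} (Over S)}

theorem val_congr {Φ Ψ : ℬ ⥤ᵇ AlgSt.ofSp M} (α : Φ ⟶ Ψ) (b : ℬ.obj) : val Φ b = val Ψ b := by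
  obtain ⟨e1, e2, h⟩ := isHomLift_hom (α.toNatTrans.app b) (α.isHomLift' b)
  rw [val, val, ← toYon_map (α.toNatTrans.app b), ← Category.assoc, ← Functor.map_comp, h]
  congr 2
  simp

end Gen

instance lfp_Gm {R : Type u} [CommRing R] [IsNoetherianRing R] : LocallyOfFinitePresentation (Gm R).hom := by
  change LocallyOfFinitePresentation (Spec.map (CommRingCat.ofHom (algebraMap R (Lau R))))
  rw [HasRingHomProperty.Spec_iff (P := @LocallyOfFinitePresentation)]
  exact RingHom.FinitePresentation.of_finiteType.1 (RingHom.finiteType_algebraMap.2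
    (inferInstanceAs (Algebra.FiniteType R (MonoidAlgebra R (Multiplicative ℤ)))))

variable {S : Scheme.{u}} {M : Sp S} {R : Type u} [CommRing R] {π : R} (h : Spec (CommRingCat.of R) ⟶ S)

/-- Agreement where `π` is invertible. -/
theorem eq_of_unit [IsDomain R] [IsDiscreteValuationRing R] (hπ : Irreducible π) {m₁ m₂ : (yon S).obj (B0 h) ⟶ M}
    (e : (yon S).map (stB h (CoactBr.sp R (FractionRing R))) ≫ m₁ =
      (yon S).map (stB h (CoactBr.sp R (FractionRing R))) ≫ m₂) {Y : Over (Spec (CommRingCat.of R))}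
    (hu : IsUnit (algebraMap R Γ(Y.left, ⊤) π)) : (yon S).map (stB h Y) ≫ m₁ = (yon S).map (stB h Y) ≫ m₂ := by
  obtain ⟨ψ⟩ := exists_frac hπ Γ(Y.left, ⊤) hu
  rw [← stB_eq h (ofFn ψ), Functor.map_comp, Category.assoc, e, Category.assoc]

variable (π) in
/-- The locus `s ≠ 0` in the torsor. -/
noncomputable abbrev chS (b : AlgSt.QuotObj Scheme.fppfPrecoverage (Gm R) (stAction R π)) :
    Over (Spec (CommRingCat.of R)) := chart (X := b.P) (b.φ.left.appTop (stFn (sFn R π)))

variable (π) in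
/-- The locus `t ≠ 0` in the torsor. -/
noncomputable abbrev chT (b : AlgSt.QuotObj Scheme.fppfPrecoverage (Gm R) (stAction R π)) :
    Over (Spec (CommRingCat.of R)) := chart (X := b.P) (b.φ.left.appTop (stFn (tFn R π)))

variable (π) in
/-- The two charts. -/
noncomputable def ch (b : AlgSt.QuotObj Scheme.fppfPrecoverage (Gm R) (stAction R π)) (i : ULift.{u} Bool) :
    Over (Spec (CommRingCat.of R)) := if i.down then chS π b else chT π b

variable (π) in
/-- The maps of the charts to the base. -/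
noncomputable def cm (b : AlgSt.QuotObj Scheme.fppfPrecoverage (Gm R) (stAction R π)) :
    ∀ i : ULift.{u} Bool, (Over.map h).obj (ch π b i) ⟶ (Over.map h).obj b.base
  | ⟨true⟩ => (Over.map h).map (inc (X := b.P) (b.φ.left.appTop (stFn (sFn R π))) ≫ b.π)
  | ⟨false⟩ => (Over.map h).map (inc (X := b.P) (b.φ.left.appTop (stFn (tFn R π))) ≫ b.π)

theorem fpF [IsNoetherianRing R] (b : AlgSt.QuotObj Scheme.fppfPrecoverage (Gm R) (stAction R π))
    (hb : InU Scheme.fppfPrecoverage (stAction R π) (Ust π) b) : FpF (cm π h b) := by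
  haveI : Flat b.π.left := K744.TorsProp.flat_of_torsor b
  haveI : LocallyOfFinitePresentation b.π.left := K744.TorsProp.lfp_of_torsor b
  haveI : Surjective b.π.left := K744.TorsProp.surjective_of_torsor b
  refine ⟨?_, ?_, ?_⟩
  · rintro ⟨_ | _⟩
    · change Flat ((inc (X := b.P) (b.φ.left.appTop (stFn (tFn R π)))).left ≫ b.π.left); infer_instance
    · change Flat ((inc (X := b.P) (b.φ.left.appTop (stFn (sFn R π)))).left ≫ b.π.left); infer_instance
  · rintro ⟨_ | _⟩
    · change LocallyOfFinitePresentation ((inc (X := b.P) (b.φ.left.appTop (stFn (tFn R π)))).left ≫ b.π.left)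
      infer_instance
    · change LocallyOfFinitePresentation ((inc (X := b.P) (b.φ.left.appTop (stFn (sFn R π)))).left ≫ b.π.left)
      infer_instance
  · intro t
    obtain ⟨p, hp⟩ := b.π.left.surjective t
    have h1 : p ∈ b.φ.left ⁻¹ᵁ Ust π := by
      rw [show b.φ.left ⁻¹ᵁ Ust π = ⊤ from hb]; trivial
    rw [preimage_Ust] at h1
    rcases h1 with h1 | h1
    · have h2 : p ∈ (inc (X := b.P) (b.φ.left.appTop (stFn (sFn R π)))).left.opensRange := by
        rw [opensRange_inc]; exact h1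
      obtain ⟨y, hy⟩ := h2
      refine ⟨⟨true⟩, y, ?_⟩
      change b.π.left ((inc (X := b.P) (b.φ.left.appTop (stFn (sFn R π)))).left y) = t
      rw [← hp]; exact congrArg b.π.left hy
    · have h2 : p ∈ (inc (X := b.P) (b.φ.left.appTop (stFn (tFn R π)))).left.opensRange := by
        rw [opensRange_inc]; exact h1
      obtain ⟨y, hy⟩ := h2
      refine ⟨⟨false⟩, y, ?_⟩
      change b.π.left ((inc (X := b.P) (b.φ.left.appTop (stFn (tFn R π)))).left y) = t
      rw [← hp]; exact congrArg b.π.left hy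


/-- `π` is invertible where two translates lie in the two charts. -/
theorem isUnit_of_orbit (b : AlgSt.QuotObj Scheme.fppfPrecoverage (Gm R) (stAction R π))
    {Y : Over (Spec (CommRingCat.of R))} (p q : Y ⟶ b.P) (hpq : p ≫ b.π = q ≫ b.π)
    (hs : IsUnit (fn (B := STRing R π) (p ≫ b.φ) (sFn R π)))
    (ht : IsUnit (fn (B := STRing R π) (q ≫ b.φ) (tFn R π))) : IsUnit (algebraMap R Γ(Y.left, ⊤) π) := by
  let w : Y ⟶ Gm R ⊗ b.P := b.cart.lift q p hpq.symm
  have hw1 : w ≫ b.act.act = q := b.cart.lift_fst _ _ _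
  have hw2 : w ≫ snd (Gm R) b.P = p := b.cart.lift_snd _ _ _
  let g : Y ⟶ Gm R := w ≫ fst (Gm R) b.P
  have hw : w = lift g p := by
    apply CartesianMonoidalCategory.hom_ext
    · rw [lift_fst]
    · rw [lift_snd, hw2]
  have hg : sm b.act g p = q := by rw [sm, ← hw, hw1]
  have h1 : sm (stAction R π) g (p ≫ b.φ) = q ≫ b.φ := by
    rw [← sm_eqv (a := b.act) (a' := stAction R π) b.eqv, hg]
  have h2 := (fn_stAct (π := π) g (p ≫ b.φ)).2
  rw [← sm_def, h1] at h2
  have h3 : IsUnit (fn (B := STRing R π) (p ≫ b.φ) (tFn R π)) := by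
    rw [h2] at ht
    exact (IsUnit.mul_iff.1 ht).2
  have h4 := congrArg (fn (B := STRing R π) (p ≫ b.φ)) (sFn_mul_tFn R π)
  rw [map_mul, AlgHom.commutes] at h4
  rw [← h4]
  exact hs.mul h3

theorem isUnit_s {b : AlgSt.QuotObj Scheme.fppfPrecoverage (Gm R) (stAction R π)} {Y : Over (Spec (CommRingCat.of R))}
    (a : Y ⟶ chS π b) : IsUnit (fn (B := STRing R π) ((a ≫ inc (X := b.P) (b.φ.left.appTop (stFn (sFn R π)))) ≫ b.φ)
      (sFn R π)) := by
  have h1 := isUnit_inc (X := b.P) (b.φ.left.appTop (stFn (sFn R π)))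
  exact h1.map a.left.appTop.hom

theorem isUnit_t {b : AlgSt.QuotObj Scheme.fppfPrecoverage (Gm R) (stAction R π)} {Y : Over (Spec (CommRingCat.of R))}
    (a : Y ⟶ chT π b) : IsUnit (fn (B := STRing R π) ((a ≫ inc (X := b.P) (b.φ.left.appTop (stFn (tFn R π)))) ≫ b.φ)
      (tFn R π)) := by
  have h1 := isUnit_inc (X := b.P) (b.φ.left.appTop (stFn (tFn R π)))
  exact h1.map a.left.appTop.hom

/-- Agreement over a scheme mapping to both charts. -/
theorem eq_overlap [IsDomain R] [IsDiscreteValuationRing R] (hπ : Irreducible π) {m₁ m₂ : (yon S).obj (B0 h) ⟶ M}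
    (e : (yon S).map (stB h (CoactBr.sp R (FractionRing R))) ≫ m₁ =
      (yon S).map (stB h (CoactBr.sp R (FractionRing R))) ≫ m₂)
    (b : AlgSt.QuotObj Scheme.fppfPrecoverage (Gm R) (stAction R π)) {Y : Over S}
    (a : Y ⟶ (Over.map h).obj (chS π b)) (a' : Y ⟶ (Over.map h).obj (chT π b))
    (haa : a ≫ cm π h b ⟨true⟩ = a' ≫ cm π h b ⟨false⟩) :
    (yon S).map a ≫ (yon S).map (stB h (chS π b)) ≫ m₁ = (yon S).map a' ≫ (yon S).map (stB h (chT π b)) ≫ m₂ := by
  let r : Y ⟶ B0 h := a ≫ stB h (chS π b)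
  have hst : cm π h b ⟨true⟩ ≫ stB h b.base = stB h (chS π b) := stB_eq h _
  have hst' : cm π h b ⟨false⟩ ≫ stB h b.base = stB h (chT π b) := stB_eq h _
  have hr : a' ≫ stB h (chT π b) = r := by
    change _ = a ≫ stB h (chS π b)
    rw [← hst, ← hst', ← Category.assoc, ← haa, Category.assoc]
  let Y' : Over (Spec (CommRingCat.of R)) := Over.mk r.left
  let p : Y' ⟶ chS π b := Over.homMk a.left (by rfl)
  let p' : Y' ⟶ chT π b := Over.homMk a'.left (by
    have := congrArg (fun t => t.left) hr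
    exact this)
  have hpp : (p ≫ inc (X := b.P) (b.φ.left.appTop (stFn (sFn R π)))) ≫ b.π =
      (p' ≫ inc (X := b.P) (b.φ.left.appTop (stFn (tFn R π)))) ≫ b.π := by
    apply Over.OverMorphism.ext
    exact congrArg (fun t => t.left) haa
  have hu := isUnit_of_orbit b _ _ hpp (isUnit_s p) (isUnit_t p')
  have key := eq_of_unit h hπ e hu
  let j : Y ⟶ (Over.map h).obj Y' := Over.homMk (𝟙 _) (by
    have := Over.w r
    change 𝟙 _ ≫ r.left ≫ h = Y.hom
    rw [Category.id_comp, ← this]
    change r.left ≫ h = r.left ≫ 𝟙 _ ≫ h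
    rw [Category.id_comp])
  have hj : j ≫ stB h Y' = r := by
    apply Over.OverMorphism.ext
    change 𝟙 _ ≫ r.left = r.left
    rw [Category.id_comp]
  rw [← Category.assoc, ← Functor.map_comp, ← Category.assoc, ← Functor.map_comp, hr]
  change (yon S).map r ≫ m₁ = (yon S).map r ≫ m₂
  rw [← hj, Functor.map_comp, Category.assoc, key, Category.assoc]

variable (m₁ m₂ : (yon S).obj (B0 h) ⟶ M)

/-- The local values. -/
noncomputable def lv (b : AlgSt.QuotObj Scheme.fppfPrecoverage (Gm R) (stAction R π)) :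
    ∀ i : ULift.{u} Bool, (yon S).obj ((Over.map h).obj (ch π b i)) ⟶ M
  | ⟨true⟩ => (yon S).map (stB h (chS π b)) ≫ m₁
  | ⟨false⟩ => (yon S).map (stB h (chT π b)) ≫ m₂

/-- The value at `b`. -/
def IsV (b : AlgSt.QuotObj Scheme.fppfPrecoverage (Gm R) (stAction R π)) (x : (yon S).obj ((Over.map h).obj b.base) ⟶ M) :
    Prop := ∀ i, (yon S).map (cm π h b i) ≫ x = lv h m₁ m₂ b i

variable {m₁ m₂}

theorem cm_stB (b : AlgSt.QuotObj Scheme.fppfPrecoverage (Gm R) (stAction R π)) (i : ULift.{u} Bool) :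
    cm π h b i ≫ stB h b.base = stB h (ch π b i) := by
  obtain ⟨_ | _⟩ := i
  · exact stB_eq h _
  · exact stB_eq h _

theorem exists_isV [IsDomain R] [IsDiscreteValuationRing R] (hπ : Irreducible π)
    (e : (yon S).map (stB h (CoactBr.sp R (FractionRing R))) ≫ m₁ =
      (yon S).map (stB h (CoactBr.sp R (FractionRing R))) ≫ m₂)
    (b : AlgSt.QuotObj Scheme.fppfPrecoverage (Gm R) (stAction R π))
    (hb : InU Scheme.fppfPrecoverage (stAction R π) (Ust π) b) :
    ∃ x : (yon S).obj ((Over.map h).obj b.base) ⟶ M, IsV h m₁ m₂ b x := by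
  suffices hc : ∀ (i j : ULift.{u} Bool) (Y : Over S) (a : Y ⟶ (Over.map h).obj (ch π b i))
      (a' : Y ⟶ (Over.map h).obj (ch π b j)), a ≫ cm π h b i = a' ≫ cm π h b j →
        (yon S).map a ≫ lv h m₁ m₂ b i = (yon S).map a' ≫ lv h m₁ m₂ b j by
    obtain ⟨x, hx, -⟩ := (fpF h b hb).glue (lv h m₁ m₂ b) hc
    exact ⟨x, hx⟩
  have same : ∀ (i : ULift.{u} Bool) (Y : Over S) (a a' : Y ⟶ (Over.map h).obj (ch π b i)),
      a ≫ cm π h b i = a' ≫ cm π h b i → a ≫ stB h (ch π b i) = a' ≫ stB h (ch π b i) := by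
    intro i Y a a' haa
    rw [← cm_stB, ← Category.assoc, haa, Category.assoc]
  rintro ⟨_ | _⟩ ⟨_ | _⟩ Y a a' haa
  · change (yon S).map a ≫ (yon S).map (stB h (chT π b)) ≫ m₂ = (yon S).map a' ≫ (yon S).map (stB h (chT π b)) ≫ m₂
    have h1 : a ≫ stB h (chT π b) = a' ≫ stB h (chT π b) := same _ Y a a' haa
    rw [← Category.assoc, ← Functor.map_comp, h1, Functor.map_comp, Category.assoc]
  · exact (eq_overlap h hπ e b a' a haa.symm).symm
  · exact eq_overlap h hπ e b a a' haa
  · change (yon S).map a ≫ (yon S).map (stB h (chS π b)) ≫ m₁ = (yon S).map a' ≫ (yon S).map (stB h (chS π b)) ≫ m₁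
    have h1 : a ≫ stB h (chS π b) = a' ≫ stB h (chS π b) := same _ Y a a' haa
    rw [← Category.assoc, ← Functor.map_comp, h1, Functor.map_comp, Category.assoc]

theorem IsV.unique [IsNoetherianRing R] {b : AlgSt.QuotObj Scheme.fppfPrecoverage (Gm R) (stAction R π)}
    (hb : InU Scheme.fppfPrecoverage (stAction R π) (Ust π) b)
    {x y : (yon S).obj ((Over.map h).obj b.base) ⟶ M} (hx : IsV h m₁ m₂ b x) (hy : IsV h m₁ m₂ b y) : x = y :=
  (fpF h b hb).ext fun i => (hx i).trans (hy i).symm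

/-- Maps between charts. -/
theorem exists_ch {b b' : AlgSt.QuotObj Scheme.fppfPrecoverage (Gm R) (stAction R π)} (k : b ⟶ b') (q : STRing R π) :
    ∃ n : chart (X := b.P) (b.φ.left.appTop (stFn q)) ⟶ chart (X := b'.P) (b'.φ.left.appTop (stFn q)),
      n ≫ inc (X := b'.P) (b'.φ.left.appTop (stFn q)) = inc (X := b.P) (b.φ.left.appTop (stFn q)) ≫ k.top := by
  have h0 : b.φ.left = k.top.left ≫ b'.φ.left := by rw [← k.wφ]; rfl
  refine exists_factor (S := Spec (CommRingCat.of R)) _ (inc (X := b'.P) (b'.φ.left.appTop (stFn q))) ?_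
  intro y
  change _ ∈ (inc (X := b'.P) (b'.φ.left.appTop (stFn q))).left.opensRange
  rw [opensRange_inc]
  have h1 : y.1 ∈ b.P.left.basicOpen (b.φ.left.appTop (stFn q)) := y.2
  have h2 : b.P.left.basicOpen (b.φ.left.appTop (stFn q)) = k.top.left ⁻¹ᵁ b'.P.left.basicOpen (b'.φ.left.appTop (stFn q)) := by
    rw [preimage_basicOpen_top, h0, Scheme.Hom.comp_appTop]; rfl
  have h3 := h2.le h1
  exact h3

theorem IsV.map {b b' : AlgSt.QuotObj Scheme.fppfPrecoverage (Gm R) (stAction R π)} (k : b ⟶ b')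
    {x : (yon S).obj ((Over.map h).obj b'.base) ⟶ M} (hx : IsV h m₁ m₂ b' x) :
    IsV h m₁ m₂ b ((yon S).map ((Over.map h).map k.base) ≫ x) := by
  rintro ⟨_ | _⟩
  · obtain ⟨n, hn⟩ := exists_ch k (tFn R π)
    have h1 : cm π h b ⟨false⟩ ≫ (Over.map h).map k.base = (Over.map h).map n ≫ cm π h b' ⟨false⟩ := by
      change (Over.map h).map (inc (X := b.P) (b.φ.left.appTop (stFn (tFn R π))) ≫ b.π) ≫ (Over.map h).map k.base =
        (Over.map h).map n ≫ (Over.map h).map (inc (X := b'.P) (b'.φ.left.appTop (stFn (tFn R π))) ≫ b'.π)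
      rw [← Functor.map_comp, ← Functor.map_comp, Category.assoc, ← k.cart.w, ← Category.assoc, ← hn, Category.assoc]
    rw [← Category.assoc, ← Functor.map_comp, h1, Functor.map_comp, Category.assoc, hx ⟨false⟩]
    change (yon S).map ((Over.map h).map n) ≫ (yon S).map (stB h (chT π b')) ≫ m₂ = (yon S).map (stB h (chT π b)) ≫ m₂
    rw [← Category.assoc, ← Functor.map_comp, stB_eq]
  · obtain ⟨n, hn⟩ := exists_ch k (sFn R π)
    have h1 : cm π h b ⟨true⟩ ≫ (Over.map h).map k.base = (Over.map h).map n ≫ cm π h b' ⟨true⟩ := by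
      change (Over.map h).map (inc (X := b.P) (b.φ.left.appTop (stFn (sFn R π))) ≫ b.π) ≫ (Over.map h).map k.base =
        (Over.map h).map n ≫ (Over.map h).map (inc (X := b'.P) (b'.φ.left.appTop (stFn (sFn R π))) ≫ b'.π)
      rw [← Functor.map_comp, ← Functor.map_comp, Category.assoc, ← k.cart.w, ← Category.assoc, ← hn, Category.assoc]
    rw [← Category.assoc, ← Functor.map_comp, h1, Functor.map_comp, Category.assoc, hx ⟨true⟩]
    change (yon S).map ((Over.map h).map n) ≫ (yon S).map (stB h (chS π b')) ≫ m₁ = (yon S).map (stB h (chS π b)) ≫ m₁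
    rw [← Category.assoc, ← Functor.map_comp, stB_eq]

/-- Where `s` is invertible the value is the first point. -/
theorem isV_of_isUnit_s [IsDomain R] [IsDiscreteValuationRing R] (hπ : Irreducible π)
    (e : (yon S).map (stB h (CoactBr.sp R (FractionRing R))) ≫ m₁ =
      (yon S).map (stB h (CoactBr.sp R (FractionRing R))) ≫ m₂)
    (b : AlgSt.QuotObj Scheme.fppfPrecoverage (Gm R) (stAction R π))
    (hs : IsUnit (fn (B := STRing R π) b.φ (sFn R π))) : IsV h m₁ m₂ b ((yon S).map (stB h b.base) ≫ m₁) := by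
  rintro ⟨_ | _⟩
  · rw [← Category.assoc, ← Functor.map_comp, cm_stB]
    have h1 := isUnit_of_orbit b (inc (X := b.P) (b.φ.left.appTop (stFn (tFn R π)))) (inc _) rfl
      (hs.map (inc (X := b.P) (b.φ.left.appTop (stFn (tFn R π)))).left.appTop.hom)
      (by simpa using isUnit_t (𝟙 (chT π b)))
    exact eq_of_unit h hπ e h1
  · rw [← Category.assoc, ← Functor.map_comp, cm_stB]
    rfl

/-- Where `t` is invertible the value is the second point. -/
theorem isV_of_isUnit_t [IsDomain R] [IsDiscreteValuationRing R] (hπ : Irreducible π)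
    (e : (yon S).map (stB h (CoactBr.sp R (FractionRing R))) ≫ m₁ =
      (yon S).map (stB h (CoactBr.sp R (FractionRing R))) ≫ m₂)
    (b : AlgSt.QuotObj Scheme.fppfPrecoverage (Gm R) (stAction R π))
    (ht : IsUnit (fn (B := STRing R π) b.φ (tFn R π))) : IsV h m₁ m₂ b ((yon S).map (stB h b.base) ≫ m₂) := by
  rintro ⟨_ | _⟩
  · rw [← Category.assoc, ← Functor.map_comp, cm_stB]
    rfl
  · rw [← Category.assoc, ← Functor.map_comp, cm_stB]
    have h1 := isUnit_of_orbit b (inc (X := b.P) (b.φ.left.appTop (stFn (sFn R π)))) (inc _) rfl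
      (by simpa using isUnit_s (𝟙 (chS π b)))
      (ht.map (inc (X := b.P) (b.φ.left.appTop (stFn (sFn R π)))).left.appTop.hom)
    exact (eq_of_unit h hπ e h1).symm

/-- The functor from `ST_R ∖ 0` attached to two points agreeing over the fraction field. -/
theorem exists_fun [IsDomain R] [IsDiscreteValuationRing R] (hπ : Irreducible π)
    (e : (yon S).map (stB h (CoactBr.sp R (FractionRing R))) ≫ m₁ =
      (yon S).map (stB h (CoactBr.sp R (FractionRing R))) ≫ m₂) :
    ∃ Φ : sub (ThetaS.overS h (AlgSt.QuotSt Scheme.fppfPrecoverage (Gm R) (stAction R π)))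
      (InU Scheme.fppfPrecoverage (stAction R π) (Ust π)) ⥤ᵇ AlgSt.ofSp M,
      ∀ b : (sub (ThetaS.overS h (AlgSt.QuotSt Scheme.fppfPrecoverage (Gm R) (stAction R π)))
      (InU Scheme.fppfPrecoverage (stAction R π) (Ust π))).obj, IsV h m₁ m₂ b.obj (val Φ b) := by
  choose x hx using fun b : (sub (ThetaS.overS h (AlgSt.QuotSt Scheme.fppfPrecoverage (Gm R) (stAction R π)))
      (InU Scheme.fppfPrecoverage (stAction R π) (Ust π))).obj => exists_isV h hπ e b.obj b.property
  refine ⟨mkFun (ℬ := sub (ThetaS.overS h (AlgSt.QuotSt Scheme.fppfPrecoverage (Gm R) (stAction R π)))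
      (InU Scheme.fppfPrecoverage (stAction R π) (Ust π))) x fun {b b'} k => ?_, fun b => ?_⟩
  · exact IsV.unique h b.property (IsV.map h k.hom (hx b')) (hx b)
  · rw [val_mkFun]; exact hx b

/-- Every functor to `(Sch/S)` extends. -/
theorem exists_ext_of_sComplete (hc : IsSCompleteOver Scheme.fppfPrecoverage (AlgSt.ofSp M)) [IsDomain R]
    [IsDiscreteValuationRing R] (hπ : Irreducible π)
    (Φ : sub (ThetaS.overS h (AlgSt.QuotSt Scheme.fppfPrecoverage (Gm R) (stAction R π)))
      (InU Scheme.fppfPrecoverage (stAction R π) (Ust π)) ⥤ᵇ AlgSt.ofSp M) :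
    ∃ Ψ : ThetaS.overS h (AlgSt.QuotSt Scheme.fppfPrecoverage (Gm R) (stAction R π)) ⥤ᵇ AlgSt.ofSp M,
      ∀ b : (sub (ThetaS.overS h (AlgSt.QuotSt Scheme.fppfPrecoverage (Gm R) (stAction R π)))
        (InU Scheme.fppfPrecoverage (stAction R π) (Ust π))).obj, val Ψ b.obj = val Φ b := by
  have hc' : LiftSq.LiftsUniquely (subI (ThetaS.overS h (AlgSt.QuotSt Scheme.fppfPrecoverage (Gm R) (stAction R π)))
      (InU Scheme.fppfPrecoverage (stAction R π) (Ust π))) (toSelf (AlgSt.ofSp M)) := by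
    have := hc R π hπ h
    rw [← missesNode_eq]
    exact this
  let bot : ThetaS.overS h (AlgSt.QuotSt Scheme.fppfPrecoverage (Gm R) (stAction R π)) ⥤ᵇ selfOver (Over S) :=
    toSelf _
  obtain ⟨L⟩ := (hc' ⟨Φ, bot, eqToIso (functor_eq _ _)⟩).1
  refine ⟨L.fn, fun b => ?_⟩
  have h1 := val_congr L.isoTop.hom b
  rw [← h1, val_comp]
  change val L.fn b.obj = (yon S).map (𝟙 _) ≫ val L.fn b.obj
  rw [(yon S).map_id, Category.id_comp]

/-- S-complete quasi-separated algebraic spaces satisfy the uniqueness part of the valuative criterion. -/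
theorem eq_of_sComplete [QuasiSeparatedSpace ↥S] (hM : IsAlgSpace M) (hq : IsQuasiSeparatedSp M)
    (hc : IsSCompleteOver Scheme.fppfPrecoverage (AlgSt.ofSp M)) [IsDomain R]
    [IsDiscreteValuationRing R]
    (e : (yon S).map (stB h (CoactBr.sp R (FractionRing R))) ≫ m₁ =
      (yon S).map (stB h (CoactBr.sp R (FractionRing R))) ≫ m₂) : m₁ = m₂ := by
  obtain ⟨π, hπ⟩ := IsDiscreteValuationRing.exists_irreducible R
  obtain ⟨Φ, hΦ⟩ := exists_fun h hπ e
  obtain ⟨Ψ, hΨ⟩ := exists_ext_of_sComplete h hc hπ Φ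
  let g : (yon S).obj ((Over.map h).obj (STSch R π)) ⟶ M := val Ψ (u0 Scheme.fppfPrecoverage (stAction R π))
  -- restriction to the charts
  have hres : ∀ {Y : Over (Spec (CommRingCat.of R))} (y : Y ⟶ STSch R π)
      (hy : InU Scheme.fppfPrecoverage (stAction R π) (Ust π) (uObj Scheme.fppfPrecoverage (stAction R π) Y y))
      (x : (yon S).obj ((Over.map h).obj Y) ⟶ M)
      (hx : IsV h m₁ m₂ (uObj Scheme.fppfPrecoverage (stAction R π) Y y) x),
      (yon S).map ((Over.map h).map y) ≫ g = x := by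
    intro Y y hy x hx
    have h1 : (yon S).map ((Over.map h).map y) ≫ g = val Ψ (uObj Scheme.fppfPrecoverage (stAction R π) Y y) :=
      val_map Ψ (uMap (K := Scheme.fppfPrecoverage) (aX := stAction R π) y (Category.comp_id _))
    rw [h1]
    exact (hΨ ⟨_, hy⟩).trans (IsV.unique h hy (hΦ ⟨_, hy⟩) hx)
  have hφ : ∀ {Y : Over (Spec (CommRingCat.of R))} (y : Y ⟶ STSch R π),
      (uObj Scheme.fppfPrecoverage (stAction R π) Y y).φ =
        lift (fst (Gm R) Y) (snd (Gm R) Y ≫ y) ≫ (stAction R π).act := by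
    intro Y y
    change (Gm R ◁ y) ≫ _ = _
    congr 1
  refine eq_of_node hM hq hπ h g m₁ m₂ ?_ ?_
  · have hy : InU Scheme.fppfPrecoverage (stAction R π) (Ust π)
        (uObj Scheme.fppfPrecoverage (stAction R π) _ (inc (X := STSch R π) (stFn (sFn R π)))) := by
      rw [inU_uObj_iff (stable_st π), preimage_Ust]
      have h1 : fn (B := STRing R π) (inc (X := STSch R π) (stFn (sFn R π))) (sFn R π) =
        (inc (X := STSch R π) (stFn (sFn R π))).left.appTop (stFn (sFn R π)) := rfl
      rw [h1, Scheme.basicOpen_of_isUnit _ (isUnit_inc _), top_sup_eq]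
    have hs : IsUnit (fn (B := STRing R π)
        (uObj Scheme.fppfPrecoverage (stAction R π) _ (inc (X := STSch R π) (stFn (sFn R π)))).φ (sFn R π)) := by
      rw [hφ, (fn_stAct _ _).1]
      exact (isUnit_z _ _).mul ((isUnit_inc (X := STSch R π) (stFn (sFn R π))).map (snd (Gm R) _).left.appTop.hom)
    exact hres (inc (X := STSch R π) (stFn (sFn R π))) hy _ (isV_of_isUnit_s h hπ e _ hs)
  · have hy : InU Scheme.fppfPrecoverage (stAction R π) (Ust π)
        (uObj Scheme.fppfPrecoverage (stAction R π) _ (inc (X := STSch R π) (stFn (tFn R π)))) := by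
      rw [inU_uObj_iff (stable_st π), preimage_Ust]
      have h1 : fn (B := STRing R π) (inc (X := STSch R π) (stFn (tFn R π))) (tFn R π) =
        (inc (X := STSch R π) (stFn (tFn R π))).left.appTop (stFn (tFn R π)) := rfl
      rw [h1, Scheme.basicOpen_of_isUnit _ (isUnit_inc _), sup_top_eq]
    have ht : IsUnit (fn (B := STRing R π)
        (uObj Scheme.fppfPrecoverage (stAction R π) _ (inc (X := STSch R π) (stFn (tFn R π)))).φ (tFn R π)) := by
      rw [hφ, (fn_stAct _ _).2]
      exact (isUnit_z _ _).mul ((isUnit_inc (X := STSch R π) (stFn (tFn R π))).map (snd (Gm R) _).left.appTop.hom)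
    exact hres (inc (X := STSch R π) (stFn (tFn R π))) hy _ (isV_of_isUnit_t h hπ e _ ht)

end K943.SpSep
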