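import Groth.Agent.AlgSt.K741.OfSp
import Groth.Agent.AlgSt.K744.TorsProp
import Groth.Agent.AlgSp.K604.SepDvr
import Groth.Agent.S10550
import Groth.Agent.ThetaS.K943.SpSep

/-!
# Algebraic spaces locally of finite type; S-complete ones are separated
-/

set_option autoImplicit false
set_option linter.style.haveILetI false
set_option backward.isDefEq.respectTransparency false
set_option backward.isDefEq.respectTransparency.types false
universe v₂ u₂ w v u
open CategoryTheory CategoryTheory.Limits AlgebraicGeometry Opposite Topology TopologicalSpace FibCat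

namespace K943.SpLft

open AlgSp AlgSt K943.SpConst K943.SpUniq K943.SpVal K943.SelfLift K943.SpNode

variable {S : Scheme.{u}}

/-- The final algebraic space. -/
noncomputable abbrev pt (S : Scheme.{u}) : Sp S := (yon S).obj (Over.mk (𝟙 S))

theorem pt_ext {F : Sp S} (a b : F ⟶ pt S) : a = b := (K596.QC2.isTerminalYon S).hom_ext a b

/-- The section of the structure functor. -/
noncomputable def secF (S : Scheme.{u}) : selfOver (Over S) ⥤ᵇ ofSp (pt S) :=
  mkFun (ℬ := selfOver (Over S)) (M := pt S) (fun b => (yon S).map (K943.Points.str b)) (fun _ => pt_ext _ _)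

theorem isEquivOver_pt (S : Scheme.{u}) : IsEquivOver (toSelf (ofSp (pt S))) := by
  refine ⟨secF S, ?_, ⟨eqToIso (functor_eq _ _)⟩⟩
  obtain ⟨a, ⟨i⟩⟩ := K734.Rep.exists_ofSpMap (BasedFunctor.comp (toSelf (ofSp (pt S))) (secF S))
  have ha : a = 𝟙 _ := pt_ext _ _
  subst ha
  exact ⟨i⟩

theorem repWith_id (V : Over S) : RepWith @Etale (𝟙 ((yon S).obj V)) := by
  rw [← (yon S).map_id]
  exact (repWith_yon_map_iff _ _).2 (by dsimp; infer_instance)

theorem of_locP {P : MorphismProperty Scheme.{u}} {V U : Over S} {g : V ⟶ U} (h : LocP P ((yon S).map g)) :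
    P g.left := h (𝟙 _) (𝟙 _) g (repWith_id V) (repWith_id U) (by simp)

theorem smooth_of_rep {V : Over S} (y : overCat V ⥤ᵇ selfOver (Over S))
    (hy : RepByAlgSpWith (LocP @Smooth) y) : Smooth V.hom := by
  have h1 := (K741.repByAlgSpWith_toOverCat _ _).1 hy
  have h2 : RepByAlgSpWith (LocP @Smooth) (ofSpMap ((yon S).map (K943.Points.str V))) :=
    (K735.Rep.repByAlgSpWith_iff_of_sq _ (BasedFunctor.comp (toOverCat V) y) (ofSpMap ((yon S).map (K943.Points.str V)))
      (BasedFunctor.id _) (toSelf (ofSp (pt S))) K735.Fib.isEquivOver_id (isEquivOver_pt S)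
      (eqToIso (functor_eq _ _))).1 h1
  have h3 := K741.prop_of_repByAlgSpWith_ofSpMap K741.stableBC_smooth K741.isLocalOnBase_smooth
    (IsAlgSpace.yon_obj _) h2
  exact of_locP h3

/-- Spaces whose category is locally of finite type over the base. -/
theorem lft_of_locQ {F : Sp S} (hF : IsAlgSpace F) (h : LocQ (LocP @LocallyOfFiniteType) (toSelf (ofSp F)))
    (t : F ⟶ pt S) : LocP @LocallyOfFiniteType t := by
  obtain ⟨U, V, x, y, g, -, hx, hx', hy, hPh⟩ := h
  haveI : Smooth V.hom := smooth_of_rep y hy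
  haveI : LocallyOfFiniteType g.left := of_locP hPh
  have hu : LocP @Smooth (K741.spMap (BasedFunctor.comp (toOverCat U) x)) :=
    K741.prop_of_repByAlgSpWith_ofSpMap K741.stableBC_smooth K741.isLocalOnBase_smooth hF
      (K735.Rep.repByAlgSpWith_of_iso _ (K741.spMapIso _) ((K741.repByAlgSpWith_toOverCat _ _).1 hx))
  have hu' : IsSurjectiveMor (K741.spMap (BasedFunctor.comp (toOverCat U) x)) :=
    K741.prop_of_repByAlgSpWith_ofSpMap K741.stableBC_surj K741.isLocalOnBase_surj hF
      (K735.Rep.repByAlgSpWith_of_iso _ (K741.spMapIso _) ((K741.repByAlgSpWith_toOverCat _ _).1 hx'))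
  set p := K741.spMap (BasedFunctor.comp (toOverCat U) x)
  refine (Groth.Agent.S10550.result S (ι := PUnit) (fun _ => (yon S).obj U) (fun _ => p) hF
    (fun _ => IsAlgSpace.yon_obj U) ⟨fun _ => ⟨?_, ?_⟩, fun z => ⟨⟨⟩, hu' z⟩⟩ t (IsAlgSpace.yon_obj _)).2 fun _ => ?_
  · exact K597.locP_mono (fun _ _ f (hf : Smooth f) => (inferInstance : Flat f)) hu
  · exact K597.locP_mono (fun _ _ f (hf : Smooth f) => (inferInstance : LocallyOfFinitePresentation f)) hu
  · have h1 : p ≫ t = (yon S).map (K943.Points.str U) := pt_ext _ _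
    rw [h1]
    refine K744.TorsProp.locP_yon _ K597.etLoc_lft _ ?_
    change LocallyOfFiniteType U.hom
    rw [← Over.w g]
    infer_instance

theorem isSeparatedMor_pt_iff {M : Sp S} (t : M ⟶ pt S) : IsSeparatedMor t ↔ IsSeparatedSp M := by
  refine (K613.Diag.repWith_diagonal_iff @IsClosedImmersion t).trans
    (Iff.trans ?_ (K613.Chart.repWith_diag_iff @IsClosedImmersion).symm)
  exact ⟨fun h T a b => h T a b (pt_ext _ _), fun h T a b _ => h T a b⟩

/-- The uniqueness part of the valuative criterion for an S-complete space. -/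
theorem dvrUniq [QuasiSeparatedSpace ↥S] {M : Sp S} (hM : IsAlgSpace M) (hq : IsQuasiSeparatedSp M)
    (hc : ThetaS.IsSCompleteOver Scheme.fppfPrecoverage (AlgSt.ofSp M)) (t : M ⟶ pt S) : K604.SepDvr.DvrUniq t := by
  intro A _ _ _ str l l' _ e
  let i : B0 str ⟶ Over.mk str := Over.homMk (𝟙 _) (by
    change 𝟙 _ ≫ str = 𝟙 _ ≫ str
    rfl)
  let i' : Over.mk str ⟶ B0 str := Over.homMk (𝟙 _) (by
    change 𝟙 _ ≫ 𝟙 _ ≫ str = str
    rw [Category.id_comp, Category.id_comp])
  have hi : i' ≫ i = 𝟙 _ := by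
    apply Over.OverMorphism.ext
    change 𝟙 _ ≫ 𝟙 _ = 𝟙 _
    rw [Category.id_comp]
  have key : (yon S).map i ≫ l = (yon S).map i ≫ l' := by
    refine K943.SpSep.eq_of_sComplete str hM hq hc ?_
    let j : (Over.map str).obj (CoactBr.sp A (FractionRing A)) ⟶
        Over.mk (Spec.map (CommRingCat.ofHom (algebraMap A (FractionRing A))) ≫ str) := Over.homMk (𝟙 _) (by
      change 𝟙 _ ≫ _ = _
      rw [Category.id_comp]; rfl)
    have hj : stB str (CoactBr.sp A (FractionRing A)) ≫ i = j ≫
        (Over.homMk (U := Over.mk (Spec.map (CommRingCat.ofHom (algebraMap A (FractionRing A))) ≫ str))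
        (V := Over.mk str) (Spec.map (CommRingCat.ofHom (algebraMap A (FractionRing A)))) rfl) := by
      apply Over.OverMorphism.ext
      change _ ≫ 𝟙 _ = 𝟙 _ ≫ _
      rw [Category.id_comp, Category.comp_id]; rfl
    rw [← Category.assoc, ← Functor.map_comp, hj, Functor.map_comp, Category.assoc, e, ← Category.assoc,
      ← Functor.map_comp, ← hj, Functor.map_comp, Category.assoc]
  calc l = (yon S).map (i' ≫ i) ≫ l := by rw [hi, (yon S).map_id, Category.id_comp]
    _ = (yon S).map (i' ≫ i) ≫ l' := by rw [Functor.map_comp, Category.assoc, key, Category.assoc]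
    _ = l' := by rw [hi, (yon S).map_id, Category.id_comp]

/-- S-complete quasi-separated algebraic spaces locally of finite type over a locally Noetherian base are separated. -/
theorem isSeparatedSp_of_sComplete [QuasiSeparatedSpace ↥S] [IsLocallyNoetherian S] {M : Sp S} (hM : IsAlgSpace M)
    (hq : IsQuasiSeparatedSp M) (hft : LocQ (LocP @LocallyOfFiniteType) (toSelf (ofSp M)))
    (hc : ThetaS.IsSCompleteOver Scheme.fppfPrecoverage (AlgSt.ofSp M)) : IsSeparatedSp M := by
  let t : M ⟶ pt S := (K596.QC2.isTerminalYon S).from M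
  rw [← isSeparatedMor_pt_iff t]
  refine K604.SepDvr.isSeparatedMor_of_dvrUniq hM t ?_ (lft_of_locQ hM hft t) ?_ (dvrUniq hM hq hc t)
  · exact K613.Diag.repWith_diagonal_of_diag hq t
  · refine ⟨Over.mk (𝟙 S), 𝟙 _, repWith_id _, ?_, ‹IsLocallyNoetherian S›⟩
    rw [← (yon S).map_id]
    exact (repWith_yon_map_iff _ _).2 (by dsimp; infer_instance)

end K943.SpLft
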