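import Groth.Agent.ThetaS.K943.LocPair

/-!
# Lifting squares over the base category over itself

Functors over `C` to `C` over itself are all equal to the structure functor, so the bottom part of lifting data is
no condition.
-/

set_option backward.isDefEq.respectTransparency false
set_option backward.isDefEq.respectTransparency.types false
set_option autoImplicit false
set_option linter.style.haveILetI false

universe v₄ u₄ v₃ u₃ v₂ u₂ v u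

open CategoryTheory Opposite FibCat K943.FibBase K943.CoverExt K943.LocLift K943.LocLift.LL K943.LocGlue
  K943.LiftGlue K943.LocPair

namespace K943.SelfLift

variable {C : Type u} [Category.{v} C] {ℬ : BasedCategory.{v₂, u₂} C}

theorem hom_eq {V T : C} (g : V ⟶ T) {a b : C} (φ φ' : a ⟶ b) (h : (𝟭 C).IsHomLift g φ)
    (h' : (𝟭 C).IsHomLift g φ') : φ = φ' := by
  have e1 : a = V := IsHomLift.domain_eq (𝟭 C) g φ
  have e2 : b = T := IsHomLift.codomain_eq (𝟭 C) g φ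
  subst e1 e2
  exact (IsHomLift.eq_of_isHomLift (𝟭 C) g φ).symm.trans (IsHomLift.eq_of_isHomLift (𝟭 C) g φ')

theorem functor_eq (F G : ℬ ⥤ᵇ selfOver C) : F = G := by
  obtain ⟨F, hF⟩ := F
  obtain ⟨G, hG⟩ := G
  have h1 : F = ℬ.p := hF
  have h2 : G = ℬ.p := hG
  subst h1
  subst h2
  rfl

instance (F G : ℬ ⥤ᵇ selfOver C) : Subsingleton (F ⟶ G) := ⟨fun α β => by
  apply BasedNatTrans.homCategory.ext
  ext x
  exact hom_eq (𝟙 (ℬ.p.obj x)) _ _ (α.isHomLift' x) (β.isHomLift' x)⟩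

theorem nonempty_hom (F G : ℬ ⥤ᵇ selfOver C) : Nonempty (F ⟶ G) := by
  rw [functor_eq F G]; exact ⟨𝟙 _⟩

instance isFibGrpd_self : IsFibGrpd (selfOver C).p where
  exists_lift := fun {x} {V} f => ⟨V, f, IsHomLift.map (𝟭 C) f⟩
  isStronglyCartesian := fun {y x} φ =>
    { universal_property' := fun {a'} g φ' hφ' => by
        haveI : (𝟭 C).IsHomLift (g ≫ (𝟭 C).map φ) φ' := hφ'
        have h1 : g ≫ φ = φ' := IsHomLift.eq_of_isHomLift (𝟭 C) (g ≫ (𝟭 C).map φ) φ'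
        exact ⟨g, ⟨IsHomLift.map (𝟭 C) g, h1⟩, fun χ ⟨h, _⟩ => by
          haveI : (𝟭 C).IsHomLift g χ := h
          exact (IsHomLift.eq_of_isHomLift (𝟭 C) g χ).symm⟩ }

theorem isPrestack_self (J : GrothendieckTopology C) : Stk.IsPrestack J (selfOver C) := by
  refine ⟨isFibGrpd_self, fun U R _ => ⟨⟨fun {F G} α => ?_⟩, ⟨fun {F G} α β _ => Subsingleton.elim _ _⟩⟩⟩
  obtain ⟨β⟩ := nonempty_hom F G
  exact ⟨β, Subsingleton.elim _ _⟩

variable {𝒳 : BasedCategory.{v₃, u₃} C}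

/-- Unique extension of morphisms relative to the base. -/
theorem uniqAt_self {V T : C} (i : V ⟶ T)
    (H : ∀ (xv x x' : 𝒳.obj) (t : xv ⟶ x) (t' : xv ⟶ x') (ψ : 𝒳.p.obj x ⟶ 𝒳.p.obj x') [IsIso ψ],
      𝒳.p.IsHomLift i t → 𝒳.p.IsHomLift i t' → 𝒳.p.map t ≫ ψ = 𝒳.p.map t' →
        ∃! φ : x ⟶ x', 𝒳.p.map φ = ψ ∧ t ≫ φ = t') : UniqAt i (toSelf 𝒳) := by
  intro xv x x' t t' ψ ht ht' hψ e
  have hψ' : IsIso ψ := isIso_of_lift_id (selfOver C).p (T := T) ψ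
  obtain ⟨φ, ⟨h1, h2⟩, h3⟩ := H xv x x' t t' ψ ht ht' e
  refine ⟨φ, ⟨?_, h2, h1⟩, fun φ' h => h3 φ' ⟨h.2.2, h.2.1⟩⟩
  have e1 : 𝒳.p.obj x = T := IsHomLift.codomain_eq 𝒳.p i t
  have e2 : 𝒳.p.obj x' = T := IsHomLift.codomain_eq 𝒳.p i t'
  change (𝟭 C).IsHomLift (𝟙 T) ψ at hψ
  have e3 : ψ = eqToHom (e1.trans e2.symm) := by
    refine hom_eq (𝟙 T) _ _ hψ ?_
    have : ∀ {a b : C} (h1 : a = T) (h2 : b = T), (𝟭 C).IsHomLift (𝟙 T) (eqToHom (h1.trans h2.symm)) := by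
      rintro a b rfl rfl
      exact IsHomLift.map (𝟭 C) (𝟙 _)
    exact this e1 e2
  refine IsHomLift.of_fac 𝒳.p (𝟙 T) φ e1 e2 ?_
  rw [h1, e3]; simp

variable {Q : ℬ.obj → Prop}

/-- Local dotted arrows relative to the base: an extension along `p k`. -/
theorem exists_LL_self (sq : LiftSq.Sq (subI ℬ Q) (toSelf 𝒳)) (v : (sub ℬ Q).obj) {b : ℬ.obj}
    (k : v.obj ⟶ b) (hk : IsQTerm v k) (x : 𝒳.obj) (t : sq.top.obj v ⟶ x)
    (ht : 𝒳.p.IsHomLift (ℬ.p.map k) t) : Nonempty (LL sq b) := by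
  have e1 : 𝒳.p.obj x = ℬ.p.obj b := IsHomLift.codomain_eq 𝒳.p (ℬ.p.map k) t
  have e2 : sq.bot.obj b = ℬ.p.obj b := sq.bot.w_obj b
  have hβ : (selfOver C).p.IsHomLift (𝟙 (ℬ.p.obj b)) (eqToHom (e1.trans e2.symm)) := by
    have : ∀ {a c T : C} (h1 : a = T) (h2 : c = T), (𝟭 C).IsHomLift (𝟙 T) (eqToHom (h1.trans h2.symm)) := by
      rintro a b T rfl rfl
      exact IsHomLift.map (𝟭 C) (𝟙 _)
    exact this e1 e2
  refine exists_LL (f := toSelf 𝒳) v k hk x t (eqToHom (e1.trans e2.symm)) ht hβ ?_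
  have h1 : (selfOver C).p.IsHomLift (𝟙 (ℬ.p.obj v.obj)) (sq.iso.hom.toNatTrans.app v) := sq.iso.hom.isHomLift' v
  have h2 : (selfOver C).p.IsHomLift (ℬ.p.map k) ((toSelf 𝒳).map t) :=
    BasedFunctor.preserves_isHomLift (toSelf 𝒳) _ _
  have h3 : ℬ.p.IsHomLift (ℬ.p.map k) k := IsHomLift.map ℬ.p k
  have h4 : (selfOver C).p.IsHomLift (ℬ.p.map k) (sq.bot.map k) := BasedFunctor.preserves_isHomLift sq.bot _ _
  refine hom_eq (ℬ.p.map k) _ _ ?_ h4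
  have h5 : (selfOver C).p.IsHomLift (𝟙 (ℬ.p.obj v.obj) ≫ ℬ.p.map k ≫ 𝟙 (ℬ.p.obj b))
      (sq.iso.hom.toNatTrans.app v ≫ (toSelf 𝒳).map t ≫ eqToHom (e1.trans e2.symm)) := inferInstance
  rw [Category.id_comp, Category.comp_id] at h5
  exact h5

end K943.SelfLift
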