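import Groth.Agent.ThetaS.K943.QuotOpen

/-!
# Morphisms between trivial torsors given by a function to the group
-/

set_option backward.isDefEq.respectTransparency false
set_option backward.isDefEq.respectTransparency.types false
set_option autoImplicit false
set_option linter.style.haveILetI false

universe u

open CategoryTheory CategoryTheory.Limits MonoidalCategory CartesianMonoidalCategory MonObj GrpObj AlgebraicGeometry
open K943.QuotAtlas

namespace K943.QuotTriv

variable {S : Scheme.{u}} {G : Over S} [GrpObj G] {X : Over S} {aX : AlgGrp.Action G X}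
  {K : Precoverage Scheme.{u}} [K.HasIsos]

/-- Right translation by `g : Y ⟶ G` on `G × Y`. -/
noncomputable def rt {Y : Over S} (g : Y ⟶ G) : G ⊗ Y ⟶ G ⊗ Y := lift (fst G Y * (snd G Y ≫ g)) (snd G Y)

theorem rt_snd {Y : Over S} (g : Y ⟶ G) : rt g ≫ snd G Y = snd G Y := lift_snd _ _

theorem rt_rt {Y : Over S} (g g' : Y ⟶ G) (h : g * g' = 1) : rt g ≫ rt g' = 𝟙 _ := by
  apply CartesianMonoidalCategory.hom_ext
  · rw [rt, rt, Category.assoc, lift_fst, comp_mul, lift_fst, lift_snd_assoc, _root_.mul_assoc, ← comp_mul, h, comp_one,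
      _root_.mul_one, Category.id_comp]
  · rw [Category.assoc, rt_snd, rt_snd, Category.id_comp]

theorem isIso_rt {Y : Over S} (g : Y ⟶ G) : IsIso (rt g) :=
  ⟨rt g⁻¹, rt_rt g g⁻¹ (mul_inv_cancel g), rt_rt g⁻¹ g (inv_mul_cancel g)⟩

theorem top_fst {Y Z : Over S} (g : Y ⟶ G) (h : Y ⟶ Z) :
    (rt g ≫ (G ◁ h)) ≫ fst G Z = fst G Y * (snd G Y ≫ g) := by
  rw [Category.assoc, whiskerLeft_fst, rt, lift_fst]

theorem top_snd {Y Z : Over S} (g : Y ⟶ G) (h : Y ⟶ Z) : (rt g ≫ (G ◁ h)) ≫ snd G Z = snd G Y ≫ h := by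
  rw [Category.assoc, whiskerLeft_snd, ← Category.assoc, rt_snd]

theorem top_eqv {Y Z : Over S} (g : Y ⟶ G) (h : Y ⟶ Z) :
    (AlgSt.leftMul G Y).act ≫ (rt g ≫ (G ◁ h)) = (G ◁ (rt g ≫ (G ◁ h))) ≫ (AlgSt.leftMul G Z).act := by
  apply eqv_of_sm (a := AlgSt.leftMul G Y) (a' := AlgSt.leftMul G Z)
  intro T c x
  rw [sm_leftMul, sm_leftMul]
  apply CartesianMonoidalCategory.hom_ext
  · rw [lift_fst, Category.assoc, top_fst, Category.assoc x, top_fst, comp_mul, lift_fst, lift_snd_assoc, comp_mul,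
      _root_.mul_assoc]
    simp only [Category.assoc]
  · rw [lift_snd, Category.assoc, top_snd, lift_snd_assoc, Category.assoc, Category.assoc x, top_snd]

/-- The morphism of trivial torsors over `h` given by `g : Y ⟶ G` with `g · z(h) = y`. -/
noncomputable def uMapG {Y Z : Over S} {y : Y ⟶ X} {z : Z ⟶ X} (h : Y ⟶ Z) (g : Y ⟶ G)
    (e : sm aX g (h ≫ z) = y) : uObj K aX Y y ⟶ uObj K aX Z z where
  base := h
  top := rt g ≫ (G ◁ h)
  eqv := top_eqv g h
  cart := by
    have h1 : IsPullback (rt g) (snd G Y) (snd G Y) (𝟙 Y) := by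
      haveI := isIso_rt g
      exact IsPullback.of_horiz_isIso ⟨by rw [rt_snd, Category.comp_id]⟩
    have h2 := h1.paste_horiz (AlgSt.isPullback_whiskerLeft (G := G) h)
    rw [Category.id_comp] at h2
    exact h2
  wφ := by
    change (rt g ≫ (G ◁ h)) ≫ (G ◁ z) ≫ aX.act = (G ◁ y) ≫ aX.act
    have e1 : (rt g ≫ (G ◁ h)) ≫ (G ◁ z) ≫ aX.act = sm aX (fst G Y * (snd G Y ≫ g)) (snd G Y ≫ h ≫ z) := by
      rw [sm, ← Category.assoc]
      have e3 : (rt g ≫ (G ◁ h)) ≫ (G ◁ z) = lift (fst G Y * (snd G Y ≫ g)) (snd G Y ≫ h ≫ z) := by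
        apply CartesianMonoidalCategory.hom_ext
        · rw [lift_fst, Category.assoc, whiskerLeft_fst, top_fst]
        · rw [lift_snd, Category.assoc, whiskerLeft_snd, ← Category.assoc, top_snd, Category.assoc]
      rw [e3]
    have e2 : (G ◁ y) ≫ aX.act = sm aX (fst G Y) (snd G Y ≫ y) := by
      have e3 : (G ◁ y) = lift (fst G Y) (snd G Y ≫ y) := by
        apply CartesianMonoidalCategory.hom_ext
        · simp
        · simp
      rw [sm, e3]
    rw [e1, e2, sm_mul, ← e, comp_sm]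

end K943.QuotTriv
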