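import Groth.Agent.ThetaS.K942.Coord
import Groth.Agent.ThetaS.K943.QuotTriv

/-!
# The points `1` of `Θ_R` and `(1, π)` of `ST_R` and the open charts over them
-/

set_option autoImplicit false
set_option linter.dupNamespace false
set_option backward.isDefEq.respectTransparency false
set_option backward.isDefEq.respectTransparency.types false

universe u

open CategoryTheory MonoidalCategory CartesianMonoidalCategory MonObj GrpObj AlgebraicGeometry
  TopologicalSpace Opposite
open scoped TensorProduct Polynomial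

namespace K943.Points

open ThetaS K951.Pts K942.Coord K943.QuotOpen K943.QuotAtlas K943.QuotTriv

attribute [local instance] K951.Pts.algΓ

variable {R : Type u} [CommRing R]

/-- A unit is a point of the multiplicative group. -/
theorem exists_gm {T : Over (Spec (CommRingCat.of R))} (w : (Γ(T.left, ⊤))ˣ) :
    ∃ l : T ⟶ Gm R, ∀ n : ℤ, fn (B := Lau R) l (zPow R n) = ((w ^ n : (Γ(T.left, ⊤))ˣ) : Γ(T.left, ⊤)) := by
  refine ⟨ofFn (MonoidAlgebra.lift R _ (Multiplicative ℤ) ((Units.coeHom _).comp (zpowersHom _ w))), fun n => ?_⟩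
  rw [fn_ofFn, zPow, MonoidAlgebra.lift_single, one_smul]
  rfl

/-- The open chart `D(a)` of `X`. -/
noncomputable def chart {X : Over (Spec (CommRingCat.of R))} (a : Γ(X.left, ⊤)) : Over (Spec (CommRingCat.of R)) :=
  Over.mk ((X.left.basicOpen a).ι ≫ X.hom)

/-- Its inclusion. -/
noncomputable def inc {X : Over (Spec (CommRingCat.of R))} (a : Γ(X.left, ⊤)) : chart a ⟶ X :=
  Over.homMk (X.left.basicOpen a).ι rfl

instance {X : Over (Spec (CommRingCat.of R))} (a : Γ(X.left, ⊤)) : IsOpenImmersion (inc a).left := by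
  change IsOpenImmersion (X.left.basicOpen a).ι; infer_instance

theorem opensRange_inc {X : Over (Spec (CommRingCat.of R))} (a : Γ(X.left, ⊤)) :
    (inc a).left.opensRange = X.left.basicOpen a := Scheme.Opens.opensRange_ι _

theorem isUnit_inc {X : Over (Spec (CommRingCat.of R))} (a : Γ(X.left, ⊤)) : IsUnit ((inc a).left.appTop a) := by
  have h1 : (X.left.basicOpen a).ι ⁻¹ᵁ X.left.basicOpen a = ⊤ := by simp
  have h3 : (chart a).left.basicOpen ((inc a).left.appTop a) = ⊤ := by
    rw [← preimage_basicOpen_top]; exact h1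
  exact RingedSpace.isUnit_of_isUnit_germ (X := (chart a).left.toRingedSpace) ⊤ _ fun x hx =>
    ((chart a).left.mem_basicOpen _ x hx).1 (h3.ge hx)

section Line

/-- The point `1` of the line. -/
noncomputable def one : Over.mk (𝟙 (Spec (CommRingCat.of R))) ⟶ Line R := ofFn (linePt 1)

/-- The structure morphism, to the base. -/
noncomputable def str {S : Scheme.{u}} (Y : Over S) : Y ⟶ Over.mk (𝟙 S) := Over.homMk Y.hom (Category.comp_id _)

theorem exists_line : ∃ g : chart (X := Line R) (lineFn Polynomial.X) ⟶ Gm R,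
    sm (lineAction R) g (str _ ≫ one) = inc (X := Line R) (lineFn Polynomial.X) := by
  obtain ⟨g, hg⟩ := exists_gm (isUnit_inc (X := Line R) (lineFn Polynomial.X)).unit
  refine ⟨g, ?_⟩
  apply fn_injective (B := R[X])
  apply Polynomial.algHom_ext
  rw [sm_def, fn_lineAct, hg, zpow_one, IsUnit.unit_spec]
  have h1 : fn (B := R[X]) (str (chart (X := Line R) (lineFn Polynomial.X)) ≫ one) Polynomial.X = 1 := by
    rw [fn_comp, one, fn_ofFn, linePt, Polynomial.aeval_X, map_one]
  rw [h1, _root_.mul_one]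
  rfl

theorem inU_one (K : Precoverage Scheme.{u}) [K.HasIsos] (ϖ : R) :
    InU K (lineAction R) (Uline ϖ) (uObj K (lineAction R) _ one) := by
  rw [inU_uObj_iff (stable_line ϖ), preimage_Uline]
  have h1 : fn (B := R[X]) (one (R := R)) Polynomial.X = 1 := by
    rw [one, fn_ofFn, linePt, Polynomial.aeval_X]
  rw [h1, Scheme.basicOpen_of_isUnit _ isUnit_one, top_sup_eq]

end Line

section ST

variable (π : R)

/-- The point `(1, π)` of `Spec R[s, t]/(st − π)`. -/
noncomputable def oneST : Over.mk (𝟙 (Spec (CommRingCat.of R))) ⟶ STSch R π :=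
  ofFn (stPt 1 (algebraMap R _ π) (_root_.one_mul _))

theorem exists_st : ∃ g : chart (X := STSch R π) (stFn (sFn R π)) ⟶ Gm R,
    sm (stAction R π) g (str _ ≫ oneST π) = inc (X := STSch R π) (stFn (sFn R π)) := by
  obtain ⟨g, hg⟩ := exists_gm (isUnit_inc (X := STSch R π) (stFn (sFn R π))).unit
  have hs : fn (B := STRing R π) (str (chart (X := STSch R π) (stFn (sFn R π))) ≫ oneST π) (sFn R π) = 1 := by
    rw [fn_comp, oneST, fn_ofFn, stPt_sFn, map_one]
  have e1 : fn (B := STRing R π) (inc (X := STSch R π) (stFn (sFn R π))) (sFn R π) =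
      (inc (X := STSch R π) (stFn (sFn R π))).left.appTop (stFn (sFn R π)) := rfl
  have e2 := congrArg (fn (B := STRing R π) (inc (X := STSch R π) (stFn (sFn R π)))) (sFn_mul_tFn R π)
  rw [map_mul, AlgHom.commutes] at e2
  have hst := congrArg (fn (B := STRing R π) (str (chart (X := STSch R π) (stFn (sFn R π))) ≫ oneST π)) (sFn_mul_tFn R π)
  rw [map_mul, AlgHom.commutes, hs, _root_.one_mul] at hst
  refine ⟨g, ?_⟩
  apply fn_injective (B := STRing R π)
  apply stRing_algHom_ext
  · rw [sm_def, (fn_stAct (π := π) g (str _ ≫ oneST π)).1, hg, zpow_one, IsUnit.unit_spec, hs, _root_.mul_one]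
    rfl
  · rw [sm_def, (fn_stAct (π := π) g (str _ ≫ oneST π)).2, hg, zpow_neg, zpow_one, hst, ← e2, e1, ← _root_.mul_assoc,
      IsUnit.val_inv_mul, _root_.one_mul]

theorem inU_oneST (K : Precoverage Scheme.{u}) [K.HasIsos] :
    InU K (stAction R π) (Ust π) (uObj K (stAction R π) _ (oneST π)) := by
  rw [inU_uObj_iff (stable_st π), preimage_Ust]
  have h1 : fn (B := STRing R π) (oneST π) (sFn R π) = 1 := by
    rw [oneST, fn_ofFn, stPt_sFn]
  rw [h1, Scheme.basicOpen_of_isUnit _ isUnit_one, top_sup_eq]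

end ST

end K943.Points
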