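import Groth.Agent.ThetaS.K943.QuotCover
import Mathlib.AlgebraicGeometry.Morphisms.Flat

/-!
# Lifting squares against open substacks of quotient stacks

`U` a `G`-stable open of `X`; the open substack of `[X/G]` on the objects whose equivariant map lands in `U`.
-/

set_option backward.isDefEq.respectTransparency false
set_option backward.isDefEq.respectTransparency.types false
set_option autoImplicit false
set_option linter.style.haveILetI false

universe w' v' w v u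

open CategoryTheory CategoryTheory.Limits MonoidalCategory CartesianMonoidalCategory MonObj GrpObj AlgebraicGeometry
open FibCat K943.FibBase K943.CoverExt K943.LocLift K943.LocGlue K943.QuotAtlas K943.QuotCover K943.LocPair

namespace K943.QuotOpen

variable {S' : Scheme.{u}} {G : Over S'} [GrpObj G] {X : Over S'} {aX : AlgGrp.Action G X}
  {K : Precoverage Scheme.{u}}

/-- The object's equivariant map lands in `U`. -/
def InU (K : Precoverage Scheme.{u}) {S' : Scheme.{u}} {G : Over S'} [GrpObj G] {X : Over S'}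
    (aX : AlgGrp.Action G X) (U : X.left.Opens) (b : AlgSt.QuotObj K G aX) : Prop := b.φ.left ⁻¹ᵁ U = ⊤

/-- `U` is stable under the action. -/
def Stable (aX : AlgGrp.Action G X) (U : X.left.Opens) : Prop :=
  aX.act.left ⁻¹ᵁ U = (snd G X).left ⁻¹ᵁ U

theorem closedInto_inU {S : Scheme.{u}} (h : S' ⟶ S) (U : X.left.Opens) :
    ClosedInto (ℬ := ThetaS.overS h (AlgSt.QuotSt K G aX)) (InU K aX U) := by
  intro a b m hb
  change a.φ.left ⁻¹ᵁ U = ⊤
  have h1 : a.φ.left = m.top.left ≫ b.φ.left := by rw [← m.wφ]; rfl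
  rw [h1]
  change m.top.left ⁻¹ᵁ (b.φ.left ⁻¹ᵁ U) = ⊤
  rw [show b.φ.left ⁻¹ᵁ U = ⊤ from hb]; rfl

/-- The restriction of an `S'`-scheme over `X` to the preimage of `U`. -/
noncomputable abbrev YU {Y : Over S'} (y : Y ⟶ X) (U : X.left.Opens) : Over S' :=
  Over.mk ((y.left ⁻¹ᵁ U).ι ≫ Y.hom)

/-- Its inclusion. -/
noncomputable abbrev openMap {Y : Over S'} (y : Y ⟶ X) (U : X.left.Opens) : YU y U ⟶ Y :=
  Over.homMk (y.left ⁻¹ᵁ U).ι

variable [K.HasIsos]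

theorem inU_uObj_iff {U : X.left.Opens} (hU : Stable aX U) {Y : Over S'} (y : Y ⟶ X) :
    InU K aX U (uObj K aX Y y) ↔ y.left ⁻¹ᵁ U = ⊤ := by
  have h1 : (uObj K aX Y y).φ.left ⁻¹ᵁ U = (snd G Y).left ⁻¹ᵁ (y.left ⁻¹ᵁ U) := by
    change ((G ◁ y) ≫ aX.act).left ⁻¹ᵁ U = _
    have h2 : ((G ◁ y) ≫ aX.act).left ⁻¹ᵁ U = (G ◁ y).left ⁻¹ᵁ (aX.act.left ⁻¹ᵁ U) := rfl
    have h3 : (G ◁ y).left ⁻¹ᵁ ((snd G X).left ⁻¹ᵁ U) = ((G ◁ y) ≫ snd G X).left ⁻¹ᵁ U := rfl
    rw [h2, hU, h3, whiskerLeft_snd]; rfl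
  change (uObj K aX Y y).φ.left ⁻¹ᵁ U = ⊤ ↔ _
  rw [h1]
  constructor
  · intro h
    have h2 : (lift (1 : Y ⟶ G) (𝟙 Y)).left ⁻¹ᵁ ((snd G Y).left ⁻¹ᵁ (y.left ⁻¹ᵁ U)) = ⊤ := by
      rw [h]; rfl
    have h3 : (lift (1 : Y ⟶ G) (𝟙 Y)).left ⁻¹ᵁ ((snd G Y).left ⁻¹ᵁ (y.left ⁻¹ᵁ U)) =
      (lift (1 : Y ⟶ G) (𝟙 Y) ≫ snd G Y).left ⁻¹ᵁ (y.left ⁻¹ᵁ U) := rfl
    rw [h3, lift_snd] at h2
    exact h2
  · intro h
    rw [h]; rfl

theorem inU_YU {U : X.left.Opens} (hU : Stable aX U) {Y : Over S'} (y : Y ⟶ X) :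
    InU K aX U (uObj K aX (YU y U) (openMap y U ≫ y)) := by
  rw [inU_uObj_iff hU]
  change (y.left ⁻¹ᵁ U).ι ⁻¹ᵁ (y.left ⁻¹ᵁ U) = ⊤
  simp

/-- The open part of `uObj Y y`. -/
noncomputable abbrev vObj {S : Scheme.{u}} (h : S' ⟶ S) {U : X.left.Opens} (hU : Stable aX U) {Y : Over S'} (y : Y ⟶ X) :
    (sub (ThetaS.overS h (AlgSt.QuotSt K G aX)) (InU K aX U)).obj :=
  ⟨uObj K aX (YU y U) (openMap y U ≫ y), inU_YU hU y⟩

variable [K.IsStableUnderBaseChange]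

instance mono_openMap {Y : Over S'} (y : Y ⟶ X) (U : X.left.Opens) : Mono (openMap y U) := by
  haveI : Mono ((Over.forget S').map (openMap y U)) := by
    change Mono (y.left ⁻¹ᵁ U).ι
    infer_instance
  exact (Over.forget S').mono_of_mono_map this

theorem isQTerm {S : Scheme.{u}} (h : S' ⟶ S) {U : X.left.Opens} (hU : Stable aX U) {Y : Over S'} (y : Y ⟶ X) :
    IsQTerm (ℬ := ThetaS.overS h (AlgSt.QuotSt K G aX)) (Q := InU K aX U) (vObj (K := K) h hU y)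
      (b := uObj K aX Y y) (uMap (K := K) (aX := aX) (openMap y U) rfl) := by
  intro a m
  haveI : IsFibGrpd (AlgSt.QuotSt K G aX).p := K744.QuotFib.isFibGrpd
  have ha : a.obj.φ.left ⁻¹ᵁ U = ⊤ := a.property
  -- the base map lands in the open
  have h1 : (nbase m).left ⁻¹ᵁ (y.left ⁻¹ᵁ U) = ⊤ := by
    have h2 : a.obj.π.left ⁻¹ᵁ ((nbase m).left ⁻¹ᵁ (y.left ⁻¹ᵁ U)) = ⊤ := by
      have e1 : a.obj.φ.left ⁻¹ᵁ U = (ntop m ≫ (G ◁ y) ≫ aX.act).left ⁻¹ᵁ U := by rw [nφ]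
      have e2 : (ntop m ≫ (G ◁ y) ≫ aX.act).left ⁻¹ᵁ U =
        (ntop m ≫ (G ◁ y)).left ⁻¹ᵁ (aX.act.left ⁻¹ᵁ U) := rfl
      have e3 : (ntop m ≫ (G ◁ y)).left ⁻¹ᵁ ((snd G X).left ⁻¹ᵁ U) =
        (ntop m ≫ (G ◁ y) ≫ snd G X).left ⁻¹ᵁ U := rfl
      have e4 : ntop m ≫ (G ◁ y) ≫ snd G X = a.obj.π ≫ nbase m ≫ y := by
        rw [whiskerLeft_snd, ← Category.assoc, (ncart m).w, Category.assoc]
      rw [ha, e2, hU, e3, e4] at e1
      exact e1.symm
    have h3 : (sec m).left ⁻¹ᵁ (a.obj.π.left ⁻¹ᵁ ((nbase m).left ⁻¹ᵁ (y.left ⁻¹ᵁ U))) = ⊤ := by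
      rw [h2]; rfl
    have h4 : (sec m).left ⁻¹ᵁ (a.obj.π.left ⁻¹ᵁ ((nbase m).left ⁻¹ᵁ (y.left ⁻¹ᵁ U))) =
      (sec m ≫ a.obj.π).left ⁻¹ᵁ ((nbase m).left ⁻¹ᵁ (y.left ⁻¹ᵁ U)) := rfl
    rw [h4, sec_π] at h3
    exact h3
  have h5 : Set.range (nbase m).left ⊆ Set.range (y.left ⁻¹ᵁ U).ι := by
    rw [Scheme.Opens.range_ι]
    rintro _ ⟨t, rfl⟩
    have : t ∈ (nbase m).left ⁻¹ᵁ (y.left ⁻¹ᵁ U) := by rw [h1]; trivial
    exact this
  let g : a.obj.base ⟶ YU y U := Over.homMk (IsOpenImmersion.lift (y.left ⁻¹ᵁ U).ι (nbase m).left h5) (by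
    change IsOpenImmersion.lift (y.left ⁻¹ᵁ U).ι (nbase m).left h5 ≫ (y.left ⁻¹ᵁ U).ι ≫ Y.hom = _
    rw [IsOpenImmersion.lift_fac_assoc]
    exact Over.w (nbase m))
  have hg : g ≫ openMap y U = nbase m := by
    apply Over.OverMorphism.ext
    exact IsOpenImmersion.lift_fac _ _ _
  obtain ⟨w, ⟨hw1, hw2⟩, -⟩ := existsUnique_fac (AlgSt.QuotSt K G aX).p
    (uMap (K := K) (aX := aX) (Y := YU y U) (y := openMap y U ≫ y) (openMap y U) rfl) m g hg
  refine ⟨ObjectProperty.homMk w, hw2, ?_⟩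
  intro w' hw'
  apply ObjectProperty.hom_ext
  refine cart_ext (AlgSt.QuotSt K G aX).p
    (uMap (K := K) (aX := aX) (Y := YU y U) (y := openMap y U ≫ y) (openMap y U) rfl) ?_ (hw'.trans hw2.symm)
  rw [← cancel_mono (openMap y U)]
  have e1 : nbase w'.hom ≫ openMap y U = nbase m := congrArg (fun t => t.base) hw'
  exact e1.trans (by rw [← hg, ← hw1]; rfl)

omit [K.HasIsos] [K.IsStableUnderBaseChange] in
theorem flat_act [Flat G.hom] (aX : AlgGrp.Action G X) : Flat aX.act.left := by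
  -- the shear map is an isomorphism
  let ψ : G ⊗ X ⟶ G ⊗ X := lift (fst G X) aX.act
  let ψ' : G ⊗ X ⟶ G ⊗ X := lift (fst G X) (sm aX (fst G X)⁻¹ (snd G X))
  have h1 : ψ ≫ ψ' = 𝟙 _ := by
    apply CartesianMonoidalCategory.hom_ext
    · simp [ψ, ψ']
    · simp only [ψ, ψ', Category.assoc, lift_snd, comp_sm, comp_inv, lift_fst, Category.id_comp]
      rw [← fst_sm_snd aX, ← sm_mul, inv_mul_cancel, sm_one]
  have h2 : ψ' ≫ ψ = 𝟙 _ := by
    apply CartesianMonoidalCategory.hom_ext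
    · simp [ψ, ψ']
    · simp only [ψ, ψ', Category.assoc, lift_snd, Category.id_comp]
      rw [← fst_sm_snd aX, comp_sm, lift_fst, lift_snd, ← sm_mul, mul_inv_cancel, sm_one]
  haveI : IsIso ψ := ⟨ψ', h1, h2⟩
  have h3 : aX.act = ψ ≫ snd G X := (lift_snd _ _).symm
  have h4 : aX.act.left = ψ.left ≫ (snd G X).left := by rw [h3]; rfl
  rw [h4]
  haveI : IsIso ψ.left := by
    change IsIso ((Over.forget S').map ψ); infer_instance
  haveI : Flat (snd G X).left := by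
    have h5 := (AlgSt.isPullback_fst_snd G X).map (Over.forget S')
    have h6 : IsPullback (fst G X).left (snd G X).left (toUnit G).left (toUnit X).left := h5
    have h7 : Flat (toUnit G).left := by
      have : (toUnit G).left = G.hom := by
        have := Over.w (toUnit G)
        rw [← this]; exact (Category.comp_id _).symm
      rw [this]; infer_instance
    exact MorphismProperty.of_isPullback h6 h7
  infer_instance

omit [K.HasIsos] [K.IsStableUnderBaseChange] in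
theorem flat_whiskerLeft {Y Z : Over S'} (y : Y ⟶ Z) [hy : Flat y.left] : Flat (G ◁ y).left := by
  have h5 := (AlgSt.isPullback_whiskerLeft (G := G) y).map (Over.forget S')
  have h6 : IsPullback (G ◁ y).left (snd G Y).left (snd G Z).left y.left := h5
  exact MorphismProperty.of_isPullback h6.flip hy

omit [K.HasIsos] [K.IsStableUnderBaseChange] in
theorem isAffine_tensor [IsAffineHom G.hom] (Y : Over S') [IsAffine Y.left] : IsAffine (G ⊗ Y).left := by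
  have h5 := (AlgSt.isPullback_fst_snd G Y).map (Over.forget S')
  have h6 : IsPullback (fst G Y).left (snd G Y).left (toUnit G).left (toUnit Y).left := h5
  have h7 : IsAffineHom (toUnit G).left := by
    have : (toUnit G).left = G.hom := by
      have := Over.w (toUnit G)
      rw [← this]; exact (Category.comp_id _).symm
    rw [this]; infer_instance
  haveI : IsAffineHom (snd G Y).left := MorphismProperty.of_isPullback h6 h7
  exact isAffine_of_isAffineHom (snd G Y).left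

section Main

variable {S : Scheme.{u}} (h : S' ⟶ S) {U : X.left.Opens} (hU : Stable aX U)
  {𝒳 : BasedCategory.{v, w} (Over S)} {𝒴 : BasedCategory.{v', w'} (Over S)} {f : 𝒳 ⥤ᵇ 𝒴}

/-- Morphisms extend uniquely along the open parts of all flat affine `X`-schemes. -/
def UniqFlat (h : S' ⟶ S) (U : X.left.Opens) (f : 𝒳 ⥤ᵇ 𝒴) : Prop :=
  ∀ (Y : Over S') (y : Y ⟶ X), Flat y.left → IsAffine Y.left → UniqAt ((Over.map h).map (openMap y U)) f

include hU in
theorem uniqLift_quot [Flat G.hom] [IsAffineHom G.hom] [IsAffine X.left]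
    (h𝒳 : Stk.IsPrestack (QuotSh.J K S) 𝒳) (h𝒴 : Stk.IsPrestack (QuotSh.J K S) 𝒴) (H : UniqFlat h U f)
    (sq : LiftSq.Sq (subI (ThetaS.overS h (AlgSt.QuotSt K G aX)) (InU K aX U)) f) : sq.UniqLift := by
  haveI := h𝒳.1
  haveI := h𝒴.1
  have key : ∀ (Y : Over S') (y : Y ⟶ X), Flat y.left → IsAffine Y.left →
      Uniq1 sq (uObj K aX Y y) ∧ Uniq2 sq (uObj K aX Y y) := fun Y y h1 h2 =>
    ⟨uniq1 _ _ (isQTerm h hU y) (H Y y h1 h2), uniq2 _ _ (isQTerm h hU y) (H Y y h1 h2)⟩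
  have k0 := key X (𝟙 X) (by change Flat (𝟙 X.left); infer_instance) inferInstance
  haveI := isAffine_tensor (G := G) X
  haveI := flat_act aX
  have k1 := key (u0 K aX).P (u0 K aX).φ (by
    change Flat ((G ◁ 𝟙 X) ≫ aX.act).left
    rw [MonoidalCategory.whiskerLeft_id, Category.id_comp]; infer_instance) (isAffine_tensor (G := G) X)
  exact LiftMain.uniqLift (ℬ := ThetaS.overS h (AlgSt.QuotSt K G aX)) (closedInto_inU h U)
    (u0 := u0 K aX) (u1 := u1 K aX) (π1 := qb (u0 K aX)) (π2 := rb (u0 K aX)) isSq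
    (fun b => h𝒳.2 _ (cov_mem h b)) (fun b => h𝒴.2 _ (cov_mem h b)) k0.1 k0.2 k1.2

include hU in
theorem hasLift_quot [Flat G.hom] [IsAffineHom G.hom] [IsAffine X.left]
    (h𝒳 : Stk.IsStack (QuotSh.J K S) 𝒳) (h𝒴 : Stk.IsPrestack (QuotSh.J K S) 𝒴) (H : UniqFlat h U f)
    (sq : LiftSq.Sq (subI (ThetaS.overS h (AlgSt.QuotSt K G aX)) (InU K aX U)) f)
    (ℓ0 : Nonempty (LL sq (u0 K aX))) : sq.HasLift := by
  haveI := h𝒳.1
  haveI := h𝒴.1
  have key : ∀ (Y : Over S') (y : Y ⟶ X), Flat y.left → IsAffine Y.left →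
      Uniq1 sq (uObj K aX Y y) ∧ Uniq2 sq (uObj K aX Y y) := fun Y y h1 h2 =>
    ⟨uniq1 _ _ (isQTerm h hU y) (H Y y h1 h2), uniq2 _ _ (isQTerm h hU y) (H Y y h1 h2)⟩
  haveI := isAffine_tensor (G := G) X
  haveI hfa := flat_act aX
  have hf1 : Flat (u0 K aX).φ.left := by
    change Flat ((G ◁ 𝟙 X) ≫ aX.act).left
    rw [MonoidalCategory.whiskerLeft_id, Category.id_comp]; infer_instance
  have k1 := key (u0 K aX).P (u0 K aX).φ hf1 (isAffine_tensor (G := G) X)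
  haveI : IsAffine (u0 K aX).P.left := isAffine_tensor (G := G) X
  have k2 := key (u1 K aX).P (u1 K aX).φ (by
    change Flat ((G ◁ (u0 K aX).φ) ≫ aX.act).left
    haveI := flat_whiskerLeft (G := G) (u0 K aX).φ
    change Flat ((G ◁ (u0 K aX).φ).left ≫ aX.act.left)
    infer_instance) (isAffine_tensor (G := G) (u0 K aX).P)
  exact LiftMain.hasLift (ℬ := ThetaS.overS h (AlgSt.QuotSt K G aX)) (closedInto_inU h U)
    (u0 := u0 K aX) (u1 := u1 K aX) (u2 := u2 K aX) (π1 := qb (u0 K aX)) (π2 := rb (u0 K aX)) isSq isTri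
    (fun b => h𝒳.2 _ (cov_mem h b)) (fun b => h𝒴.2 _ (cov_mem h b)) ℓ0.some k1.1 k2.2

include hU in
/-- The lifting criterion: extension of objects at the atlas, unique extension of morphisms at all flat affine
schemes over the atlas. -/
theorem liftsUniquely_quot [Flat G.hom] [IsAffineHom G.hom] [IsAffine X.left]
    (h𝒳 : Stk.IsStack (QuotSh.J K S) 𝒳) (h𝒴 : Stk.IsPrestack (QuotSh.J K S) 𝒴) (H : UniqFlat h U f)
    (H0 : LiftsAt ((Over.map h).map (openMap (𝟙 X) U)) f) :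
    LiftSq.LiftsUniquely (subI (ThetaS.overS h (AlgSt.QuotSt K G aX)) (InU K aX U)) f := by
  intro sq
  haveI := h𝒴.1
  have h𝒳' : Stk.IsPrestack (QuotSh.J K S) 𝒳 := ⟨h𝒳.1, fun _ R hR => prestackFor_of_stackFor (h𝒳.2 R hR)⟩
  exact ⟨hasLift_quot h hU h𝒳 h𝒴 H sq (exists_LL_of_liftsAt (ℬ := ThetaS.overS h (AlgSt.QuotSt K G aX))
    _ _ (isQTerm h hU (𝟙 X)) H0 sq), uniqLift_quot h hU h𝒳' h𝒴 H sq⟩

end Main

end K943.QuotOpen
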