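import Groth.Agent.ThetaS.K943.BcLift
import Groth.Agent.ThetaS.K942.Coord

/-!
# Base change of the multiplicative group, the line and `Spec R[s,t]/(st − π)`
-/

set_option backward.isDefEq.respectTransparency false
set_option backward.isDefEq.respectTransparency.types false
set_option autoImplicit false
set_option linter.style.haveILetI false

universe u

open CategoryTheory CategoryTheory.Limits MonoidalCategory CartesianMonoidalCategory MonObj GrpObj AlgebraicGeometry
open scoped TensorProduct Polynomial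

namespace K943.BcRing

open ThetaS K951.Pts K942.Coord K943.BcFun

attribute [local instance] K951.Pts.algΓ

section gen

variable {S₀ S₁ : Scheme.{u}} {j : S₁ ⟶ S₀}

theorem isPullback_of_ex {X₁ : Over S₁} {X₀ : Over S₀} (r : (Over.map j).obj X₁ ⟶ X₀)
    (H : ∀ {T : Over S₁} (g : (Over.map j).obj T ⟶ X₀), ∃! g₁ : T ⟶ X₁, (Over.map j).map g₁ ≫ r = g) :
    IsPullback r.left X₁.hom X₀.hom j := by
  refine ⟨⟨Over.w r⟩, ⟨PullbackCone.IsLimit.mk _ (fun s => ?_) ?_ ?_ ?_⟩⟩
  · let T : Over S₁ := Over.mk s.snd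
    let g : (Over.map j).obj T ⟶ X₀ := Over.homMk s.fst s.condition
    exact (H g).choose.left
  · intro s
    let T : Over S₁ := Over.mk s.snd
    let g : (Over.map j).obj T ⟶ X₀ := Over.homMk s.fst s.condition
    exact congrArg (fun t => t.left) (H g).choose_spec.1
  · intro s
    let T : Over S₁ := Over.mk s.snd
    let g : (Over.map j).obj T ⟶ X₀ := Over.homMk s.fst s.condition
    exact Over.w (H g).choose
  · intro s m h1 h2
    let T : Over S₁ := Over.mk s.snd
    let g : (Over.map j).obj T ⟶ X₀ := Over.homMk s.fst s.condition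
    let m' : T ⟶ X₁ := Over.homMk m h2
    exact congrArg (fun t => t.left) ((H g).choose_spec.2 m' (Over.OverMorphism.ext h1))

end gen

variable {R : Type u} [CommRing R] {R' : Type u} [CommRing R'] [Algebra R R']

variable (R R') in
/-- The morphism of base schemes. -/
noncomputable abbrev jj : Spec (CommRingCat.of R') ⟶ Spec (CommRingCat.of R) :=
  Spec.map (CommRingCat.ofHom (algebraMap R R'))

section bc

variable {B B' : Type u} [CommRing B] [Algebra R B] [CommRing B'] [Algebra R' B']

/-- The morphism attached to a ring map over `R ⟶ R'`. -/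
noncomputable def bc (c : B →+* B') (hc : c.comp (algebraMap R B) = (algebraMap R' B').comp (algebraMap R R')) :
    (Over.map (jj R R')).obj (CoactBr.sp R' B') ⟶ CoactBr.sp R B :=
  Over.homMk (Spec.map (CommRingCat.ofHom c)) (by
    change Spec.map (CommRingCat.ofHom c) ≫ Spec.map (CommRingCat.ofHom (algebraMap R B)) =
      Spec.map (CommRingCat.ofHom (algebraMap R' B')) ≫ Spec.map (CommRingCat.ofHom (algebraMap R R'))
    rw [← Spec.map_comp, ← Spec.map_comp, ← CommRingCat.ofHom_comp, ← CommRingCat.ofHom_comp, hc])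

theorem fn_bc {c : B →+* B'} {hc : c.comp (algebraMap R B) = (algebraMap R' B').comp (algebraMap R R')}
    {T : Over (Spec (CommRingCat.of R'))} (t : T ⟶ CoactBr.sp R' B') (b : B) :
    fn (W := (Over.map (jj R R')).obj T) ((Over.map (jj R R')).map t ≫ bc c hc) b = fn t (c b) := by
  rw [fn_apply, fn_apply]
  exact congr($(fnS_comp_map t.left c) b)

end bc

theorem algebraMap_map {T : Over (Spec (CommRingCat.of R'))} (a : R) :
    algebraMap R Γ(((Over.map (jj R R')).obj T).left, ⊤) a = algebraMap R' Γ(T.left, ⊤) (algebraMap R R' a) := by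
  change fnS (T.hom ≫ Spec.map (CommRingCat.ofHom (algebraMap R R'))) a = fnS T.hom (algebraMap R R' a)
  rw [fnS_comp_map]; rfl

section gm

variable (R R') in
/-- `R[z, z⁻¹] ⟶ R'[z, z⁻¹]`. -/
noncomputable def cLau : Lau R →+* Lau R' :=
  (MonoidAlgebra.lift R (Lau R') (Multiplicative ℤ) (MonoidAlgebra.of R' (Multiplicative ℤ))).toRingHom

theorem cLau_zPow (n : ℤ) : cLau R R' (zPow R n) = zPow R' n := by
  change MonoidAlgebra.lift R (Lau R') (Multiplicative ℤ) (MonoidAlgebra.of R' (Multiplicative ℤ)) _ = _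
  rw [zPow, MonoidAlgebra.lift_single, one_smul]; rfl

theorem cLau_comp : (cLau R R').comp (algebraMap R (Lau R)) = (algebraMap R' (Lau R')).comp (algebraMap R R') := by
  have h := (MonoidAlgebra.lift R (Lau R') (Multiplicative ℤ) (MonoidAlgebra.of R' (Multiplicative ℤ))).comp_algebraMap
  exact h

variable (R R') in
/-- `Gm` over `R'` to `Gm` over `R`. -/
noncomputable def qGm : (Over.map (jj R R')).obj (Gm R') ⟶ Gm R := bc (cLau R R') cLau_comp

theorem fn_qGm {T : Over (Spec (CommRingCat.of R'))} (t : T ⟶ Gm R') (n : ℤ) :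
    fn (B := Lau R) (W := (Over.map (jj R R')).obj T) ((Over.map (jj R R')).map t ≫ qGm R R') (zPow R n) =
      fn (B := Lau R') t (zPow R' n) := by
  have h := fn_bc (R := R) (R' := R') (B := Lau R) (B' := Lau R') (c := cLau R R') (hc := cLau_comp) (T := T) t
    (zPow R n)
  rw [cLau_zPow] at h
  exact h

theorem gm_ext {T : Over (Spec (CommRingCat.of R))} {g h : T ⟶ Gm R}
    (e : ∀ n : ℤ, fn (B := Lau R) g (zPow R n) = fn (B := Lau R) h (zPow R n)) : g = h := by
  exact chiR_injective (M := ℤ) (w := g) (w' := h) (MonoidHom.ext fun m => e m.toAdd)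

theorem fn_mul_zPow {T : Over (Spec (CommRingCat.of R))} (g h : T ⟶ Gm R) (n : ℤ) :
    fn (B := Lau R) (g * h) (zPow R n) = fn (B := Lau R) g (zPow R n) * fn (B := Lau R) h (zPow R n) := by
  have h1 := congrArg (fun t => t (Multiplicative.ofAdd n)) (chiR_mul (M := ℤ) g h)
  exact h1

theorem isBc_qGm : IsBc (qGm R R') where
  ex := by
    intro T g
    let χ : Multiplicative ℤ →* Γ(T.left, ⊤) :=
      (fn (B := Lau R) (W := (Over.map (jj R R')).obj T) g).toMonoidHom.comp (MonoidAlgebra.of R (Multiplicative ℤ))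
    let g₁ : T ⟶ Gm R' := ofFn (B := Lau R') (MonoidAlgebra.lift R' Γ(T.left, ⊤) (Multiplicative ℤ) χ)
    have hg₁ : ∀ n, fn (B := Lau R') g₁ (zPow R' n) = fn (B := Lau R) (W := (Over.map (jj R R')).obj T) g (zPow R n) := by
      intro n
      have h1 : fn (B := Lau R') g₁ = MonoidAlgebra.lift R' Γ(T.left, ⊤) (Multiplicative ℤ) χ := fn_ofFn _
      rw [h1, zPow, MonoidAlgebra.lift_single, one_smul]; rfl
    refine ⟨g₁, ?_, ?_⟩
    · apply gm_ext
      intro n
      rw [fn_qGm, hg₁]
    · intro g₂ hg₂
      apply gm_ext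
      intro n
      rw [hg₁, ← hg₂, fn_qGm]
  mul := by
    intro T g h
    apply gm_ext
    intro n
    rw [fn_qGm, fn_mul_zPow, fn_mul_zPow, fn_qGm, fn_qGm]

end gm

section line

variable (R R') in
/-- `R[x] ⟶ R'[x]`. -/
noncomputable def cLine : R[X] →+* R'[X] := Polynomial.mapRingHom (algebraMap R R')

theorem cLine_comp : (cLine R R').comp (algebraMap R R[X]) = (algebraMap R' R'[X]).comp (algebraMap R R') := by
  ext a
  simp [cLine]

variable (R R') in
/-- The line over `R'` to the line over `R`. -/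
noncomputable def rLine : (Over.map (jj R R')).obj (Line R') ⟶ Line R := bc (cLine R R') cLine_comp

theorem fn_rLine {T : Over (Spec (CommRingCat.of R'))} (t : T ⟶ Line R') (b : R[X]) :
    fn (B := R[X]) (W := (Over.map (jj R R')).obj T) ((Over.map (jj R R')).map t ≫ rLine R R') b =
      fn (B := R'[X]) t (cLine R R' b) := fn_bc (B := R[X]) (B' := R'[X]) t b

theorem cLine_X : cLine R R' Polynomial.X = Polynomial.X := by simp [cLine]

theorem cLine_C (a : R) : cLine R R' (Polynomial.C a) = Polynomial.C (algebraMap R R' a) := by simp [cLine]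

theorem line_ext {T : Over (Spec (CommRingCat.of R))} {g h : T ⟶ Line R}
    (e : fn (B := R[X]) g Polynomial.X = fn (B := R[X]) h Polynomial.X) : g = h := by
  apply fn_injective (B := R[X])
  exact Polynomial.algHom_ext e

theorem ex_line {T : Over (Spec (CommRingCat.of R'))} (g : (Over.map (jj R R')).obj T ⟶ Line R) :
    ∃! g₁ : T ⟶ Line R', (Over.map (jj R R')).map g₁ ≫ rLine R R' = g := by
  let x : Γ(T.left, ⊤) := fn (B := R[X]) (W := (Over.map (jj R R')).obj T) g Polynomial.X
  let g₁ : T ⟶ Line R' := ofFn (B := R'[X]) (linePt (R := R') x)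
  have hg₁ : fn (B := R'[X]) g₁ Polynomial.X = x := by
    have h1 : fn (B := R'[X]) g₁ = linePt (R := R') x := fn_ofFn _
    rw [h1]; exact Polynomial.aeval_X _
  refine ⟨g₁, ?_, ?_⟩
  · apply line_ext
    rw [fn_rLine, cLine_X, hg₁]
  · intro g₂ hg₂
    apply line_ext
    rw [hg₁]
    change _ = fn (B := R[X]) (W := (Over.map (jj R R')).obj T) g Polynomial.X
    rw [← hg₂, fn_rLine, cLine_X]

theorem isPullback_line : IsPullback (rLine R R').left (Line R').hom (Line R).hom (jj R R') :=
  isPullback_of_ex _ ex_line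

theorem isEqv_line : IsEqv (qGm R R') (lineAction R') (lineAction R) (rLine R R') := by
  have h1 : κ (qGm R R') (Line R') ≫ (Gm R ◁ rLine R R') =
      lift ((Over.map (jj R R')).map (fst (Gm R') (Line R')) ≫ qGm R R')
        ((Over.map (jj R R')).map (snd (Gm R') (Line R')) ≫ rLine R R') := by
    apply CartesianMonoidalCategory.hom_ext
    · rw [Category.assoc, whiskerLeft_fst, κ_fst, lift_fst]
    · rw [Category.assoc, whiskerLeft_snd, ← Category.assoc, κ_snd, lift_snd]
  change (Over.map (jj R R')).map (lineAction R').act ≫ rLine R R' = _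
  rw [← Category.assoc (κ _ _), h1]
  apply line_ext
  rw [fn_rLine, cLine_X]
  refine Eq.trans ?_ (fn_lineAct _ _).symm
  rw [fn_rLine, cLine_X, fn_qGm]
  have h2 := fn_lineAct (R := R') (fst (Gm R') (Line R')) (snd (Gm R') (Line R'))
  rw [lift_fst_snd, Category.id_comp] at h2
  exact h2

theorem preimage_line (ϖ : R) : (rLine R R').left ⁻¹ᵁ Uline ϖ = Uline (algebraMap R R' ϖ) := by
  have h1 := preimage_Uline (R := R) ϖ (rLine R R')
  have h2 := preimage_Uline (R := R') (algebraMap R R' ϖ) (𝟙 (Line R'))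
  have h3 : fn (B := R[X]) (W := (Over.map (jj R R')).obj (Line R')) (rLine R R') Polynomial.X =
      fn (B := R'[X]) (𝟙 (Line R')) Polynomial.X := by
    have := fn_rLine (R := R) (𝟙 (Line R')) Polynomial.X
    rw [CategoryTheory.Functor.map_id, Category.id_comp, cLine_X] at this
    exact this
  have h4 : fn (B := R[X]) (W := (Over.map (jj R R')).obj (Line R')) (rLine R R') (Polynomial.C ϖ) =
      fn (B := R'[X]) (𝟙 (Line R')) (Polynomial.C (algebraMap R R' ϖ)) := by
    have := fn_rLine (R := R) (𝟙 (Line R')) (Polynomial.C ϖ)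
    rw [CategoryTheory.Functor.map_id, Category.id_comp, cLine_C] at this
    exact this
  rw [h1, h3, h4]
  exact h2.symm

end line

section st

variable (π : R)

variable (R') in
/-- `R[s, t]/(st − π) ⟶ R'[s, t]/(st − π)` as an algebra map. -/
noncomputable def cStA : STRing R π →ₐ[R] STRing R' (algebraMap R R' π) :=
  stPt (sFn R' (algebraMap R R' π)) (tFn R' (algebraMap R R' π)) (by
    rw [sFn_mul_tFn, ← IsScalarTower.algebraMap_apply])

variable (R') in
/-- `R[s, t]/(st − π) ⟶ R'[s, t]/(st − π)`. -/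
noncomputable def cSt : STRing R π →+* STRing R' (algebraMap R R' π) := (cStA R' π).toRingHom

theorem cSt_s : cSt R' π (sFn R π) = sFn R' (algebraMap R R' π) := stPt_sFn _ _ _

theorem cSt_t : cSt R' π (tFn R π) = tFn R' (algebraMap R R' π) := stPt_tFn _ _ _

theorem cSt_comp : (cSt R' π).comp (algebraMap R (STRing R π)) =
    (algebraMap R' (STRing R' (algebraMap R R' π))).comp (algebraMap R R') := by
  rw [← IsScalarTower.algebraMap_eq]
  exact (cStA R' π).comp_algebraMap

variable (R') in
/-- The scheme `st = π` over `R'` to that over `R`. -/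
noncomputable def rSt : (Over.map (jj R R')).obj (STSch R' (algebraMap R R' π)) ⟶ STSch R π :=
  bc (cSt R' π) (cSt_comp π)

variable {π}

theorem fn_rSt {T : Over (Spec (CommRingCat.of R'))} (t : T ⟶ STSch R' (algebraMap R R' π)) (b : STRing R π) :
    fn (B := STRing R π) (W := (Over.map (jj R R')).obj T) ((Over.map (jj R R')).map t ≫ rSt R' π) b =
      fn (B := STRing R' (algebraMap R R' π)) t (cSt R' π b) :=
  fn_bc (R := R) (R' := R') (B := STRing R π) (B' := STRing R' (algebraMap R R' π)) (c := cSt R' π)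
    (hc := cSt_comp π) (T := T) t b

theorem st_ext {T : Over (Spec (CommRingCat.of R))} {g h : T ⟶ STSch R π}
    (e : fn (B := STRing R π) g (sFn R π) = fn (B := STRing R π) h (sFn R π))
    (e' : fn (B := STRing R π) g (tFn R π) = fn (B := STRing R π) h (tFn R π)) : g = h := by
  apply fn_injective (B := STRing R π)
  exact stRing_algHom_ext e e'

theorem ex_st {T : Over (Spec (CommRingCat.of R'))} (g : (Over.map (jj R R')).obj T ⟶ STSch R π) :
    ∃! g₁ : T ⟶ STSch R' (algebraMap R R' π), (Over.map (jj R R')).map g₁ ≫ rSt R' π = g := by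
  let x : Γ(T.left, ⊤) := fn (B := STRing R π) (W := (Over.map (jj R R')).obj T) g (sFn R π)
  let y : Γ(T.left, ⊤) := fn (B := STRing R π) (W := (Over.map (jj R R')).obj T) g (tFn R π)
  have hxy : x * y = algebraMap R' Γ(T.left, ⊤) (algebraMap R R' π) := by
    have h0 := map_mul (fn (B := STRing R π) (W := (Over.map (jj R R')).obj T) g) (sFn R π) (tFn R π)
    have h0' := (fn (B := STRing R π) (W := (Over.map (jj R R')).obj T) g).commutes π
    rw [sFn_mul_tFn] at h0
    rw [← algebraMap_map, ← h0', h0]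
  let g₁ : T ⟶ STSch R' (algebraMap R R' π) := ofFn (B := STRing R' (algebraMap R R' π)) (stPt x y hxy)
  have h1 : fn (B := STRing R' (algebraMap R R' π)) g₁ = stPt x y hxy := fn_ofFn _
  have h2 : fn (B := STRing R' (algebraMap R R' π)) g₁ (sFn R' (algebraMap R R' π)) = x := by
    rw [h1]; exact stPt_sFn _ _ _
  have h3 : fn (B := STRing R' (algebraMap R R' π)) g₁ (tFn R' (algebraMap R R' π)) = y := by
    rw [h1]; exact stPt_tFn _ _ _
  refine ⟨g₁, ?_, ?_⟩
  · apply st_ext
    · rw [fn_rSt, cSt_s, h2]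
    · rw [fn_rSt, cSt_t, h3]
  · intro g₂ hg₂
    apply st_ext
    · rw [h2]
      change _ = fn (B := STRing R π) (W := (Over.map (jj R R')).obj T) g _
      rw [← hg₂, fn_rSt, cSt_s]
    · rw [h3]
      change _ = fn (B := STRing R π) (W := (Over.map (jj R R')).obj T) g _
      rw [← hg₂, fn_rSt, cSt_t]

theorem isPullback_st : IsPullback (rSt R' π).left (STSch R' (algebraMap R R' π)).hom (STSch R π).hom (jj R R') :=
  isPullback_of_ex _ ex_st

theorem isEqv_st : IsEqv (qGm R R') (stAction R' (algebraMap R R' π)) (stAction R π) (rSt R' π) := by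
  have h1 : κ (qGm R R') (STSch R' (algebraMap R R' π)) ≫ (Gm R ◁ rSt R' π) =
      lift ((Over.map (jj R R')).map (fst (Gm R') (STSch R' (algebraMap R R' π))) ≫ qGm R R')
        ((Over.map (jj R R')).map (snd (Gm R') (STSch R' (algebraMap R R' π))) ≫ rSt R' π) := by
    apply CartesianMonoidalCategory.hom_ext
    · rw [Category.assoc, whiskerLeft_fst, κ_fst, lift_fst]
    · rw [Category.assoc, whiskerLeft_snd, ← Category.assoc, κ_snd, lift_snd]
  change (Over.map (jj R R')).map (stAction R' (algebraMap R R' π)).act ≫ rSt R' π = _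
  rw [← Category.assoc (κ _ _), h1]
  have h2 := fn_stAct (R := R') (fst (Gm R') (STSch R' (algebraMap R R' π)))
    (snd (Gm R') (STSch R' (algebraMap R R' π)))
  rw [lift_fst_snd, Category.id_comp] at h2
  apply st_ext
  · rw [fn_rSt, cSt_s]
    refine Eq.trans ?_ (fn_stAct _ _).1.symm
    rw [fn_rSt, cSt_s, fn_qGm]
    exact h2.1
  · rw [fn_rSt, cSt_t]
    refine Eq.trans ?_ (fn_stAct _ _).2.symm
    rw [fn_rSt, cSt_t, fn_qGm]
    exact h2.2

theorem preimage_st : (rSt R' π).left ⁻¹ᵁ Ust π = Ust (algebraMap R R' π) := by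
  have h1 := preimage_Ust (R := R) π (rSt R' π)
  have h2 := preimage_Ust (R := R') (algebraMap R R' π) (𝟙 (STSch R' (algebraMap R R' π)))
  have h3 : fn (B := STRing R π) (W := (Over.map (jj R R')).obj (STSch R' (algebraMap R R' π))) (rSt R' π) (sFn R π) =
      fn (B := STRing R' (algebraMap R R' π)) (𝟙 (STSch R' (algebraMap R R' π))) (sFn R' (algebraMap R R' π)) := by
    have := fn_rSt (R := R) (π := π) (𝟙 (STSch R' (algebraMap R R' π))) (sFn R π)
    rw [CategoryTheory.Functor.map_id, Category.id_comp, cSt_s] at this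
    exact this
  have h4 : fn (B := STRing R π) (W := (Over.map (jj R R')).obj (STSch R' (algebraMap R R' π))) (rSt R' π) (tFn R π) =
      fn (B := STRing R' (algebraMap R R' π)) (𝟙 (STSch R' (algebraMap R R' π))) (tFn R' (algebraMap R R' π)) := by
    have := fn_rSt (R := R) (π := π) (𝟙 (STSch R' (algebraMap R R' π))) (tFn R π)
    rw [CategoryTheory.Functor.map_id, Category.id_comp, cSt_t] at this
    exact this
  rw [h1, h3, h4]
  exact h2.symm

end st

end K943.BcRing
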