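import Groth.Prelude.Def_AlgSt5

/-!
# The atlas `X ⟶ [X/G]` and products with it in the total category of the quotient stack

For an object `b = (P ⟶ T, φ)` of `QuotSt K G aX` the product of `b` with the atlas object `quotMap (X, 𝟙)` in the
category `QuotObj K G aX` is `quotMap (P, φ)`.
-/

set_option backward.isDefEq.respectTransparency false
set_option backward.isDefEq.respectTransparency.types false
set_option autoImplicit false
set_option linter.style.haveILetI false
set_option linter.unusedSectionVars false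

universe u

open CategoryTheory CategoryTheory.Limits MonoidalCategory CartesianMonoidalCategory MonObj GrpObj AlgebraicGeometry

namespace K943.QuotAtlas

variable {S : Scheme.{u}} {G : Over S} [GrpObj G]

section Sm

variable {X : Over S} (a : AlgGrp.Action G X)

/-- The action on points. -/
noncomputable def sm {T : Over S} (g : T ⟶ G) (x : T ⟶ X) : T ⟶ X := lift g x ≫ a.act

theorem sm_def {T : Over S} (g : T ⟶ G) (x : T ⟶ X) : sm a g x = lift g x ≫ a.act := rfl

theorem comp_sm {T T' : Over S} (h : T' ⟶ T) (g : T ⟶ G) (x : T ⟶ X) :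
    h ≫ sm a g x = sm a (h ≫ g) (h ≫ x) := by
  rw [sm, sm, ← Category.assoc, comp_lift]

theorem sm_one {T : Over S} (x : T ⟶ X) : sm a 1 x = x := by
  have h : lift (1 : T ⟶ G) x = lift (toUnit T) x ≫ (η[G] ▷ X) := by
    rw [lift_whiskerRight, Hom.one_def]
  rw [sm, h, Category.assoc, a.one_act]
  simp

theorem sm_mul {T : Over S} (g h : T ⟶ G) (x : T ⟶ X) : sm a (g * h) x = sm a g (sm a h x) := by
  have e1 : lift (g * h) x = lift (lift g h) x ≫ (μ[G] ▷ X) := by
    rw [lift_whiskerRight, Hom.mul_def]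
  have e2 : lift g (lift h x ≫ a.act) = lift g (lift h x) ≫ (G ◁ a.act) := by
    rw [lift_whiskerLeft]
  rw [sm, sm, sm, e1, e2, Category.assoc, Category.assoc, a.mul_act]
  simp

theorem fst_sm_snd : sm a (fst G X) (snd G X) = a.act := by
  rw [sm, lift_fst_snd, Category.id_comp]

/-- An equivariant map on points. -/
theorem sm_eqv {Y : Over S} {a : AlgGrp.Action G X} {a' : AlgGrp.Action G Y} {φ : X ⟶ Y}
    (h : a.act ≫ φ = (G ◁ φ) ≫ a'.act) {T : Over S} (g : T ⟶ G) (x : T ⟶ X) :
    sm a g x ≫ φ = sm a' g (x ≫ φ) := by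
  rw [sm, sm, Category.assoc, h, ← Category.assoc, lift_whiskerLeft]

theorem eqv_of_sm {Y : Over S} {a : AlgGrp.Action G X} {a' : AlgGrp.Action G Y} {φ : X ⟶ Y}
    (h : ∀ {T : Over S} (g : T ⟶ G) (x : T ⟶ X), sm a g x ≫ φ = sm a' g (x ≫ φ)) :
    a.act ≫ φ = (G ◁ φ) ≫ a'.act := by
  have := h (fst G X) (snd G X)
  rw [fst_sm_snd] at this
  rw [this, sm]
  congr 1

end Sm

theorem sm_leftMul {T W : Over S} (g : W ⟶ G) (x : W ⟶ G ⊗ T) :
    sm (AlgSt.leftMul G T) g x = lift (g * (x ≫ fst G T)) (x ≫ snd G T) := by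
  rw [sm, AlgSt.leftMul, comp_lift, comp_mul, lift_fst, lift_snd_assoc, lift_snd_assoc]

variable (K : Precoverage Scheme.{u}) [K.HasIsos] {X : Over S} (aX : AlgGrp.Action G X)

/-- The object `(G × Y ⟶ Y, (g, y) ↦ g · y(y))` of the quotient stack attached to `y : Y ⟶ X`. -/
noncomputable abbrev uObj (Y : Over S) (y : Y ⟶ X) : AlgSt.QuotObj K G aX :=
  (AlgSt.quotMap K G aX).obj ⟨Y, ⟨y⟩⟩

variable {K aX}

/-- The morphism of objects attached to a morphism over `X`. -/
noncomputable abbrev uMap {Y Z : Over S} {y : Y ⟶ X} {z : Z ⟶ X} (h : Y ⟶ Z) (e : h ≫ z = y) :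
    uObj K aX Y y ⟶ uObj K aX Z z :=
  (AlgSt.quotMap K G aX).map ⟨h, congrArg ULift.up e⟩

/-- The projection `b × u0 ⟶ b`. -/
noncomputable def qb (b : AlgSt.QuotObj K G aX) : uObj K aX b.P b.φ ⟶ b where
  base := b.π
  top := b.act.act
  eqv := by
    apply eqv_of_sm (a := AlgSt.leftMul G b.P) (a' := b.act)
    intro T g x
    obtain ⟨x1, x2, rfl⟩ : ∃ (x1 : T ⟶ G) (x2 : T ⟶ b.P), x = lift x1 x2 :=
      ⟨x ≫ fst _ _, x ≫ snd _ _, by simp⟩
    rw [sm_leftMul, lift_fst, lift_snd]
    change sm b.act (g * x1) x2 = sm b.act g (sm b.act x1 x2)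
    rw [sm_mul]
  cart := b.cart
  wφ := b.eqv

/-- The projection `b × u0 ⟶ u0`. -/
noncomputable def rb (b : AlgSt.QuotObj K G aX) : uObj K aX b.P b.φ ⟶ uObj K aX X (𝟙 X) :=
  uMap b.φ (Category.comp_id _)

section ToU

variable {c : AlgSt.QuotObj K G aX} {Y : Over S} {y : Y ⟶ X} (n : c ⟶ uObj K aX Y y)

/-- The top morphism, with its target spelled out. -/
noncomputable def ntop : c.P ⟶ G ⊗ Y := n.top

/-- The base morphism, with its target spelled out. -/
noncomputable def nbase : c.base ⟶ Y := n.base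

theorem ncart : IsPullback (ntop n) c.π (snd G Y) (nbase n) := n.cart

theorem neqv : c.act.act ≫ ntop n = (G ◁ ntop n) ≫ (AlgSt.leftMul G Y).act := n.eqv

theorem nφ : ntop n ≫ (G ◁ y) ≫ aX.act = c.φ := n.wφ

/-- The section of the torsor of `c` determined by a morphism to `u0`. -/
noncomputable def sec : c.base ⟶ c.P :=
  (ncart n).lift (lift (1 : c.base ⟶ G) (nbase n)) (𝟙 _) (by rw [lift_snd, Category.id_comp])

@[reassoc]
theorem sec_top : sec n ≫ ntop n = lift (1 : c.base ⟶ G) (nbase n) := (ncart n).lift_fst _ _ _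

@[reassoc]
theorem sec_π : sec n ≫ c.π = 𝟙 _ := (ncart n).lift_snd _ _ _

/-- The equivariant map to `G`. -/
noncomputable def toG : c.P ⟶ G := ntop n ≫ fst G Y

theorem top_eq : ntop n = lift (toG n) (c.π ≫ nbase n) := by
  apply CartesianMonoidalCategory.hom_ext
  · rw [lift_fst]; rfl
  · rw [lift_snd]; exact (ncart n).w

theorem toG_sm {T : Over S} (g : T ⟶ G) (p : T ⟶ c.P) : sm c.act g p ≫ toG n = g * (p ≫ toG n) := by
  have h := sm_eqv (a := c.act) (a' := AlgSt.leftMul G Y) (neqv n) g p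
  have h2 := congrArg (fun t => t ≫ fst G Y) h
  rw [sm_leftMul] at h2
  simp only [Category.assoc, lift_fst] at h2
  exact h2

end ToU

/-- The action does not change the image in the base. -/
theorem sm_π (c : AlgSt.QuotObj K G aX) {T : Over S} (g : T ⟶ G) (p : T ⟶ c.P) :
    sm c.act g p ≫ c.π = p ≫ c.π := by
  rw [sm, Category.assoc, c.cart.w, ← Category.assoc, lift_snd]

/-- Every point of the torsor is the translate by `toG n` of the section. -/
theorem toG_sm_sec {c : AlgSt.QuotObj K G aX} {Y : Over S} {y : Y ⟶ X} (n : c ⟶ uObj K aX Y y) :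
    sm c.act (toG n) (c.π ≫ sec n) = 𝟙 _ := by
  apply (ncart n).hom_ext
  · have h : (c.π ≫ sec n) ≫ ntop n = lift (1 : c.P ⟶ G) (c.π ≫ nbase n) := by
      rw [Category.assoc, sec_top, comp_lift, comp_one]
    rw [sm_eqv (a := c.act) (a' := AlgSt.leftMul G Y) (neqv n), sm_leftMul, h,
      lift_fst, lift_snd, Category.id_comp, _root_.mul_one]
    exact (top_eq n).symm
  · rw [sm_π, Category.assoc, sec_π]
    simp

/-- The existence part of the universal property of `b × u0`. -/
theorem exists_prod {b c : AlgSt.QuotObj K G aX} (m : c ⟶ b) (n : c ⟶ uObj K aX X (𝟙 X)) :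
    ∃ w : c ⟶ uObj K aX b.P b.φ, w ≫ qb b = m ∧ w ≫ rb b = n := by
  have htop : c.π ≫ sec n ≫ m.top = (c.π ≫ sec n) ≫ m.top := (Category.assoc _ _ _).symm
  -- `n1 (p) • m.top (σ (π p)) = m.top p`
  have key : sm b.act (toG n) (c.π ≫ sec n ≫ m.top) = m.top := by
    rw [htop, ← sm_eqv (a := c.act) (a' := b.act) m.eqv, toG_sm_sec, Category.id_comp]
  have hφ' : (sec n ≫ m.top) ≫ b.φ = nbase n := by
    rw [Category.assoc, m.wφ, ← nφ n, sec_top_assoc, ← Category.assoc, lift_whiskerLeft, Category.comp_id]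
    exact sm_one aX (nbase n)
  let w : c ⟶ uObj K aX b.P b.φ :=
    { base := sec n ≫ m.top
      top := lift (toG n) (c.π ≫ sec n ≫ m.top)
      eqv := by
        apply eqv_of_sm (a := c.act) (a' := AlgSt.leftMul G b.P)
        intro T g x
        rw [sm_leftMul]
        simp only [comp_lift, lift_fst, lift_snd, toG_sm]
        rw [← Category.assoc, sm_π, Category.assoc]
      cart := by
        have h1 : IsPullback (lift (toG n) (c.π ≫ sec n ≫ m.top)) c.π (snd G b.P) (sec n ≫ m.top) := by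
          have h2 : IsPullback (G ◁ b.φ) (snd G b.P) (snd G X) b.φ := AlgSt.isPullback_whiskerLeft b.φ
          refine IsPullback.of_right (h₁₂ := G ◁ b.φ) (h₂₂ := b.φ) ?_ (lift_snd _ _) h2
          have h3 : lift (toG n) (c.π ≫ sec n ≫ m.top) ≫ (G ◁ b.φ) = ntop n := by
            have h4 : (c.π ≫ sec n ≫ m.top) ≫ b.φ = c.π ≫ nbase n := by rw [← hφ']; simp
            rw [lift_whiskerLeft, h4]
            exact (top_eq n).symm
          rw [h3, hφ']
          exact ncart n
        exact h1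
      wφ := by
        change lift (toG n) (c.π ≫ sec n ≫ m.top) ≫ (G ◁ b.φ) ≫ aX.act = c.φ
        rw [← b.eqv]
        rw [← Category.assoc]
        have : lift (toG n) (c.π ≫ sec n ≫ m.top) ≫ b.act.act = m.top := key
        rw [this, m.wφ] }
  refine ⟨w, AlgSt.QuotObj.hom_ext ?_ key, AlgSt.QuotObj.hom_ext hφ' ?_⟩
  · change (sec n ≫ m.top) ≫ b.π = m.base
    rw [Category.assoc, m.cart.w, ← Category.assoc, sec_π, Category.id_comp]
  · change lift (toG n) (c.π ≫ sec n ≫ m.top) ≫ (G ◁ b.φ) = ntop n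
    have h4 : (c.π ≫ sec n ≫ m.top) ≫ b.φ = c.π ≫ nbase n := by rw [← hφ']; simp
    rw [lift_whiskerLeft, h4]
    exact (top_eq n).symm

/-- The uniqueness part. -/
theorem prod_ext {b c : AlgSt.QuotObj K G aX} {w w' : c ⟶ uObj K aX b.P b.φ}
    (h1 : w ≫ qb b = w' ≫ qb b) (h2 : w ≫ rb b = w' ≫ rb b) : w = w' := by
  have a1 : ntop w ≫ b.act.act = ntop w' ≫ b.act.act := congrArg (fun t => t.top) h1
  have a2 : ntop w ≫ (G ◁ b.φ) = ntop w' ≫ (G ◁ b.φ) := congrArg (fun t => t.top) h2
  have a3 : toG w = toG w' := by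
    have := congrArg (fun t => t ≫ fst G X) a2
    simpa [toG] using this
  -- the base maps are recovered from the top maps
  have a4 : sm b.act (toG w) (c.π ≫ nbase w) = sm b.act (toG w') (c.π ≫ nbase w') := by
    rw [sm, sm, ← top_eq, ← top_eq, a1]
  have a5 : c.π ≫ nbase w = c.π ≫ nbase w' := by
    have := congrArg (fun t => sm b.act (toG w)⁻¹ t) a4
    simp only [← sm_mul, a3, inv_mul_cancel, sm_one] at this
    exact this
  have a6 : nbase w = nbase w' := by
    have := congrArg (fun t => sec w ≫ t) a5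
    simpa only [sec_π_assoc] using this
  refine AlgSt.QuotObj.hom_ext a6 ?_
  change ntop w = ntop w'
  rw [top_eq w, top_eq w', a3, a6]

end K943.QuotAtlas
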