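import Groth.Agent.ThetaS.K943.CohTheta
import Groth.Agent.Dix.ProjProper
import Groth.Prelude.Def_RelProj
import Mathlib.AlgebraicGeometry.Sites.Fpqc
import Mathlib.AlgebraicGeometry.Noetherian
import Mathlib.AlgebraicGeometry.Morphisms.FinitePresentation

/-!
# Coherent sheaves on a projective scheme over a field: reduction to the stack property
-/

set_option autoImplicit false

universe u

open CategoryTheory AlgebraicGeometry

namespace K943.CohRows

variable {k : Type u} [Field k] {X : Scheme.{u}} {f : X ⟶ Spec (CommRingCat.of k)}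

theorem lfp {X Y : Scheme.{u}} (f : X ⟶ Y) [IsLocallyNoetherian Y] [LocallyOfFiniteType f] :
    LocallyOfFinitePresentation f where
  finitePresentation_appLE := fun {U} hU {V} hV e => by
    haveI := IsLocallyNoetherian.component_noetherian (X := Y) ⟨U, hU⟩
    exact RingHom.FinitePresentation.of_finiteType.1 (f.finiteType_appLE hU hV e)

theorem proper (hf : RelProj.IsHProjective f) : IsProper f := by
  obtain ⟨n, i, hi, rfl⟩ := hf
  infer_instance

theorem isThetaComplete (hst : ∀ {Y S : Scheme.{u}} (g : Y ⟶ S) [QuasiCompact g] [QuasiSeparated g]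
    [LocallyOfFinitePresentation g], Stk.IsStack (QuotSh.J Scheme.fppfPrecoverage S) (ModSt.Coh g))
    (hf : RelProj.IsHProjective f) : ThetaS.IsThetaComplete Scheme.fppfPrecoverage (ModSt.Coh f) := by
  haveI := proper hf
  haveI := lfp f
  exact K943.CohTheta.isThetaComplete_coh (hst f)

theorem isSCompleteOver (hst : ∀ {Y S : Scheme.{u}} (g : Y ⟶ S) [QuasiCompact g] [QuasiSeparated g]
    [LocallyOfFinitePresentation g], Stk.IsStack (QuotSh.J Scheme.fppfPrecoverage S) (ModSt.Coh g))
    (hf : RelProj.IsHProjective f) : ThetaS.IsSCompleteOver Scheme.fppfPrecoverage (ModSt.Coh f) := by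
  haveI := proper hf
  haveI := lfp f
  exact K943.CohTheta.isSCompleteOver_coh (hst f)

end K943.CohRows
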