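import Groth.Agent.ThetaS.K942.TorsGeom
import Groth.Agent.IsoNat.K862.Fp

/-!
# Unique extension of morphisms from lifting along the diagonal

`uniqAt_of_diag`: morphisms of `𝒳` extend uniquely along `i` relative to `f` if this holds for objects and morphisms
relative to the diagonal of `f`.  `uniqFlat_line`, `uniqFlat_st`: for stacks with affine diagonal.
-/

set_option autoImplicit false
set_option linter.dupNamespace false
set_option linter.style.haveILetI false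
set_option backward.isDefEq.respectTransparency false
set_option backward.isDefEq.respectTransparency.types false

universe v₂ u₂ v₁ u₁ v u

open CategoryTheory MonoidalCategory CartesianMonoidalCategory MonObj GrpObj AlgebraicGeometry
  TopologicalSpace Opposite

namespace K943.UniqDiag

open ThetaS FibCat K943.LocPair K943.QuotOpen K943.FibBase K943.CoverExt K943.LocLift

section abs

variable {C : Type u} [Category.{v} C] {𝒳 : BasedCategory.{v₁, u₁} C} {𝒴 : BasedCategory.{v₂, u₂} C}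

theorem snd_lift {f : 𝒳 ⥤ᵇ 𝒴} {z z' : (fp f f).obj} (β : z ⟶ z') {V T : C} (g : V ⟶ T)
    (h : (fp f f).p.IsHomLift g β) : 𝒳.p.IsHomLift g β.hom.snd := by
  obtain rfl := IsHomLift.domain_eq (fp f f).p g β
  obtain rfl := IsHomLift.codomain_eq (fp f f).p g β
  rw [IsHomLift.eq_of_isHomLift (fp f f).p g β]
  infer_instance

variable [h𝒳 : IsFibGrpd 𝒳.p] [h𝒴 : IsFibGrpd 𝒴.p]

theorem uniqAt_of_diag {V T : C} (i : V ⟶ T) (f : 𝒳 ⥤ᵇ 𝒴) (hL : LiftsAt i (FibCat.diag f))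
    (hU : UniqAt i (FibCat.diag f)) : UniqAt i f := by
  intro xv x x' t t' ψ ht ht' hψ e
  haveI : IsIso ψ := isIso_of_lift_id 𝒴.p (T := T) ψ
  obtain rfl := IsHomLift.codomain_eq 𝒳.p i t
  obtain rfl := IsHomLift.domain_eq 𝒳.p i t
  let y : (fp f f).obj := K862.Fp.mkObj f f x x' (asIso ψ) hψ
  have w : f.map t ≫ ψ = 𝟙 _ ≫ f.map t' := by rw [Category.id_comp]; exact e
  let c : (FibCat.diag f).obj xv ⟶ y := K862.Fp.mkHom t t' w
  have hc : (fp f f).p.IsHomLift i c := by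
    rw [IsHomLift.eq_of_isHomLift 𝒳.p i t]
    exact IsHomLift.map (fp f f).p c
  have hex : ∃ φ : x ⟶ x', 𝒳.p.IsHomLift (𝟙 (𝒳.p.obj x)) φ ∧ t ≫ φ = t' ∧ f.map φ = ψ := by
    obtain ⟨x0, t0, β, h1, h2, h3⟩ := hL y xv c hc
    have e1 : t0 ≫ β.hom.fst = t := congrArg (fun z => z.hom.fst) h3
    have e2 : t0 ≫ β.hom.snd = t' := congrArg (fun z => z.hom.snd) h3
    have h5 : 𝒳.p.IsHomLift (𝟙 (𝒳.p.obj x)) β.hom.snd := snd_lift β _ h2
    have h4 : 𝒳.p.IsHomLift (𝟙 (𝒳.p.obj x)) β.hom.fst := by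
      have e0 : 𝒳.p.obj x0 = 𝒳.p.obj x := IsHomLift.codomain_eq 𝒳.p i t0
      have h6 := IsHomLift.fac' (fp f f).p (𝟙 (𝒳.p.obj x)) β
      have h7 : 𝒳.p.map β.hom.fst = eqToHom _ ≫ 𝟙 (𝒳.p.obj x) ≫ eqToHom _ := h6
      exact IsHomLift.of_fac' 𝒳.p _ _ e0 rfl h7
    haveI : IsIso β.hom.fst := isIso_of_lift_id 𝒳.p (T := 𝒳.p.obj x) β.hom.fst
    refine ⟨inv β.hom.fst ≫ β.hom.snd, ?_, ?_, ?_⟩
    · infer_instance
    · rw [← e1, Category.assoc, IsIso.hom_inv_id_assoc, e2]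
    · have e3 := K862.Fp.fp_w β
      have e4 : f.map β.hom.fst ≫ ψ = f.map β.hom.snd := e3.trans (Category.id_comp _)
      have e5 : f.map (inv β.hom.fst ≫ β.hom.snd) = inv (f.map β.hom.fst) ≫ f.map β.hom.snd := by
        rw [f.toFunctor.map_comp, Functor.map_inv]
      rw [e5, ← e4, IsIso.inv_hom_id_assoc]
  obtain ⟨φ, h1, h2, h3⟩ := hex
  refine ⟨φ, ⟨h1, h2, h3⟩, fun φ' ⟨h1', h2', h3'⟩ => ?_⟩
  haveI : IsIso φ := isIso_of_lift_id 𝒳.p (T := 𝒳.p.obj x) φ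
  haveI : IsIso φ' := isIso_of_lift_id 𝒳.p (T := 𝒳.p.obj x) φ'
  have e6 : f.map (φ' ≫ inv φ) = 𝟙 _ := by
    rw [f.toFunctor.map_comp, h3', ← h3, ← f.toFunctor.map_comp, IsIso.hom_inv_id, f.toFunctor.map_id]
  have e7 : f.map (𝟙 x) ≫ 𝟙 (f.obj x) = 𝟙 (f.obj x) ≫ f.map (φ' ≫ inv φ) := by
    rw [e6, f.toFunctor.map_id]
  let θ : (FibCat.diag f).obj x ⟶ (FibCat.diag f).obj x := K862.Fp.mkHom (𝟙 x) (φ' ≫ inv φ) e7
  have hθ : (fp f f).p.IsHomLift (𝟙 (𝒳.p.obj x)) θ := by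
    have : 𝟙 (𝒳.p.obj x) = (fp f f).p.map θ := (𝒳.p.map_id x).symm
    rw [this]
    exact IsHomLift.map (fp f f).p θ
  obtain ⟨χ, ⟨-, -, hχ⟩, -⟩ := hU xv x x t t θ ht ht hθ (by
    apply K862.Fp.fp_hom_ext
    · exact Category.comp_id t
    · change t ≫ φ' ≫ inv φ = t
      rw [← Category.assoc, h2', ← h2, Category.assoc, IsIso.hom_inv_id, Category.comp_id])
  have e8 : χ = 𝟙 x := congrArg (fun z => z.hom.fst) hχ
  have e9 : χ = φ' ≫ inv φ := congrArg (fun z => z.hom.snd) hχ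
  rw [e8] at e9
  rw [← Category.id_comp φ, e9, Category.assoc, IsIso.inv_hom_id, Category.comp_id]

end abs

section aff

variable {S : Scheme.{u}} {R : Type u} [CommRing R]
  {𝒳 𝒴 : AlgSt.Cat S} {f : 𝒳 ⥤ᵇ 𝒴}

theorem uniqAt_of_isIso [IsFibGrpd 𝒳.p] [IsFibGrpd 𝒴.p]
    (hf : AlgSt.RepByAlgSpWith (AlgSp.RepWith @IsAffineHom) (FibCat.diag f))
    {V T : Over S} (i : V ⟶ T) [IsAffine T.left] [IsIso i.left.appTop] : UniqAt i f := by
  haveI : IsFibGrpd (fp f f).p := K862.Fp.isFibGrpd_fp f f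
  have h := K942.URep.uRep_of_repByAlgSpWith hf
  exact uniqAt_of_diag i f (K942.AffMain.liftsAt_of_isIso h i) (K942.AffMain.uniqAt_of_isIso h i)

theorem uniqFlat_line [IsDomain R] [IsFibGrpd 𝒳.p] [IsFibGrpd 𝒴.p]
    (hf : AlgSt.RepByAlgSpWith (AlgSp.RepWith @IsAffineHom) (FibCat.diag f)) {ϖ : R} (hϖ : ϖ ≠ 0)
    (h : Spec (CommRingCat.of R) ⟶ S) : UniqFlat h (K942.Coord.Uline ϖ) f := by
  intro Y y hy hY
  haveI : IsAffine ((Over.map h).obj Y).left := hY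
  haveI : IsIso ((Over.map h).map (openMap y (K942.Coord.Uline ϖ))).left.appTop := K942.Coord.isIso_line hϖ y
  exact uniqAt_of_isIso hf _

theorem uniqFlat_st [IsDomain R] [IsFibGrpd 𝒳.p] [IsFibGrpd 𝒴.p]
    (hf : AlgSt.RepByAlgSpWith (AlgSp.RepWith @IsAffineHom) (FibCat.diag f)) {π : R} (hπ : π ≠ 0)
    (h : Spec (CommRingCat.of R) ⟶ S) : UniqFlat h (K942.Coord.Ust π) f := by
  intro Y y hy hY
  haveI : IsAffine ((Over.map h).obj Y).left := hY
  haveI : IsIso ((Over.map h).map (openMap y (K942.Coord.Ust π))).left.appTop := K942.Coord.isIso_st hπ y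
  exact uniqAt_of_isIso hf _

end aff

end K943.UniqDiag
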