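import Groth.Agent.ThetaS.K943.SpIso
import Groth.Agent.ThetaS.K943.BcRing
import Groth.Agent.ThetaS.K943.UniqDiag

/-!
# Lifting against `Θ_R ∖ 0 ⟶ Θ_R` by means of a chart of the target algebraic space

`exists_ext_fp`: extension of functors to `𝒳` from extension of functors to `U ×_M 𝒳`.  `hasLift_of_chart`.
-/

set_option autoImplicit false
set_option linter.style.haveILetI false
set_option backward.isDefEq.respectTransparency false
set_option backward.isDefEq.respectTransparency.types false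
universe v₆ u₆ v₅ u₅ v₄ u₄ v₃ u₃ v₂ u₂ v₁ u₁ v u
open CategoryTheory CategoryTheory.Limits MonoidalCategory CartesianMonoidalCategory MonObj GrpObj AlgebraicGeometry
open Opposite Topology TopologicalSpace FibCat ThetaS
open scoped Polynomial

namespace K943.BcMain

section abs

variable {C : Type u} [Category.{v} C] {𝒜 : BasedCategory.{v₁, u₁} C} {ℬ : BasedCategory.{v₂, u₂} C}
  {𝒞 : BasedCategory.{v₃, u₃} C}

/-- Whiskering an isomorphism on the right. -/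
def wR {F G : 𝒜 ⥤ᵇ ℬ} (α : F ≅ G) (H : ℬ ⥤ᵇ 𝒞) : BasedFunctor.comp F H ≅ BasedFunctor.comp G H where
  hom := BasedCategory.whiskerRight α.hom H
  inv := BasedCategory.whiskerRight α.inv H
  hom_inv_id := by rw [← LiftSq.whiskerRight_comp', Iso.hom_inv_id, LiftSq.whiskerRight_id']
  inv_hom_id := by rw [← LiftSq.whiskerRight_comp', Iso.inv_hom_id, LiftSq.whiskerRight_id']

/-- Whiskering an isomorphism on the left. -/
def wL (F : 𝒜 ⥤ᵇ ℬ) {G H : ℬ ⥤ᵇ 𝒞} (α : G ≅ H) : BasedFunctor.comp F G ≅ BasedFunctor.comp F H where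
  hom := BasedCategory.whiskerLeft F α.hom
  inv := BasedCategory.whiskerLeft F α.inv
  hom_inv_id := by rw [← LiftSq.whiskerLeft_comp', Iso.hom_inv_id, LiftSq.whiskerLeft_id']
  inv_hom_id := by rw [← LiftSq.whiskerLeft_comp', Iso.inv_hom_id, LiftSq.whiskerLeft_id']

/-- Functors to `𝒵` extend along `i`. -/
def Extends (i : 𝒜 ⥤ᵇ ℬ) (𝒵 : BasedCategory.{v₃, u₃} C) : Prop :=
  ∀ Ψ : 𝒜 ⥤ᵇ 𝒵, ∃ Ψ' : ℬ ⥤ᵇ 𝒵, Nonempty (BasedFunctor.comp i Ψ' ≅ Ψ)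

theorem extends_of_liftsUniquely (i : 𝒜 ⥤ᵇ ℬ) (𝒵 : BasedCategory.{v₃, u₃} C)
    (H : LiftSq.LiftsUniquely i (toSelf 𝒵)) : Extends i 𝒵 := by
  intro Ψ
  let sq : LiftSq.Sq i (toSelf 𝒵) :=
    { top := Ψ
      bot := toSelf ℬ
      iso := eqToIso (K943.SelfLift.functor_eq _ _) }
  obtain ⟨d⟩ := (H sq).1
  exact ⟨d.fn, ⟨d.isoTop⟩⟩

variable {𝒰 : BasedCategory.{v₄, u₄} C} {𝒳 : BasedCategory.{v₅, u₅} C} {ℳ : BasedCategory.{v₆, u₆} C}

/-- Extension of functors to `𝒳` from extension of functors to a fibre product. -/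
theorem exists_ext_fp {i : 𝒜 ⥤ᵇ ℬ} {F : 𝒰 ⥤ᵇ ℳ} {π : 𝒳 ⥤ᵇ ℳ} {𝒵 : BasedCategory.{v₃, u₃} C}
    (hZ : Extends i 𝒵) (e : 𝒵 ⥤ᵇ fp F π) (he : IsEquivOver e) (c : 𝒜 ⥤ᵇ 𝒰) (b : 𝒜 ⥤ᵇ 𝒳)
    (θ : BasedFunctor.comp c F ≅ BasedFunctor.comp b π) :
    ∃ Ω : ℬ ⥤ᵇ 𝒳, Nonempty (BasedFunctor.comp i Ω ≅ b) := by
  obtain ⟨g, -, ⟨ε⟩⟩ := he
  obtain ⟨Ψ', ⟨α⟩⟩ := hZ (BasedFunctor.comp (fpLift c b θ) g)
  refine ⟨BasedFunctor.comp (BasedFunctor.comp Ψ' e) (fpSnd F π), ⟨?_⟩⟩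
  have h1 : BasedFunctor.comp (BasedFunctor.comp (BasedFunctor.comp i Ψ') e) (fpSnd F π) ≅
      BasedFunctor.comp (BasedFunctor.comp (BasedFunctor.comp (fpLift c b θ) g) e) (fpSnd F π) := wR (wR α e) _
  have h2 : BasedFunctor.comp (BasedFunctor.comp (fpLift c b θ) (BasedFunctor.comp g e)) (fpSnd F π) ≅
      BasedFunctor.comp (BasedFunctor.comp (fpLift c b θ) (BasedFunctor.id _)) (fpSnd F π) := wR (wL _ ε) _
  exact h1 ≪≫ h2

end abs

section chart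

open AlgSp K943.FibBase K943.CoverExt K943.QuotAtlas K943.QuotCover K943.SpConst K943.SpNode
  K943.QuotOpen K943.SpUniq K943.LocPair K943.SelfLift K943.SpVal K943.SpProp K943.STNormal K942.Coord K943.Points
  K942.AffMain K951.Pts K943.SpTheta K943.SpComplete K943.SpIso K943.BcFun K943.BcLift K943.BcRing

variable {S : Scheme.{u}} {R R' : Type u} [CommRing R] [CommRing R'] [Algebra R R']
  (h₀ : Spec (CommRingCat.of R) ⟶ S) (h₁ : Spec (CommRingCat.of R') ⟶ S) (hj : jj R R' ≫ h₀ = h₁)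

/-- The map of base objects. -/
noncomputable def bb : B0 h₁ ⟶ B0 h₀ := Over.homMk (jj R R') (by
  subst hj
  change jj R R' ≫ 𝟙 _ ≫ h₀ = 𝟙 _ ≫ jj R R' ≫ h₀
  rw [Category.id_comp, Category.id_comp])

theorem eqToHom_stB (A : Over (Spec (CommRingCat.of R')))
    (e : (Over.map h₀).obj ((Over.map (jj R R')).obj A) = (Over.map h₁).obj A) :
    eqToHom e.symm ≫ stB h₀ ((Over.map (jj R R')).obj A) = stB h₁ A ≫ bb h₀ h₁ hj := by
  apply Over.OverMorphism.ext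
  rw [Over.comp_left, Over.comp_left, Over.eqToHom_left]
  change eqToHom rfl ≫ A.hom ≫ jj R R' = A.hom ≫ jj R R'
  rw [eqToHom_refl, Category.id_comp]

/-- Existence of a lift of `Θ_R ∖ 0 ⟶ 𝒳` from a chart of the target of a constant composite `Θ_R ∖ 0 ⟶ 𝒳 ⟶ M`. -/
theorem hasLift_of_chart {𝒳 : AlgSt.Cat S} (h𝒳 : Stk.IsStack (QuotSh.J Scheme.fppfPrecoverage S) 𝒳)
    {M : Sp S} (π : 𝒳 ⥤ᵇ AlgSt.ofSp M) {U : Over S} (u : (yon S).obj U ⟶ M)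
    {𝒵 : AlgSt.Cat S} (e : 𝒵 ⥤ᵇ fp (AlgSt.ofSpMap u) π) (he : IsEquivOver e)
    {G₀ X₀ : Over (Spec (CommRingCat.of R))} [GrpObj G₀] {a₀ : AlgGrp.Action G₀ X₀} {U₀ : X₀.left.Opens}
    (hU₀ : Stable a₀ U₀)
    {G₁ X₁ : Over (Spec (CommRingCat.of R'))} [GrpObj G₁] {a₁ : AlgGrp.Action G₁ X₁} {U₁ : X₁.left.Opens}
    (hU₁ : Stable a₁ U₁)
    {q : (Over.map (jj R R')).obj G₁ ⟶ G₀} (hq : IsBc q) {r : (Over.map (jj R R')).obj X₁ ⟶ X₀}
    (hr : IsEqv q a₁ a₀ r) (hU : r.left ⁻¹ᵁ U₀ = U₁)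
    [Flat G₀.hom] [LocallyOfFinitePresentation G₀.hom] [IsAffineHom G₀.hom] [IsAffine X₀.left] [IsAffine X₁.left]
    [Flat r.left] [LocallyOfFinitePresentation r.left] [Surjective r.left]
    (H : UniqFlat h₀ U₀ (toSelf 𝒳))
    (sq : LiftSq.Sq (subI (ThetaS.overS h₀ (AlgSt.QuotSt Scheme.fppfPrecoverage G₀ a₀))
      (InU Scheme.fppfPrecoverage a₀ U₀)) (toSelf 𝒳))
    (c : (yon S).obj (B0 h₀) ⟶ M)
    (hc : ∀ A, val (BasedFunctor.comp sq.top π) A = (yon S).map (stB h₀ A.obj.base) ≫ c)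
    (m : B0 h₁ ⟶ U) (hm : (yon S).map m ≫ u = (yon S).map (bb h₀ h₁ hj) ≫ c)
    (hZ : Extends (subI (ThetaS.overS h₁ (AlgSt.QuotSt Scheme.fppfPrecoverage G₁ a₁))
      (InU Scheme.fppfPrecoverage a₁ U₁)) 𝒵) : sq.HasLift := by
  let b := BasedFunctor.comp (bcSub (K := Scheme.fppfPrecoverage) hq h₀ h₁ hj hr hU) sq.top
  let c₁ : sub (ThetaS.overS h₁ (AlgSt.QuotSt Scheme.fppfPrecoverage G₁ a₁)) (InU Scheme.fppfPrecoverage a₁ U₁) ⥤ᵇ
      AlgSt.ofSch U := mkFun (fun A => (yon S).map (stB h₁ A.obj.base) ≫ (yon S).map m) (fun {A A'} k => by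
    change (yon S).map ((Over.map h₁).map k.hom.base) ≫ (yon S).map (stB h₁ A'.obj.base) ≫ _ = _
    rw [← Category.assoc, ← Functor.map_comp, stB_eq])
  obtain ⟨θ⟩ : Nonempty (BasedFunctor.comp c₁ (AlgSt.ofSpMap u) ≅ BasedFunctor.comp b π) := by
    apply nonempty_iso
    intro A
    rw [val_ofSpMap, val_mkFun, Category.assoc, hm, ← Category.assoc, ← Functor.map_comp]
    have e1 : (Over.map h₀).obj ((Over.map (jj R R')).obj A.obj.base) = (Over.map h₁).obj A.obj.base :=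
      (bcSub (K := Scheme.fppfPrecoverage) hq h₀ h₁ hj hr hU).w_obj A
    have h1 : val (BasedFunctor.comp b π) A = (yon S).map (eqToHom e1.symm) ≫
        val (BasedFunctor.comp sq.top π) ((bcSub (K := Scheme.fppfPrecoverage) hq h₀ h₁ hj hr hU).obj A) :=
      val_comp (bcSub (K := Scheme.fppfPrecoverage) hq h₀ h₁ hj hr hU) (BasedFunctor.comp sq.top π) A
    rw [h1, hc]
    change _ = (yon S).map (eqToHom e1.symm) ≫ (yon S).map (stB h₀ ((Over.map (jj R R')).obj A.obj.base)) ≫ c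
    rw [← Category.assoc ((yon S).map (eqToHom e1.symm)), ← Functor.map_comp, eqToHom_stB h₀ h₁ hj A.obj.base e1]
  obtain ⟨Ω, ⟨γ⟩⟩ := exists_ext_fp hZ e he c₁ b θ
  have hℓ := exists_LL_bc hq h₀ h₁ hj hr hU hU₀ hU₁ sq Ω γ
  haveI : IsAffine ((Over.map (jj R R')).obj X₁).left := by change IsAffine X₁.left; infer_instance
  exact CovLift.hasLift_cov h₀ hU₀ r h𝒳 (isPrestack_self _) H sq hℓ

end chart

end K943.BcMain
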