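import Groth.Agent.ThetaS.K943.ModPts
import Groth.Agent.IsoNat.K864.DvrExt
import Groth.Agent.IsoNat.K863.Arr
import Groth.Agent.ThetaS.K943.BcMain

/-!
# Gluing two objects along the generic point and extending over `ST_R`
-/

set_option autoImplicit false
set_option linter.style.haveILetI false
set_option backward.isDefEq.respectTransparency false
set_option backward.isDefEq.respectTransparency.types false
universe v₂ u₂ w v u
open CategoryTheory CategoryTheory.Limits AlgebraicGeometry Opposite Topology TopologicalSpace FibCat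

namespace K943.ModGlue

open AlgSp AlgSt K943.SpVal K943.SpIso K735.Fib K735.Fp K735.Rep K735.Cart K943.ModPts K864.Doubled K863

variable {S : Scheme.{u}}

section yon

variable {𝒳 : BasedCategory.{v₂, u₂} (Over S)} (h𝒳 : IsFibGrpd 𝒳.p)

include h𝒳 in
/-- Restriction of functors from slices along morphisms between their values. -/
theorem exists_iso_of_hom {T Z : Over S} (X : overCat Z ⥤ᵇ 𝒳) (X₁ : overCat T ⥤ᵇ 𝒳) (i : T ⟶ Z)
    (ζ : X₁.obj (idObj T) ⟶ X.obj (idObj Z)) (hζ : 𝒳.p.IsHomLift i ζ) :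
    Nonempty (BasedFunctor.comp (overMap i) X ≅ X₁) := by
  let k : (overMap i).obj (idObj T) ⟶ idObj Z := toId _
  have hk : 𝒳.p.IsHomLift i (X.map k) := by
    haveI : (overCat Z).p.IsHomLift i k := by
      have : ∀ (i' : T ⟶ Z) (_ : 𝟙 T ≫ i = i'), (overCat Z).p.IsHomLift i' k := by
        rintro _ rfl; exact IsHomLift.map _ k
      exact this i (Category.id_comp i)
    exact BasedFunctor.preserves_isHomLift X i k
  obtain ⟨χ, hχ, -⟩ := K863.Arr.exists_vert h𝒳 hk hζ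
  have hv : Vert 𝒳.p χ := by
    have e : 𝒳.p.obj (X₁.obj (idObj T)) = T := X₁.w_obj _
    have : ∀ (T' : Over S) (_ : 𝒳.p.obj (X₁.obj (idObj T)) = T') (_ : 𝒳.p.IsHomLift (𝟙 T') χ), Vert 𝒳.p χ := by
      rintro T' rfl h; exact h
    exact this T e hχ
  exact ⟨(yonIso h𝒳 X₁ (BasedFunctor.comp (overMap i) X) χ hv).symm⟩

/-- The value of a functor isomorphism. -/
theorem hom_of_iso {T Z : Over S} (X : overCat Z ⥤ᵇ 𝒳) (X₁ : overCat T ⥤ᵇ 𝒳) (i : T ⟶ Z)
    (e : BasedFunctor.comp (overMap i) X ≅ X₁) :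
    ∃ ζ : X₁.obj (idObj T) ⟶ X.obj (idObj Z), 𝒳.p.IsHomLift i ζ := by
  let k : (overMap i).obj (idObj T) ⟶ idObj Z := toId _
  have hk : 𝒳.p.IsHomLift i (X.map k) := by
    haveI : (overCat Z).p.IsHomLift i k := by
      have : ∀ (i' : T ⟶ Z) (_ : 𝟙 T ≫ i = i'), (overCat Z).p.IsHomLift i' k := by
        rintro _ rfl; exact IsHomLift.map _ k
      exact this i (Category.id_comp i)
    exact BasedFunctor.preserves_isHomLift X i k
  refine ⟨e.inv.toNatTrans.app (idObj T) ≫ X.map k, ?_⟩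
  have h2 : 𝒳.p.IsHomLift (𝟙 T) (e.inv.toNatTrans.app (idObj T)) := e.inv.isHomLift' (idObj T)
  exact K863.Arr.lift_id_comp h2 hk

end yon

/-- Gluing of functors along an open immersion. -/
theorem exists_glue {𝒳 : AlgSt.Cat S} (hst : Stk.IsStack (AlgSp.J S) 𝒳) {T V : Over S} (j : V ⟶ T)
    [IsOpenImmersion j.left] (x₁ x₂ : overCat T ⥤ᵇ 𝒳)
    (θ : BasedFunctor.comp (overMap j) x₁ ≅ BasedFunctor.comp (overMap j) x₂) :
    ∃ z : overCat (glue j j) ⥤ᵇ 𝒳, Nonempty (BasedFunctor.comp (overMap (inl j j)) z ≅ x₁) ∧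
      Nonempty (BasedFunctor.comp (overMap (inr j j)) z ≅ x₂) := by
  obtain ⟨α₁, hα₁⟩ := hom_of_iso x₁ (BasedFunctor.comp (overMap j) x₁) j (Iso.refl _)
  obtain ⟨α₂, hα₂⟩ := hom_of_iso x₂ (BasedFunctor.comp (overMap j) x₁) j θ.symm
  obtain ⟨z, ζ₁, ζ₂, hζ₁, hζ₂, -⟩ := K863.Pair.exists_obj hst (K864.DvrExt.isOpenPair_glue j) hα₁ hα₂
  have hz : 𝒳.p.obj z = glue j j := K863.Arr.cod hζ₁
  have hv : 𝒳.p.IsHomLift (𝟙 (glue j j)) (yonFIso hst.1 z hz).inv := by
    have h1 := vert_yonFIso hst.1 z hz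
    haveI : IsIso (yonFIso hst.1 z hz).hom := inferInstance
    have h2 : 𝒳.p.IsHomLift (𝟙 (glue j j)) (yonFIso hst.1 z hz).hom := by
      have e : 𝒳.p.obj ((yonF hst.1 z hz).obj (idObj (glue j j))) = glue j j := (yonF hst.1 z hz).w_obj _
      have : ∀ (T' : Over S) (_ : 𝒳.p.obj ((yonF hst.1 z hz).obj (idObj (glue j j))) = T'),
          𝒳.p.IsHomLift (𝟙 T') (yonFIso hst.1 z hz).hom := by
        rintro T' rfl; exact h1
      exact this _ e
    have := K863.Arr.lift_inv h2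
    rwa [IsIso.Iso.inv_hom] at this
  exact ⟨yonF hst.1 z hz, exists_iso_of_hom hst.1 _ x₁ (inl j j) (ζ₁ ≫ _) (K863.Arr.lift_comp_id hζ₁ hv),
    exists_iso_of_hom hst.1 _ x₂ (inr j j) (ζ₂ ≫ _) (K863.Arr.lift_comp_id hζ₂ hv)⟩

section st

open ThetaS K943.SpConst K943.SpUniq K943.LocPair K943.SelfLift K943.FibBase K943.CoverExt
  K943.QuotAtlas K943.QuotCover K943.QuotOpen K943.QuotTriv K943.SpNode K943.Points K943.LocLift K942.Coord
  K942.AffMain K951.Pts K943.SpTheta K640.Joint K943.SpSep K943.BcMain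
open CartesianMonoidalCategory MonoidalCategory

attribute [local instance] K951.Pts.algΓ

variable {M : Sp S} {R : Type u} [CommRing R] {π : R} (h : Spec (CommRingCat.of R) ⟶ S)
  {m₁ m₂ : (yon S).obj (B0 h) ⟶ M}

/-- Two points of `M` glued by a functor from `ST_R` are equal. -/
theorem eq_of_ext [QuasiSeparatedSpace ↥S] (hM : IsAlgSpace M) (hq : IsQuasiSeparatedSp M) [IsDomain R]
    [IsDiscreteValuationRing R] (hπ : Irreducible π)
    (e : (yon S).map (stB h (CoactBr.sp R (FractionRing R))) ≫ m₁ =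
      (yon S).map (stB h (CoactBr.sp R (FractionRing R))) ≫ m₂)
    (Ψ : ThetaS.overS h (AlgSt.QuotSt Scheme.fppfPrecoverage (Gm R) (stAction R π)) ⥤ᵇ AlgSt.ofSp M)
    (hΨ : ∀ b : (sub (ThetaS.overS h (AlgSt.QuotSt Scheme.fppfPrecoverage (Gm R) (stAction R π)))
        (InU Scheme.fppfPrecoverage (stAction R π) (Ust π))).obj, IsV h m₁ m₂ b.obj (val Ψ b.obj)) : m₁ = m₂ := by
  let g : (yon S).obj ((Over.map h).obj (STSch R π)) ⟶ M := val Ψ (u0 Scheme.fppfPrecoverage (stAction R π))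
  have hres : ∀ {Y : Over (Spec (CommRingCat.of R))} (y : Y ⟶ STSch R π)
      (hy : InU Scheme.fppfPrecoverage (stAction R π) (Ust π) (uObj Scheme.fppfPrecoverage (stAction R π) Y y))
      (x : (yon S).obj ((Over.map h).obj Y) ⟶ M)
      (hx : IsV h m₁ m₂ (uObj Scheme.fppfPrecoverage (stAction R π) Y y) x),
      (yon S).map ((Over.map h).map y) ≫ g = x := by
    intro Y y hy x hx
    have h1 : (yon S).map ((Over.map h).map y) ≫ g = val Ψ (uObj Scheme.fppfPrecoverage (stAction R π) Y y) :=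
      val_map Ψ (uMap (K := Scheme.fppfPrecoverage) (aX := stAction R π) y (Category.comp_id _))
    rw [h1]
    exact IsV.unique h hy (hΨ ⟨_, hy⟩) hx
  have hφ : ∀ {Y : Over (Spec (CommRingCat.of R))} (y : Y ⟶ STSch R π),
      (uObj Scheme.fppfPrecoverage (stAction R π) Y y).φ =
        lift (fst (Gm R) Y) (snd (Gm R) Y ≫ y) ≫ (stAction R π).act := by
    intro Y y
    change (Gm R ◁ y) ≫ _ = _
    congr 1
  refine eq_of_node hM hq hπ h g m₁ m₂ ?_ ?_
  · have hy : InU Scheme.fppfPrecoverage (stAction R π) (Ust π)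
        (uObj Scheme.fppfPrecoverage (stAction R π) _ (inc (X := STSch R π) (stFn (sFn R π)))) := by
      rw [inU_uObj_iff (stable_st π), preimage_Ust]
      have h1 : fn (B := STRing R π) (inc (X := STSch R π) (stFn (sFn R π))) (sFn R π) =
        (inc (X := STSch R π) (stFn (sFn R π))).left.appTop (stFn (sFn R π)) := rfl
      rw [h1, Scheme.basicOpen_of_isUnit _ (isUnit_inc _), top_sup_eq]
    have hs : IsUnit (fn (B := STRing R π)
        (uObj Scheme.fppfPrecoverage (stAction R π) _ (inc (X := STSch R π) (stFn (sFn R π)))).φ (sFn R π)) := by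
      rw [hφ, (fn_stAct _ _).1]
      exact (isUnit_z _ _).mul ((isUnit_inc (X := STSch R π) (stFn (sFn R π))).map (snd (Gm R) _).left.appTop.hom)
    exact hres (inc (X := STSch R π) (stFn (sFn R π))) hy _ (isV_of_isUnit_s h hπ e _ hs)
  · have hy : InU Scheme.fppfPrecoverage (stAction R π) (Ust π)
        (uObj Scheme.fppfPrecoverage (stAction R π) _ (inc (X := STSch R π) (stFn (tFn R π)))) := by
      rw [inU_uObj_iff (stable_st π), preimage_Ust]
      have h1 : fn (B := STRing R π) (inc (X := STSch R π) (stFn (tFn R π))) (tFn R π) =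
        (inc (X := STSch R π) (stFn (tFn R π))).left.appTop (stFn (tFn R π)) := rfl
      rw [h1, Scheme.basicOpen_of_isUnit _ (isUnit_inc _), sup_top_eq]
    have ht : IsUnit (fn (B := STRing R π)
        (uObj Scheme.fppfPrecoverage (stAction R π) _ (inc (X := STSch R π) (stFn (tFn R π)))).φ (tFn R π)) := by
      rw [hφ, (fn_stAct _ _).2]
      exact (isUnit_z _ _).mul ((isUnit_inc (X := STSch R π) (stFn (tFn R π))).map (snd (Gm R) _).left.appTop.hom)
    exact hres (inc (X := STSch R π) (stFn (tFn R π))) hy _ (isV_of_isUnit_t h hπ e _ ht)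

theorem IsV.comp {N : Sp S} {n₁ n₂ : (yon S).obj (B0 h) ⟶ N} (μ : N ⟶ M) (e₁ : n₁ ≫ μ = m₁) (e₂ : n₂ ≫ μ = m₂)
    {b : AlgSt.QuotObj Scheme.fppfPrecoverage (Gm R) (stAction R π)}
    {x : (yon S).obj ((Over.map h).obj b.base) ⟶ N} (hx : IsV h n₁ n₂ b x) : IsV h m₁ m₂ b (x ≫ μ) := by
  rintro ⟨_ | _⟩
  · rw [← Category.assoc, hx ⟨false⟩]
    change ((yon S).map (stB h (chT π b)) ≫ n₂) ≫ μ = (yon S).map (stB h (chT π b)) ≫ m₂
    rw [Category.assoc, e₂]
  · rw [← Category.assoc, hx ⟨true⟩]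
    change ((yon S).map (stB h (chS π b)) ≫ n₁) ≫ μ = (yon S).map (stB h (chS π b)) ≫ m₁
    rw [Category.assoc, e₁]

theorem yo_down {Z T : Over S} (c : ((yon S).obj Z).obj.obj (op T)) : yo c = (yon S).map c.down := by
  rw [← yo_oy ((yon S).map c.down)]
  congr 1

theorem comp_toOverCat_yF {Z : Over S} (μ : (yon S).obj Z ⟶ M) :
    Nonempty (BasedFunctor.comp (toOverCat Z) (yF μ) ≅ ofSpMap μ) := by
  apply nonempty_iso
  intro c
  have h1 := val_ofSpMap (BasedFunctor.id (AlgSt.ofSp ((yon S).obj Z))) μ c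
  have h2 : BasedFunctor.comp (BasedFunctor.id (AlgSt.ofSp ((yon S).obj Z))) (ofSpMap μ) = ofSpMap μ := rfl
  rw [h2] at h1
  rw [h1, val_comp, val_yF]
  change (yon S).map (𝟙 _) ≫ (yon S).map c.sec.down ≫ μ = ((yon S).map (𝟙 _) ≫ yo c.sec) ≫ μ
  rw [(yon S).map_id, Category.id_comp, Category.id_comp, yo_down]

/-- The point of `M` attached to a functor from a slice. -/
theorem eq_of_sComplete [QuasiSeparatedSpace ↥S] {𝒳 : AlgSt.Cat S} (hst : Stk.IsStack (AlgSp.J S) 𝒳)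
    (hc : IsSCompleteOver Scheme.fppfPrecoverage 𝒳) (hM : IsAlgSpace M) (hq : IsQuasiSeparatedSp M)
    (p : 𝒳 ⥤ᵇ ofSp M) [IsDomain R] [IsDiscreteValuationRing R]
    (x₁ x₂ : overCat (B0 h) ⥤ᵇ 𝒳)
    (θ : BasedFunctor.comp (overMap (stB h (CoactBr.sp R (FractionRing R)))) x₁ ≅
      BasedFunctor.comp (overMap (stB h (CoactBr.sp R (FractionRing R)))) x₂)
    (e₁ : BasedFunctor.comp x₁ p ≅ yF m₁) (e₂ : BasedFunctor.comp x₂ p ≅ yF m₂) : m₁ = m₂ := by
  obtain ⟨π, hπ⟩ := IsDiscreteValuationRing.exists_irreducible R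
  let j := stB h (CoactBr.sp R (FractionRing R))
  haveI : IsOpenImmersion j.left := Groth.Agent.Models.DVRGeneric.isOpenImmersion_generic R (FractionRing R)
  obtain ⟨z, ⟨i₁⟩, ⟨i₂⟩⟩ := exists_glue hst j x₁ x₂ θ
  obtain ⟨μ, ⟨κ⟩⟩ := exists_yF (BasedFunctor.comp z p)
  have hμ : ∀ (i : B0 h ⟶ glue j j) (x : overCat (B0 h) ⥤ᵇ 𝒳) (m : (yon S).obj (B0 h) ⟶ M),
      (BasedFunctor.comp (overMap i) z ≅ x) → (BasedFunctor.comp x p ≅ yF m) → (yon S).map i ≫ μ = m := by
    intro i x m a b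
    obtain ⟨c⟩ := yF_map i μ
    exact eq_of_iso_yF (c.symm ≪≫ (whiskerLeftIso (overMap i) κ).symm ≪≫ whiskerRightIso a p ≪≫ b)
  have e₁' := hμ _ _ _ i₁ e₁
  have e₂' := hμ _ _ _ i₂ e₂
  obtain ⟨Φ, hΦ⟩ := exists_fun (M := (yon S).obj (glue j j)) (m₁ := (yon S).map (inl j j))
    (m₂ := (yon S).map (inr j j)) h hπ (by rw [← Functor.map_comp, ← Functor.map_comp, condition])
  have hc' : LiftSq.LiftsUniquely (subI (ThetaS.overS h (AlgSt.QuotSt Scheme.fppfPrecoverage (Gm R) (stAction R π)))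
      (InU Scheme.fppfPrecoverage (stAction R π) (Ust π))) (toSelf 𝒳) := by
    have := hc R π hπ h
    rw [← missesNode_eq]
    exact this
  obtain ⟨Ψ, ⟨ε⟩⟩ := extends_of_liftsUniquely _ 𝒳 hc' (BasedFunctor.comp (BasedFunctor.comp Φ (toOverCat _)) z)
  refine eq_of_ext h hM hq hπ ?_ (BasedFunctor.comp Ψ p) fun b => ?_
  · rw [← e₁', ← e₂', ← Category.assoc, ← Category.assoc, ← Functor.map_comp, ← Functor.map_comp, condition]
  · obtain ⟨ν⟩ := comp_toOverCat_yF μ
    have f1 : BasedFunctor.comp (BasedFunctor.comp (subI (ThetaS.overS h (AlgSt.QuotSt Scheme.fppfPrecoverage (Gm R)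
        (stAction R π))) (InU Scheme.fppfPrecoverage (stAction R π) (Ust π))) Ψ) p ≅
        BasedFunctor.comp Φ (ofSpMap μ) :=
      whiskerRightIso ε p ≪≫ whiskerLeftIso (BasedFunctor.comp Φ (toOverCat _)) κ ≪≫ whiskerLeftIso Φ ν
    have f2 := K943.SpSep.val_congr f1.hom b
    have f3 : val (BasedFunctor.comp (BasedFunctor.comp (subI (ThetaS.overS h (AlgSt.QuotSt Scheme.fppfPrecoverage (Gm R)
        (stAction R π))) (InU Scheme.fppfPrecoverage (stAction R π) (Ust π))) Ψ) p) b =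
        val (BasedFunctor.comp Ψ p) b.obj := by
      change val (BasedFunctor.comp (subI _ _) (BasedFunctor.comp Ψ p)) b = _
      rw [val_comp]
      change (yon S).map (𝟙 _) ≫ val (BasedFunctor.comp Ψ p) b.obj = _
      rw [(yon S).map_id, Category.id_comp]
    rw [← f3, f2, val_ofSpMap]
    exact IsV.comp h μ e₁' e₂' (hΦ b)

end st

end K943.ModGlue
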