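import Groth.Agent.ThetaS.K943.ModDvr
import Groth.Agent.ThetaS.K943.ModGlue
import Groth.Agent.ThetaS.K943.SpLft
import Groth.Agent.AlgSp.K614.SepLift
import Groth.Agent.S10207
import Groth.Agent.S17528
import Groth.Agent.S13002

/-!
# Good moduli spaces of S-complete stacks are separated
-/

set_option autoImplicit false
set_option linter.style.haveILetI false
set_option backward.isDefEq.respectTransparency false
set_option backward.isDefEq.respectTransparency.types false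
universe v₂ u₂ w v u
open CategoryTheory CategoryTheory.Limits AlgebraicGeometry Opposite Topology TopologicalSpace FibCat

namespace K943.ModSep

open AlgSp AlgSt K943.SpVal K943.SpIso K735.Fib K735.Fp K735.Rep K735.Cart K943.ModPts K943.ModDvr K943.ModGlue
  K943.LocPair K943.SpNode

variable {S : Scheme.{u}}

section ring

variable {R R' : Type u} [CommRing R] [CommRing R'] [IsDomain R] [IsDomain R'] [IsDiscreteValuationRing R]
  [IsDiscreteValuationRing R'] (φ : R →+* R')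

theorem flat_surjective (hφ : Function.Injective φ) [IsLocalHom φ] :
    Flat (Spec.map (CommRingCat.ofHom φ)) ∧ Surjective (Spec.map (CommRingCat.ofHom φ)) := by
  letI := φ.toAlgebra
  haveI : Module.Flat R R' := K614.SepLift.flat_of_injective hφ
  haveI : IsLocalHom (algebraMap R R') := ‹IsLocalHom φ›
  haveI : Module.FaithfullyFlat R R' := Module.FaithfullyFlat.of_flat_of_isLocalHom
  exact (flat_and_surjective_SpecMap_iff (CommRingCat.ofHom φ)).2 this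

/-- Equality of points of an algebraic space can be tested over an extension. -/
theorem eq_of_ext (M : Space S) (hφ : Function.Injective φ) [IsLocalHom φ] (sR : Spec (CommRingCat.of R) ⟶ S)
    {l l' : (yon S).obj (Over.mk sR) ⟶ M.obj} (e : (yon S).map (gm φ sR) ≫ l = (yon S).map (gm φ sR) ≫ l') : l = l' := by
  obtain ⟨h1, h2⟩ := flat_surjective φ hφ
  exact K614.SepLift.ext_of_flat (Groth.Agent.S10207.result M) (gm φ sR)
    (inferInstanceAs (IsAffine (Spec (CommRingCat.of R)))) (inferInstanceAs (IsAffine (Spec (CommRingCat.of R'))))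
    h1 h2 l l' e

theorem exists_gen_map (hφ : Function.Injective φ) (sR : Spec (CommRingCat.of R) ⟶ S) :
    ∃ g : gT (Spec.map (CommRingCat.ofHom φ) ≫ sR) ⟶ gT sR,
      g ≫ gj sR = gj (Spec.map (CommRingCat.ofHom φ) ≫ sR) ≫ gm φ sR := by
  let ψ : FractionRing R →+* FractionRing R' := IsFractionRing.map (K := FractionRing R) (L := FractionRing R') hφ
  have h1 : Spec.map (CommRingCat.ofHom ψ) ≫ Spec.map (CommRingCat.ofHom (algebraMap R (FractionRing R))) =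
      Spec.map (CommRingCat.ofHom (algebraMap R' (FractionRing R'))) ≫ Spec.map (CommRingCat.ofHom φ) := by
    rw [← Spec.map_comp, ← Spec.map_comp]
    congr 1
    ext x
    change ψ (algebraMap R (FractionRing R) x) = algebraMap R' (FractionRing R') (φ x)
    exact IsLocalization.map_eq _ x
  exact ⟨Over.homMk (Spec.map (CommRingCat.ofHom ψ)) (by
    change Spec.map (CommRingCat.ofHom ψ) ≫ Spec.map (CommRingCat.ofHom (algebraMap R (FractionRing R))) ≫ sR = _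
    rw [reassoc_of% h1]
    rfl), Over.OverMorphism.ext h1⟩

end ring

section main

attribute [local instance] K951.Pts.algΓ

variable [QuasiSeparatedSpace S] [IsAffine S] {𝒳 : AlgSt.Cat S} (h𝒳 : IsAlgStack Scheme.fppfPrecoverage 𝒳) (M : Space S)
  (hM : IsQuasiSeparatedSp M.obj) (π : 𝒳 ⥤ᵇ ofSp M.obj) (hqc : IsQuasiCompactMor Scheme.fppfPrecoverage π)
  (hqs : IsQuasiSeparatedMor π) (hπ : StMod.IsGoodModuli π) (hft : LocQ (LocP @LocallyOfFiniteType) π)
  (hc : ThetaS.IsSCompleteOver Scheme.fppfPrecoverage 𝒳)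

include h𝒳 hM hc in
/-- Two points of `M` with lifts that agree generically are equal. -/
theorem eq_of_lifts {R : Type u} [CommRing R] [IsDomain R] [IsDiscreteValuationRing R]
    (sR : Spec (CommRingCat.of R) ⟶ S) (m₁ m₂ : (yon S).obj (Over.mk sR) ⟶ M.obj)
    (x₁ x₂ : overCat (Over.mk sR) ⥤ᵇ 𝒳) (e₁ : BasedFunctor.comp x₁ π ≅ yF m₁) (e₂ : BasedFunctor.comp x₂ π ≅ yF m₂)
    (θ : BasedFunctor.comp (overMap (gj sR)) x₁ ≅ BasedFunctor.comp (overMap (gj sR)) x₂) : m₁ = m₂ := by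
  let i : B0 sR ⟶ Over.mk sR := Over.homMk (𝟙 _) (by
    change 𝟙 _ ≫ sR = 𝟙 _ ≫ sR
    rfl)
  let i' : Over.mk sR ⟶ B0 sR := Over.homMk (𝟙 _) (by
    change 𝟙 _ ≫ 𝟙 _ ≫ sR = sR
    rw [Category.id_comp, Category.id_comp])
  have hi : i' ≫ i = 𝟙 _ := by
    apply Over.OverMorphism.ext
    change 𝟙 _ ≫ 𝟙 _ = 𝟙 _
    rw [Category.id_comp]
  let j : (Over.map sR).obj (CoactBr.sp R (FractionRing R)) ⟶ gT sR := Over.homMk (𝟙 _) (by
    change 𝟙 _ ≫ _ = _
    rw [Category.id_comp]; rfl)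
  have hj : stB sR (CoactBr.sp R (FractionRing R)) ≫ i = j ≫ gj sR := by
    apply Over.OverMorphism.ext
    change _ ≫ 𝟙 _ = 𝟙 _ ≫ _
    rw [Category.id_comp, Category.comp_id]; rfl
  have hrw : ∀ x : overCat (Over.mk sR) ⥤ᵇ 𝒳, Nonempty (BasedFunctor.comp (overMap (stB sR (CoactBr.sp R (FractionRing R))))
      (BasedFunctor.comp (overMap i) x) ≅ BasedFunctor.comp (overMap j) (BasedFunctor.comp (overMap (gj sR)) x)) := by
    intro x
    obtain ⟨c1⟩ := exists_iso_overMap_comp (stB sR (CoactBr.sp R (FractionRing R))) i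
    obtain ⟨c2⟩ := exists_iso_overMap_comp j (gj sR)
    exact ⟨whiskerRightIso (c1 ≪≫ overMapCongr hj ≪≫ c2.symm) x⟩
  obtain ⟨a1⟩ := hrw x₁
  obtain ⟨a2⟩ := hrw x₂
  obtain ⟨b1⟩ := yF_map i m₁
  obtain ⟨b2⟩ := yF_map i m₂
  have key : (yon S).map i ≫ m₁ = (yon S).map i ≫ m₂ :=
    eq_of_sComplete sR h𝒳.isStack hc M.property hM π (BasedFunctor.comp (overMap i) x₁) (BasedFunctor.comp (overMap i) x₂)
      (a1 ≪≫ whiskerLeftIso (overMap j) θ ≪≫ a2.symm) (whiskerLeftIso (overMap i) e₁ ≪≫ b1)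
      (whiskerLeftIso (overMap i) e₂ ≪≫ b2)
  calc m₁ = (yon S).map (i' ≫ i) ≫ m₁ := by rw [hi, (yon S).map_id, Category.id_comp]
    _ = (yon S).map (i' ≫ i) ≫ m₂ := by rw [Functor.map_comp, Category.assoc, key, Category.assoc]
    _ = m₂ := by rw [hi, (yon S).map_id, Category.id_comp]

include h𝒳 hM hqc hqs hπ hft hc in
/-- The uniqueness part of the valuative criterion. -/
theorem eq_of_generic {R : Type u} [CommRing R] [IsDomain R] [IsDiscreteValuationRing R]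
    (sR : Spec (CommRingCat.of R) ⟶ S) (l l' : (yon S).obj (Over.mk sR) ⟶ M.obj)
    (e : (yon S).map (gj sR) ≫ l = (yon S).map (gj sR) ≫ l') : l = l' := by
  obtain ⟨R₁, _, _, _, φ₁, inj₁, _, a₁, ⟨α₁⟩⟩ := exists_gen h𝒳 M hM π hqc hqs hπ hft sR l
  obtain ⟨g₁, hg₁⟩ := exists_gen_map φ₁ inj₁ sR
  apply eq_of_ext φ₁ M inj₁ sR
  have e₁ : (yon S).map (gj (Spec.map (CommRingCat.ofHom φ₁) ≫ sR)) ≫ (yon S).map (gm φ₁ sR) ≫ l =
      (yon S).map (gj (Spec.map (CommRingCat.ofHom φ₁) ≫ sR)) ≫ (yon S).map (gm φ₁ sR) ≫ l' := by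
    rw [← Category.assoc, ← Category.assoc, ← Functor.map_comp, ← hg₁, Functor.map_comp, Category.assoc,
      Category.assoc, e]
  rw [Functor.map_comp, Category.assoc] at α₁
  clear hg₁ g₁
  generalize (yon S).map (gm φ₁ sR) ≫ l = m₁ at α₁ e₁ ⊢
  generalize (yon S).map (gm φ₁ sR) ≫ l' = m₁' at e₁ ⊢
  generalize Spec.map (CommRingCat.ofHom φ₁) ≫ sR = s₁ at *
  obtain ⟨R₂, _, _, _, φ₂, inj₂, _, -, c₂, -, ⟨γ₂⟩, -⟩ := exists_lift h𝒳 M hM π hqc hqs hπ hft s₁ m₁ a₁ α₁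
  obtain ⟨g₂, hg₂⟩ := exists_gen_map φ₂ inj₂ s₁
  apply eq_of_ext φ₂ M inj₂ s₁
  have e₂ : (yon S).map (gj (Spec.map (CommRingCat.ofHom φ₂) ≫ s₁)) ≫ (yon S).map (gm φ₂ s₁) ≫ m₁ =
      (yon S).map (gj (Spec.map (CommRingCat.ofHom φ₂) ≫ s₁)) ≫ (yon S).map (gm φ₂ s₁) ≫ m₁' := by
    rw [← Category.assoc, ← Category.assoc, ← Functor.map_comp, ← hg₂, Functor.map_comp, Category.assoc,
      Category.assoc, e₁]
  clear hg₂ g₂
  generalize (yon S).map (gm φ₂ s₁) ≫ m₁ = m₂ at γ₂ e₂ ⊢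
  generalize (yon S).map (gm φ₂ s₁) ≫ m₁' = m₂' at e₂ ⊢
  generalize Spec.map (CommRingCat.ofHom φ₂) ≫ s₁ = s₂ at *
  obtain ⟨b₂⟩ := yF_map (gj s₂) m₂
  obtain ⟨R₃, _, _, _, φ₃, inj₃, _, g₃, c₃, hg₃, ⟨γ₃⟩, ⟨δ₃⟩⟩ := exists_lift h𝒳 M hM π hqc hqs hπ hft s₂ m₂'
    (BasedFunctor.comp (overMap (gj s₂)) c₂)
    (whiskerLeftIso (overMap (gj s₂)) γ₂ ≪≫ b₂ ≪≫ eqToIso (by rw [e₂]))
  apply eq_of_ext φ₃ M inj₃ s₂
  obtain ⟨b₃⟩ := yF_map (gm φ₃ s₂) m₂
  obtain ⟨d1⟩ := exists_iso_overMap_comp (gj (Spec.map (CommRingCat.ofHom φ₃) ≫ s₂)) (gm φ₃ s₂)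
  obtain ⟨d2⟩ := exists_iso_overMap_comp g₃ (gj s₂)
  exact eq_of_lifts h𝒳 M hM π hc _ _ _ (BasedFunctor.comp (overMap (gm φ₃ s₂)) c₂) c₃
    (whiskerLeftIso (overMap (gm φ₃ s₂)) γ₂ ≪≫ b₃) γ₃
    (whiskerRightIso (d1 ≪≫ overMapCongr hg₃.symm ≪≫ d2.symm) c₂ ≪≫ δ₃.symm)

end main

/-- Good moduli spaces of S-complete stacks of finite type over a Noetherian affine scheme are separated. -/
theorem isSeparatedSp_of_goodModuli [IsNoetherian S] [IsAffine S] {𝒳 : AlgSt.Cat S}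
    (h𝒳 : IsAlgStack Scheme.fppfPrecoverage 𝒳) (hft : LocQ (LocP @LocallyOfFiniteType) (toSelf 𝒳))
    (hq : AlgSt.IsQuasiCompact 𝒳) (M : Space S) (hM : IsQuasiSeparatedSp M.obj) (π : 𝒳 ⥤ᵇ ofSp M.obj)
    (hqc : IsQuasiCompactMor Scheme.fppfPrecoverage π) (hqs : IsQuasiSeparatedMor π) (hπ : StMod.IsGoodModuli π)
    (hc : ThetaS.IsSCompleteOver Scheme.fppfPrecoverage 𝒳) : IsSeparatedSp M.obj := by
  have hlft : LocQ (LocP @LocallyOfFiniteType) π := by
    refine Groth.Agent.S13002.result S 𝒳 _ _ h𝒳 (K740.SpDM.isAlgStack_ofSp M.property) (K741.isAlgStack_selfOver S) π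
      (toSelf _) ?_
    rw [K741.eq_toSelf (BasedFunctor.comp π (toSelf (ofSp M.obj)))]
    exact hft
  let t : M.obj ⟶ K943.SpLft.pt S := (K596.QC2.isTerminalYon S).from M.obj
  rw [← K943.SpLft.isSeparatedMor_pt_iff t]
  refine K604.SepDvr.isSeparatedMor_of_dvrUniq M.property t ?_
    (Groth.Agent.S17528.result S 𝒳 h𝒳 hft hq M hM π hqc hqs hπ t).1 ?_ ?_
  · exact K613.Diag.repWith_diagonal_of_diag hM t
  · refine ⟨Over.mk (𝟙 S), 𝟙 _, K943.SpLft.repWith_id _, ?_, inferInstanceAs (IsLocallyNoetherian S)⟩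
    rw [← (yon S).map_id]
    exact (repWith_yon_map_iff _ _).2 (by dsimp; infer_instance)
  · intro A _ _ _ str l l' _ e
    exact eq_of_generic h𝒳 M hM π hqc hqs hπ hlft hc str l l' e

end K943.ModSep
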