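import Groth.Agent.ThetaS.K943.ChartDvr
import Groth.Agent.ThetaS.K943.SpSep

/-!
# Θ- and S-completeness of stacks with a good moduli space which is etale locally a quotient presentation
-/

set_option autoImplicit false
set_option linter.style.haveILetI false
set_option backward.isDefEq.respectTransparency false
set_option backward.isDefEq.respectTransparency.types false
universe v₂ u₂ w v u
open CategoryTheory CategoryTheory.Limits MonoidalCategory CartesianMonoidalCategory MonObj GrpObj AlgebraicGeometry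
open Opposite Topology TopologicalSpace FibCat ThetaS
open scoped Polynomial

namespace K943.SepRows

open AlgSp K943.SpNode K943.BcRing K943.BcMain K943.ChartDvr K943.SpIso K943.CoverExt K943.QuotOpen K943.SpTheta
open K942.Coord K942.AffMain K943.SelfLift

attribute [local instance] K951.Pts.algΓ

section geo

variable {S : Scheme.{u}} {R R' : Type u} [CommRing R] [CommRing R'] [Algebra R R']

theorem fppf_of_pullback {X₁ : Over (Spec (CommRingCat.of R'))} {X₀ : Over (Spec (CommRingCat.of R))}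
    {r : (Over.map (jj R R')).obj X₁ ⟶ X₀} (h : IsPullback r.left X₁.hom X₀.hom (jj R R')) [Algebra.Etale R R']
    (hs : Surjective (jj R R')) : Flat r.left ∧ LocallyOfFinitePresentation r.left ∧ Surjective r.left :=
  ⟨MorphismProperty.of_isPullback h.flip inferInstance, MorphismProperty.of_isPullback h.flip inferInstance,
    MorphismProperty.of_isPullback h.flip hs⟩

end geo

section rows

variable {S : Scheme.{u}} [QuasiSeparatedSpace ↥S] {𝒳 : AlgSt.Cat S} (h𝒳 : Stk.IsStack (QuotSh.J Scheme.fppfPrecoverage S) 𝒳)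
  (hdiag : AlgSt.RepByAlgSpWith (AlgSp.RepWith @IsAffineHom) (FibCat.diag (FibCat.toSelf 𝒳)))
  {M : Sp S} (hM : IsAlgSpace M) (π : 𝒳 ⥤ᵇ AlgSt.ofSp M)
  {U : Over S} (u : (yon S).obj U ⟶ M) (hu : RepWith @Etale u) (hus : IsSurjectiveMor u)
  {𝒵 : AlgSt.Cat S} (e : 𝒵 ⥤ᵇ FibCat.fp (AlgSt.ofSpMap u) π) (he : FibCat.IsEquivOver e)

include h𝒳 hdiag hM hu hus he in
theorem isThetaComplete (hq : IsQuasiSeparatedSp M) (hQ : IsThetaComplete Scheme.fppfPrecoverage 𝒵) :
    IsThetaComplete Scheme.fppfPrecoverage 𝒳 := by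
  intro R _ _ _ ϖ hϖ h
  haveI := h𝒳.1
  haveI : LocallyOfFinitePresentation (Gm R).hom := K943.SpSep.lfp_Gm
  have H : UniqFlat h (Uline ϖ) (toSelf 𝒳) := UniqDiag.uniqFlat_line hdiag hϖ.ne_zero h
  have key : LiftSq.LiftsUniquely (subI (ThetaS.overS h (AlgSt.QuotSt Scheme.fppfPrecoverage (Gm R) (lineAction R)))
      (InU Scheme.fppfPrecoverage (lineAction R) (Uline ϖ))) (toSelf 𝒳) := by
    intro sq
    refine ⟨?_, uniqLift_quot h (stable_line ϖ) (isPrestack h𝒳) (isPrestack_self _) H sq⟩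
    obtain ⟨R', _, _, _, _, _, hϖ', m, hm⟩ := exists_chart_dvr u hu hus hϖ h
      (atOne Scheme.fppfPrecoverage ϖ h (BasedFunctor.comp sq.top π))
    obtain ⟨hfl, hlfp, hsu⟩ := fppf_of_pullback (R := R) (R' := R') isPullback_line (surjective_jj hϖ hϖ')
    have hZ : Extends (subI (ThetaS.overS (jj R R' ≫ h) (AlgSt.QuotSt Scheme.fppfPrecoverage (Gm R') (lineAction R')))
        (InU Scheme.fppfPrecoverage (lineAction R') (Uline (algebraMap R R' ϖ)))) 𝒵 := by
      apply extends_of_liftsUniquely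
      have h1 := hQ R' (algebraMap R R' ϖ) hϖ' (jj R R' ≫ h)
      rw [← missesOrigin_eq]
      exact h1
    exact hasLift_of_chart h (jj R R' ≫ h) rfl h𝒳 π u e he (stable_line ϖ) (stable_line (algebraMap R R' ϖ)) isBc_qGm
      isEqv_line (preimage_line ϖ) H sq _ (val_line hM hq hϖ h _) m hm hZ
  rw [← missesOrigin_eq] at key
  exact key

omit [QuasiSeparatedSpace ↥S] in
include h𝒳 hdiag hu hus he in
theorem isSCompleteOver (hsep : IsSeparatedSp M) (hQ : IsSCompleteOver Scheme.fppfPrecoverage 𝒵) :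
    IsSCompleteOver Scheme.fppfPrecoverage 𝒳 := by
  intro R _ _ _ ϖ hϖ h
  haveI := h𝒳.1
  haveI : LocallyOfFinitePresentation (Gm R).hom := K943.SpSep.lfp_Gm
  have H : UniqFlat h (Ust ϖ) (toSelf 𝒳) := UniqDiag.uniqFlat_st hdiag hϖ.ne_zero h
  have key : LiftSq.LiftsUniquely (subI (ThetaS.overS h (AlgSt.QuotSt Scheme.fppfPrecoverage (Gm R) (stAction R ϖ)))
      (InU Scheme.fppfPrecoverage (stAction R ϖ) (Ust ϖ))) (toSelf 𝒳) := by
    intro sq
    refine ⟨?_, uniqLift_quot h (stable_st ϖ) (isPrestack h𝒳) (isPrestack_self _) H sq⟩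
    obtain ⟨R', _, _, _, _, _, hϖ', m, hm⟩ := exists_chart_dvr u hu hus hϖ h
      (atS h (BasedFunctor.comp sq.top π))
    obtain ⟨hfl, hlfp, hsu⟩ := fppf_of_pullback (R := R) (R' := R') (isPullback_st (π := ϖ)) (surjective_jj hϖ hϖ')
    have hZ : Extends (subI (ThetaS.overS (jj R R' ≫ h) (AlgSt.QuotSt Scheme.fppfPrecoverage (Gm R')
          (stAction R' (algebraMap R R' ϖ))))
        (InU Scheme.fppfPrecoverage (stAction R' (algebraMap R R' ϖ)) (Ust (algebraMap R R' ϖ)))) 𝒵 := by
      apply extends_of_liftsUniquely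
      have h1 := hQ R' (algebraMap R R' ϖ) hϖ' (jj R R' ≫ h)
      rw [← missesNode_eq]
      exact h1
    exact hasLift_of_chart h (jj R R' ≫ h) rfl h𝒳 π u e he (stable_st ϖ) (stable_st (algebraMap R R' ϖ)) isBc_qGm
      isEqv_st preimage_st H sq _ (val_st hsep hϖ h _) m hm hZ
  rw [← missesNode_eq] at key
  exact key

end rows

end K943.SepRows
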