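import Groth.Agent.ThetaS.K943.LiftMain

/-!
# Local dotted arrows at an object whose `Q`-arrows factor through one arrow

`k : v ⟶ b` an arrow of `ℬ` from an object with `Q` through which all arrows `a ⟶ b` with `Q a` factor uniquely
(the restriction of `b` to an open).  Local dotted arrows at `b` are extensions of one object along `p k`.
-/

set_option backward.isDefEq.respectTransparency false
set_option backward.isDefEq.respectTransparency.types false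
set_option autoImplicit false
set_option linter.style.haveILetI false

universe v₄ u₄ v₃ u₃ v₂ u₂ v u

open CategoryTheory Opposite FibCat K943.FibBase K943.CoverExt K943.LocLift K943.LocLift.LL K943.LocGlue
  K943.LiftGlue

namespace K943.LocPair

variable {C : Type u} [Category.{v} C]
variable {𝒳 : BasedCategory.{v₃, u₃} C} {𝒴 : BasedCategory.{v₄, u₄} C}

/-- Objects of `𝒳` extend along `i` (relative to `f`). -/
def LiftsAt {V T : C} (i : V ⟶ T) (f : 𝒳 ⥤ᵇ 𝒴) : Prop :=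
  ∀ (y : 𝒴.obj) (xv : 𝒳.obj) (c : f.obj xv ⟶ y), 𝒴.p.IsHomLift i c →
    ∃ (x : 𝒳.obj) (t : xv ⟶ x) (β : f.obj x ⟶ y), 𝒳.p.IsHomLift i t ∧ 𝒴.p.IsHomLift (𝟙 T) β ∧ f.map t ≫ β = c

/-- Morphisms of `𝒳` extend uniquely along `i` (relative to `f`). -/
def UniqAt {V T : C} (i : V ⟶ T) (f : 𝒳 ⥤ᵇ 𝒴) : Prop :=
  ∀ (xv x x' : 𝒳.obj) (t : xv ⟶ x) (t' : xv ⟶ x') (ψ : f.obj x ⟶ f.obj x'), 𝒳.p.IsHomLift i t →
    𝒳.p.IsHomLift i t' → 𝒴.p.IsHomLift (𝟙 T) ψ → f.map t ≫ ψ = f.map t' →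
    ∃! φ : x ⟶ x', 𝒳.p.IsHomLift (𝟙 T) φ ∧ t ≫ φ = t' ∧ f.map φ = ψ

variable {ℬ : BasedCategory.{v₂, u₂} C} {Q : ℬ.obj → Prop} {f : 𝒳 ⥤ᵇ 𝒴}

/-- `k : v ⟶ b` is terminal among arrows to `b` from objects with `Q`. -/
def IsQTerm (v : (sub ℬ Q).obj) {b : ℬ.obj} (k : v.obj ⟶ b) : Prop :=
  ∀ (a : (sub ℬ Q).obj) (m : a.obj ⟶ b), ∃! n : a ⟶ v, n.hom ≫ k = m

variable [hℬ : IsFibGrpd ℬ.p] [h𝒳 : IsFibGrpd 𝒳.p] [h𝒴 : IsFibGrpd 𝒴.p]
variable {sq : LiftSq.Sq (subI ℬ Q) f}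

omit hℬ h𝒳 in
/-- A local dotted arrow from an extension along `p k`. -/
theorem exists_LL (v : (sub ℬ Q).obj) {b : ℬ.obj} (k : v.obj ⟶ b) (hk : IsQTerm v k)
    (x : 𝒳.obj) (t : sq.top.obj v ⟶ x) (β : f.obj x ⟶ sq.bot.obj b)
    (ht : 𝒳.p.IsHomLift (ℬ.p.map k) t) (hβ : 𝒴.p.IsHomLift (𝟙 (ℬ.p.obj b)) β)
    (e : sq.iso.hom.toNatTrans.app v ≫ f.map t ≫ β = sq.bot.map k) : Nonempty (LL sq b) := by
  haveI : IsIso β := isIso_of_lift_id 𝒴.p (T := ℬ.p.obj b) β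
  choose n hn1 hn2 using hk
  have hnn : ∀ {a a' : (sub ℬ Q).obj} (r : a' ⟶ a) (m : a.obj ⟶ b), r ≫ n a m = n a' (r.hom ≫ m) := by
    intro a a' r m
    refine hn2 a' _ (r ≫ n a m) ?_
    change (r.hom ≫ (n a m).hom) ≫ k = r.hom ≫ m
    rw [Category.assoc]
    exact congrArg (fun t => r.hom ≫ t) (hn1 a m)
  have hl : ∀ (a : (sub ℬ Q).obj) (m : a.obj ⟶ b), 𝒳.p.IsHomLift (ℬ.p.map m) (sq.top.map (n a m) ≫ t) := by
    intro a m
    haveI : (sub ℬ Q).p.IsHomLift (ℬ.p.map (n a m).hom) (n a m) := IsHomLift.map (sub ℬ Q).p (n a m)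
    haveI : 𝒳.p.IsHomLift (ℬ.p.map (n a m).hom) (sq.top.map (n a m)) :=
      BasedFunctor.preserves_isHomLift sq.top _ _
    have e1 : ℬ.p.map m = ℬ.p.map (n a m).hom ≫ ℬ.p.map k := by
      rw [← ℬ.p.map_comp]; exact congrArg ℬ.p.map (hn1 a m).symm
    rw [e1]; infer_instance
  refine ⟨⟨x, inv β, inferInstance, fun a m => sq.top.map (n a m) ≫ t, hl, fun {a a'} r m => ?_, fun a m => ?_⟩⟩
  · have e1 : sq.top.map (r ≫ n a m) = sq.top.map r ≫ sq.top.map (n a m) := sq.top.toFunctor.map_comp _ _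
    rw [← Category.assoc, ← e1, hnn]
  · have e1 : f.map (sq.top.map (n a m) ≫ t) = f.map (sq.top.map (n a m)) ≫ f.map t :=
      f.toFunctor.map_comp _ _
    have e2 : sq.bot.map (n a m).hom ≫ sq.iso.hom.toNatTrans.app v =
      sq.iso.hom.toNatTrans.app a ≫ f.map (sq.top.map (n a m)) := sq.iso.hom.toNatTrans.naturality (n a m)
    have e3 : sq.bot.map m = sq.bot.map (n a m).hom ≫ sq.bot.map k := by
      have h1 : m = (n a m).hom ≫ k := (hn1 a m).symm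
      have h2 : sq.bot.map ((n a m).hom ≫ k) = sq.bot.map (n a m).hom ≫ sq.bot.map k :=
        sq.bot.toFunctor.map_comp _ _
      exact (congrArg sq.bot.map h1).trans h2
    rw [IsIso.comp_inv_eq, e1, e3, ← e]
    calc sq.bot.map (n a m).hom ≫ sq.iso.hom.toNatTrans.app v ≫ f.map t ≫ β
        = (sq.bot.map (n a m).hom ≫ sq.iso.hom.toNatTrans.app v) ≫ f.map t ≫ β :=
          (Category.assoc _ _ _).symm
      _ = (sq.iso.hom.toNatTrans.app a ≫ f.map (sq.top.map (n a m))) ≫ f.map t ≫ β :=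
          congrArg (fun r => r ≫ f.map t ≫ β) e2
      _ = (sq.iso.hom.toNatTrans.app a ≫ f.map (sq.top.map (n a m)) ≫ f.map t) ≫ β := by
          simp only [Category.assoc]

omit hℬ h𝒳 in
theorem exists_LL_of_liftsAt (v : (sub ℬ Q).obj) {b : ℬ.obj} (k : v.obj ⟶ b) (hk : IsQTerm v k)
    (h : LiftsAt (ℬ.p.map k) f) (sq : LiftSq.Sq (subI ℬ Q) f) : Nonempty (LL sq b) := by
  haveI : 𝒴.p.IsHomLift (𝟙 (ℬ.p.obj v.obj)) (sq.iso.inv.toNatTrans.app v) := sq.iso.inv.isHomLift' v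
  haveI : ℬ.p.IsHomLift (ℬ.p.map k) k := IsHomLift.map ℬ.p k
  haveI : 𝒴.p.IsHomLift (ℬ.p.map k) (sq.bot.map k) := BasedFunctor.preserves_isHomLift sq.bot _ _
  obtain ⟨x, t, β, ht, hβ, e⟩ := h (sq.bot.obj b) (sq.top.obj v)
    (sq.iso.inv.toNatTrans.app v ≫ sq.bot.map k) (by
      change 𝒴.p.IsHomLift (ℬ.p.map k) (sq.iso.inv.toNatTrans.app v ≫ sq.bot.map k)
      infer_instance)
  refine exists_LL v k hk x t β ht hβ ?_
  rw [e]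
  have h1 : sq.iso.hom.toNatTrans.app v ≫ sq.iso.inv.toNatTrans.app v = 𝟙 _ :=
    congrArg (fun t : BasedFunctor.comp (subI ℬ Q) sq.bot ⟶ BasedFunctor.comp (subI ℬ Q) sq.bot =>
      t.toNatTrans.app v) sq.iso.hom_inv_id
  rw [← Category.assoc, h1]
  exact Category.id_comp _

omit hℬ h𝒳 in
/-- Comparison of two local dotted arrows at `b`. -/
theorem existsUnique_isH (v : (sub ℬ Q).obj) {b : ℬ.obj} (k : v.obj ⟶ b) (hk : IsQTerm v k)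
    (h : UniqAt (ℬ.p.map k) f) (ℓ ℓ' : LL sq b) : ∃! χ : ℓ.pt ⟶ ℓ'.pt, IsH ℓ ℓ' (𝟙 b) χ := by
  haveI := ℓ.hbot
  haveI := ℓ'.hbot
  haveI : IsIso ℓ.bot := isIso_of_lift_id 𝒴.p (T := ℬ.p.obj b) ℓ.bot
  have e2 : sq.bot.map (𝟙 b) = 𝟙 _ := sq.bot.toFunctor.map_id _
  have key : ∀ χ : ℓ.pt ⟶ ℓ'.pt, IsH ℓ ℓ' (𝟙 b) χ ↔
      (𝒳.p.IsHomLift (𝟙 (ℬ.p.obj b)) χ ∧ ℓ.t v k ≫ χ = ℓ'.t v k ∧ f.map χ = inv ℓ.bot ≫ ℓ'.bot) := by
    intro χ
    constructor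
    · rintro ⟨h1, h2, h3⟩
      refine ⟨by rwa [ℬ.p.map_id] at h1, ?_, ?_⟩
      · rw [h3, Category.comp_id]
      · rw [IsIso.eq_inv_comp, h2, e2]; exact Category.id_comp _
    · rintro ⟨h1, h2, h3⟩
      refine ⟨by rwa [ℬ.p.map_id], ?_, ?_⟩
      · rw [h3, IsIso.hom_inv_id_assoc, e2]; exact (Category.id_comp _).symm
      · intro a m
        obtain ⟨n, hn, -⟩ := hk a m
        subst hn
        rw [← ℓ.nat n k, Category.assoc, h2, ℓ'.nat n k, Category.comp_id]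
  have hψ : f.map (ℓ.t v k) ≫ inv ℓ.bot ≫ ℓ'.bot = f.map (ℓ'.t v k) := by
    have c1 := ℓ.compat v k
    have c2 := ℓ'.compat v k
    haveI : 𝒴.p.IsHomLift (𝟙 (ℬ.p.obj v.obj)) (sq.iso.hom.toNatTrans.app v) := sq.iso.hom.isHomLift' v
    haveI : IsIso (sq.iso.hom.toNatTrans.app v) := isIso_of_lift_id 𝒴.p (T := ℬ.p.obj v.obj) _
    rw [← cancel_epi (sq.iso.hom.toNatTrans.app v), ← c2, ← Category.assoc, ← c1, Category.assoc,
      IsIso.hom_inv_id_assoc]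
  haveI : 𝒴.p.IsHomLift (𝟙 (ℬ.p.obj b)) (inv ℓ.bot ≫ ℓ'.bot) := inferInstance
  obtain ⟨χ, hχ, hu⟩ := h _ _ _ (ℓ.t v k) (ℓ'.t v k) (inv ℓ.bot ≫ ℓ'.bot) (ℓ.ht v k) (ℓ'.ht v k)
    inferInstance hψ
  exact ⟨χ, (key χ).2 hχ, fun χ' h' => hu χ' ((key χ').1 h')⟩

theorem uniq1 (v : (sub ℬ Q).obj) {b : ℬ.obj} (k : v.obj ⟶ b) (hk : IsQTerm v k)
    (h : UniqAt (ℬ.p.map k) f) : Uniq1 sq b := fun ℓ ℓ' => (existsUnique_isH v k hk h ℓ ℓ').exists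

theorem uniq2 (v : (sub ℬ Q).obj) {b : ℬ.obj} (k : v.obj ⟶ b) (hk : IsQTerm v k)
    (h : UniqAt (ℬ.p.map k) f) : Uniq2 sq b := fun ℓ ℓ' _ _ h1 h2 =>
  (existsUnique_isH v k hk h ℓ ℓ').unique h1 h2

end K943.LocPair
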