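import Groth.Prelude.Def_ThetaS
import Groth.Agent.AlgSt.K744.QuotFib
import Groth.Agent.ThetaS.K943.QuotAtlas
import Groth.Agent.ThetaS.K943.LocPair

/-!
# The quotient stack seen over another base: fibred in groupoids, covered by its atlas

For `h : S' ⟶ S` and the quotient stack `[X/G]` over `S'`, `ThetaS.overS h [X/G]` is fibred in groupoids over `(Sch/S)` and
every object is covered (for the topology generated by `K`) by objects mapping to the atlas object `u0`.
-/

set_option backward.isDefEq.respectTransparency false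
set_option backward.isDefEq.respectTransparency.types false
set_option autoImplicit false
set_option linter.style.haveILetI false

universe w v u

open CategoryTheory CategoryTheory.Limits MonoidalCategory CartesianMonoidalCategory MonObj GrpObj AlgebraicGeometry
open FibCat K943.FibBase K943.CoverExt K943.LocLift K943.LocGlue K943.QuotAtlas

namespace K943.QuotCover

section OverS

variable {S' S : Scheme.{u}} (h : S' ⟶ S) (𝒯 : BasedCategory.{v, w} (Over S'))

theorem isFibGrpd_overS [hT : IsFibGrpd 𝒯.p] : IsFibGrpd (ThetaS.overS h 𝒯).p where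
  exists_lift := fun {x} {V} f => by
    have hw : f.left ≫ (𝒯.p.obj x).hom ≫ h = V.hom := Over.w f
    let g : Over S' := Over.mk (f.left ≫ (𝒯.p.obj x).hom)
    have hV : V = (Over.map h).obj g := by
      cases V with | mk l r v =>
      change _ = Over.mk ((f.left ≫ (𝒯.p.obj x).hom) ≫ h)
      rw [Category.assoc, hw]; rfl
    let r : g ⟶ 𝒯.p.obj x := Over.homMk f.left rfl
    obtain ⟨y, φ, hφ⟩ := hT.exists_lift (x := x) r
    refine ⟨y, φ, ?_⟩
    have e : f = eqToHom hV ≫ (Over.map h).map r := by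
      apply Over.OverMorphism.ext
      rw [Over.comp_left, Over.eqToHom_left]
      exact (Category.id_comp _).symm
    have key : ∀ {A B : Over S'} (r : A ⟶ B) {a b : 𝒯.obj} (ψ : a ⟶ b), 𝒯.p.IsHomLift r ψ →
        (ThetaS.overS h 𝒯).p.IsHomLift ((Over.map h).map r) ψ := by
      intro A B r a b ψ hψ
      subst_hom_lift 𝒯.p r ψ
      exact IsHomLift.map (ThetaS.overS h 𝒯).p ψ
    rw [e]
    haveI := key _ φ hφ
    exact IsHomLift.lift_eqToHom_comp (ThetaS.overS h 𝒯).p ((Over.map h).map r) φ hV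
  isStronglyCartesian := fun {y x} φ =>
    { universal_property' := fun {a'} g φ' hφ' => by
        haveI := hφ'
        have h1 : g ≫ (ThetaS.overS h 𝒯).p.map φ = (ThetaS.overS h 𝒯).p.map φ' :=
          IsHomLift.eq_of_isHomLift (ThetaS.overS h 𝒯).p (g ≫ (ThetaS.overS h 𝒯).p.map φ) φ'
        have h2 : g.left ≫ (𝒯.p.map φ).left = (𝒯.p.map φ').left := congrArg (fun t => t.left) h1
        have h3 : g.left ≫ (𝒯.p.obj y).hom = (𝒯.p.obj a').hom := by
          rw [← Over.w (𝒯.p.map φ), ← Category.assoc, h2, Over.w]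
        let g' : 𝒯.p.obj a' ⟶ 𝒯.p.obj y := Over.homMk g.left h3
        obtain ⟨χ, ⟨h4, h5⟩, h6⟩ := existsUnique_fac 𝒯.p φ φ' g' (by ext; exact h2)
        refine ⟨χ, ⟨?_, h5⟩, ?_⟩
        · have e : g = (ThetaS.overS h 𝒯).p.map χ := by
            ext
            change g.left = (𝒯.p.map χ).left
            rw [h4]; rfl
          rw [e]; exact IsHomLift.map (ThetaS.overS h 𝒯).p χ
        · rintro χ' ⟨h7, h8⟩
          refine h6 χ' ⟨?_, h8⟩
          have e : g = (ThetaS.overS h 𝒯).p.map χ' := IsHomLift.eq_of_isHomLift (ThetaS.overS h 𝒯).p g χ'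
          ext
          change (𝒯.p.map χ').left = g.left
          rw [e]; rfl }

end OverS

/-- The covering sieve contains the morphisms factoring through an object mapping to `b` and `u0`. -/
theorem cov_of_factors {C : Type u} [Category.{v} C] {ℬ : BasedCategory.{v, w} C} [hℬ : IsFibGrpd ℬ.p]
    {u0 b b0 : ℬ.obj} (q : b0 ⟶ b) (hb0 : Nonempty (b0 ⟶ u0)) {V : C} (g : V ⟶ ℬ.p.obj b)
    (s : V ⟶ ℬ.p.obj b0) (e : s ≫ ℬ.p.map q = g) : cov (closedInto_to u0) b g := by
  obtain ⟨a, k, hk⟩ := hℬ.exists_lift s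
  subst e
  exact ⟨a, k ≫ q, ⟨k ≫ hb0.some⟩, inferInstance⟩

/-- The atlas object. -/
noncomputable abbrev u0 (K : Precoverage Scheme.{u}) [K.HasIsos] {S' : Scheme.{u}} {G : Over S'} [GrpObj G]
    {X : Over S'} (aX : AlgGrp.Action G X) : AlgSt.QuotObj K G aX := uObj K aX X (𝟙 X)

/-- `u1 = u0 × u0`. -/
noncomputable abbrev u1 (K : Precoverage Scheme.{u}) [K.HasIsos] {S' : Scheme.{u}} {G : Over S'} [GrpObj G]
    {X : Over S'} (aX : AlgGrp.Action G X) : AlgSt.QuotObj K G aX := uObj K aX (u0 K aX).P (u0 K aX).φ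

/-- `u2 = u1 × u0`. -/
noncomputable abbrev u2 (K : Precoverage Scheme.{u}) [K.HasIsos] {S' : Scheme.{u}} {G : Over S'} [GrpObj G]
    {X : Over S'} (aX : AlgGrp.Action G X) : AlgSt.QuotObj K G aX := uObj K aX (u1 K aX).P (u1 K aX).φ

variable {S' S : Scheme.{u}} (h : S' ⟶ S) {G : Over S'} [GrpObj G] {X : Over S'} {aX : AlgGrp.Action G X}
  {K : Precoverage Scheme.{u}} [K.HasIsos]

theorem isSq : IsSq (u0 := u0 K aX) (u1 := u1 K aX) (qb (u0 K aX)) (rb (u0 K aX)) where
  ex := fun α β => by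
    obtain ⟨w, h1, h2⟩ := exists_prod α β
    exact ⟨w, h1, h2⟩
  uniq := fun w w' h1 h2 => prod_ext h1 h2

theorem isTri : IsTri (u0 := u0 K aX) (u2 := u2 K aX) (qb (u1 K aX) ≫ qb (u0 K aX))
    (qb (u1 K aX) ≫ rb (u0 K aX)) (rb (u1 K aX)) := by
  intro b α β γ
  obtain ⟨w, rfl, rfl⟩ := exists_prod α β
  obtain ⟨w', h1, h2⟩ := exists_prod w γ
  refine ⟨w', ?_, ?_, h2⟩
  · rw [← Category.assoc, h1]
  · rw [← Category.assoc, h1]

variable [K.IsStableUnderBaseChange]

instance isFibGrpd_quot : IsFibGrpd (AlgSt.QuotSt K G aX).p := K744.QuotFib.isFibGrpd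

instance isFibGrpd_overS_quot : IsFibGrpd (ThetaS.overS h (AlgSt.QuotSt K G aX)).p :=
  isFibGrpd_overS h (AlgSt.QuotSt K G aX)

/-- Every object is covered by objects mapping to the atlas object. -/
theorem cov_mem (b : AlgSt.QuotObj K G aX) :
    cov (ℬ := ThetaS.overS h (AlgSt.QuotSt K G aX)) (closedInto_to (u0 K aX)) b ∈
      QuotSh.J K S ((ThetaS.overS h (AlgSt.QuotSt K G aX)).p.obj b) := by
  obtain ⟨R, hR, hRs⟩ := b.loc
  rw [GrothendieckTopology.mem_over_iff]
  refine K.toGrothendieck.superset_covering ?_ (Precoverage.generate_mem_toGrothendieck hR)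
  rw [Sieve.generate_le_iff]
  intro Z f hf
  obtain ⟨s, hs⟩ := hRs f hf
  change s ≫ b.π.left = f at hs
  rw [Sieve.overEquiv_iff]
  refine cov_of_factors (ℬ := ThetaS.overS h (AlgSt.QuotSt K G aX)) (qb b) ⟨rb b⟩ _ (Over.homMk s ?_) ?_
  · subst hs
    change s ≫ b.P.hom ≫ h = (s ≫ b.π.left) ≫ b.base.hom ≫ h
    rw [← Over.w b.π]; simp
  · apply Over.OverMorphism.ext
    exact hs

end K943.QuotCover
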