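import Groth.Agent.ThetaS.K943.SpUniq
import Groth.Agent.ThetaS.K943.QuotCover

/-!
# Functors to the category of an algebraic space
-/

set_option autoImplicit false
set_option linter.style.haveILetI false
set_option backward.isDefEq.respectTransparency false
set_option backward.isDefEq.respectTransparency.types false
universe v₂ u₂ w v u
open CategoryTheory CategoryTheory.Limits AlgebraicGeometry Opposite Topology TopologicalSpace FibCat

namespace K943.SpVal

open AlgSp K943.SpConst K943.SpUniq K943.LocPair K943.SelfLift K943.FibBase K943.CoverExt K943.QuotAtlas K943.QuotCover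

section Val

variable {S : Scheme.{u}} {M : Sp S} {ℬ : BasedCategory.{v₂, u₂} (Over S)}

theorem yon_eqToHom {A B : Over S} (e : A = B) : (yon S).map (eqToHom e) = eqToHom (congrArg (yon S).obj e) :=
  eqToHom_map _ _

/-- The value of a functor to the category of `M`, as a map to `M`. -/
noncomputable def val (Φ : ℬ ⥤ᵇ AlgSt.ofSp M) (b : ℬ.obj) : (yon S).obj (ℬ.p.obj b) ⟶ M :=
  (yon S).map (eqToHom (Φ.w_obj b).symm) ≫ toYon (Φ.obj b)

theorem val_map (Φ : ℬ ⥤ᵇ AlgSt.ofSp M) {b b' : ℬ.obj} (k : b ⟶ b') :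
    (yon S).map (ℬ.p.map k) ≫ val Φ b' = val Φ b := by
  haveI := BasedFunctor.preserves_isHomLift Φ (ℬ.p.map k) k
  obtain ⟨e1, e2, h⟩ := isHomLift_hom (Φ.map k) this
  have h2 : ℬ.p.map k ≫ eqToHom e2.symm = eqToHom e1.symm ≫ (Φ.map k).hom := by rw [h]; simp
  rw [val, val, ← Category.assoc, ← Functor.map_comp]
  have h3 : ℬ.p.map k ≫ eqToHom (Φ.w_obj b').symm = eqToHom (Φ.w_obj b).symm ≫ (Φ.map k).hom := h2
  rw [h3, Functor.map_comp, Category.assoc, toYon_map]

theorem val_comp {ℬ' : BasedCategory.{w, v} (Over S)} (Ψ : ℬ' ⥤ᵇ ℬ) (Φ : ℬ ⥤ᵇ AlgSt.ofSp M) (b : ℬ'.obj) :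
    val (BasedFunctor.comp Ψ Φ) b = (yon S).map (eqToHom (Ψ.w_obj b).symm) ≫ val Φ (Ψ.obj b) := by
  rw [val, val, ← Category.assoc, ← Functor.map_comp, eqToHom_trans]
  rfl

/-- The functor with given values. -/
noncomputable def mkFun (e : ∀ b : ℬ.obj, (yon S).obj (ℬ.p.obj b) ⟶ M)
    (he : ∀ {b b' : ℬ.obj} (k : b ⟶ b'), (yon S).map (ℬ.p.map k) ≫ e b' = e b) : ℬ ⥤ᵇ AlgSt.ofSp M where
  toFunctor :=
    { obj := fun b => ⟨ℬ.p.obj b, oy (e b)⟩
      map := fun {b b'} k => ⟨ℬ.p.map k, by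
        change M.obj.map (ℬ.p.map k).op (oy (e b')) = oy (e b)
        rw [map_oy, he]⟩
      map_id := fun b => Stk.EltObj.hom_ext (ℬ.p.map_id b)
      map_comp := fun k k' => Stk.EltObj.hom_ext (ℬ.p.map_comp k k') }
  w := rfl

theorem val_mkFun (e : ∀ b : ℬ.obj, (yon S).obj (ℬ.p.obj b) ⟶ M)
    (he : ∀ {b b' : ℬ.obj} (k : b ⟶ b'), (yon S).map (ℬ.p.map k) ≫ e b' = e b) (b : ℬ.obj) :
    val (mkFun e he) b = e b := by
  change (yon S).map (𝟙 _) ≫ yo (oy (e b)) = e b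
  rw [yo_oy, (yon S).map_id, Category.id_comp]

/-- Morphisms to an object with a given element. -/
theorem exists_hom_to {V T : Over S} (i : V ⟶ T) {a : (AlgSt.ofSp M).obj} (ha : a.base = V)
    (y : (yon S).obj T ⟶ M) (h : (yon S).map i ≫ y = (yon S).map (eqToHom ha.symm) ≫ toYon a) :
    ∃ t : a ⟶ (⟨T, oy y⟩ : (AlgSt.ofSp M).obj), (AlgSt.ofSp M).p.IsHomLift i t := by
  subst ha
  rw [eqToHom_refl, (yon S).map_id, Category.id_comp] at h
  refine ⟨⟨i, ?_⟩, ?_⟩
  · change M.obj.map i.op (oy y) = a.sec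
    rw [map_oy, h, toYon, oy_yo]
  · exact IsHomLift.map (AlgSt.ofSp M).p (⟨i, _⟩ : a ⟶ (⟨T, oy y⟩ : (AlgSt.ofSp M).obj))

end Val

section Quot

variable {S' S : Scheme.{u}} (h : S' ⟶ S) {G : Over S'} [GrpObj G] {X : Over S'} {aX : AlgGrp.Action G X}

/-- The covering of the base of a torsor by the torsor. -/
theorem pi_mem {K : Precoverage Scheme.{u}} (b : AlgSt.QuotObj K G aX) :
    Sieve.generate (Presieve.singleton ((Over.map h).map b.π)) ∈ QuotSh.J K S ((Over.map h).obj b.base) := by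
  obtain ⟨R, hR, hRs⟩ := b.loc
  rw [GrothendieckTopology.mem_over_iff]
  refine K.toGrothendieck.superset_covering ?_ (Precoverage.generate_mem_toGrothendieck hR)
  rw [Sieve.generate_le_iff]
  intro Z f hf
  obtain ⟨s, hs⟩ := hRs f hf
  change s ≫ b.π.left = f at hs
  rw [Sieve.overEquiv_iff]
  refine ⟨(Over.map h).obj b.P, Over.homMk s ?_, (Over.map h).map b.π, ⟨⟩, ?_⟩
  · subst hs
    change s ≫ b.P.hom ≫ h = (s ≫ b.π.left) ≫ b.base.hom ≫ h
    rw [← Over.w b.π]; simp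
  · apply Over.OverMorphism.ext
    exact hs

instance epi_pi (b : AlgSt.QuotObj Scheme.fppfPrecoverage G aX) : Epi ((yon S).map ((Over.map h).map b.π)) := by
  refine ⟨fun {M} x y hxy => ?_⟩
  apply (J S).uliftYonedaEquiv.injective
  refine (((isSheaf_iff_isSheaf_of_type _ _).1 M.2).isSeparated _ (pi_mem h b)).ext ?_
  rintro Y _ ⟨Z, ψ, φ, hφ, rfl⟩
  obtain ⟨⟩ := hφ
  have h2 := congrArg (fun m => (J S).uliftYonedaEquiv ((yon S).map ψ ≫ m)) hxy
  simp only [← Functor.map_comp_assoc] at h2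
  rwa [← (J S).uliftYonedaEquiv_naturality, ← (J S).uliftYonedaEquiv_naturality] at h2

end Quot

end K943.SpVal
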