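import Groth.Agent.ThetaS.K943.LiftGlue

/-!
# Main abstract theorem: lifting squares against `subI ℬ Q` reduce to local dotted arrows at `u0`, `u1`, `u2`
-/

set_option backward.isDefEq.respectTransparency false
set_option backward.isDefEq.respectTransparency.types false
set_option autoImplicit false
set_option linter.style.haveILetI false

universe v₄ u₄ v₃ u₃ v₂ u₂ v u

open CategoryTheory Opposite FibCat K943.FibBase K943.CoverExt K943.LocLift K943.LocLift.LL K943.LocGlue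
  K943.LiftGlue

namespace K943.LiftMain

variable {C : Type u} [Category.{v} C]
variable {ℬ : BasedCategory.{v₂, u₂} C} {Q : ℬ.obj → Prop}
variable {𝒳 : BasedCategory.{v₃, u₃} C} {𝒴 : BasedCategory.{v₄, u₄} C} {f : 𝒳 ⥤ᵇ 𝒴}
variable [hℬ : IsFibGrpd ℬ.p] [h𝒳 : IsFibGrpd 𝒳.p] [h𝒴 : IsFibGrpd 𝒴.p]
variable {sq : LiftSq.Sq (subI ℬ Q) f}

/-- Uniqueness of dotted arrows. -/
theorem uniqLift (hQ : ClosedInto Q) {u0 u1 : ℬ.obj} {π1 π2 : u1 ⟶ u0} (hsq : IsSq π1 π2)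
    (hX : ∀ b : ℬ.obj, Stk.IsPrestackFor (cov (closedInto_to u0) b) 𝒳)
    (hY : ∀ b : ℬ.obj, Stk.IsPrestackFor (cov (closedInto_to u0) b) 𝒴)
    (h10 : Uniq1 sq u0) (h20 : Uniq2 sq u0) (h21 : Uniq2 sq u1) : sq.UniqLift := by
  intro d d'
  have hP : ClosedInto (To u0) := closedInto_to u0
  haveI hA := isFibGrpd_sub hQ
  have hP' : ClosedInto (resP Q (To u0)) := closedInto_resP hP
  have hX' : ∀ a : (sub ℬ Q).obj, Stk.IsPrestackFor (cov (ℬ := sub ℬ Q) hP' a) 𝒳 := fun a => by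
    have := hX a.obj
    rwa [← cov_resP hQ hP a] at this
  -- the value at u0
  obtain ⟨h0, H0⟩ := h10 (ofLift d u0) (ofLift d' u0)
  have hex : ∀ {b : ℬ.obj} (α : b ⟶ u0), ∃ χ : d.fn.obj b ⟶ d'.fn.obj b,
      IsH (ofLift d b) (ofLift d' b) (𝟙 b) χ ∧ χ ≫ d'.fn.map α = d.fn.map α ≫ h0 := by
    intro b α
    have h1 := (isH_ofLift d α).comp H0
    have h2 : IsH (ofLift d b) (ofLift d' u0) (𝟙 b ≫ α) (d.fn.map α ≫ h0) := by
      rw [Category.id_comp]; rwa [Category.comp_id] at h1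
    exact IsH.exists_fac (isH_ofLift d' α) h2
  -- independence of `α`
  have hind : ∀ {b : ℬ.obj} (α β : b ⟶ u0) (χ : d.fn.obj b ⟶ d'.fn.obj b),
      IsH (ofLift d b) (ofLift d' b) (𝟙 b) χ → χ ≫ d'.fn.map α = d.fn.map α ≫ h0 →
      χ ≫ d'.fn.map β = d.fn.map β ≫ h0 := by
    intro b α β χ hχ eχ
    obtain ⟨w, rfl, rfl⟩ := hsq.ex α β
    obtain ⟨χ1, H1, e1⟩ := hex π1
    obtain ⟨χ2, H2, e2⟩ := hex π2
    obtain rfl : χ1 = χ2 := h21 _ _ _ _ H1 H2
    obtain ⟨ψ, Hψ, eψ⟩ : ∃ ψ : d.fn.obj b ⟶ d'.fn.obj b,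
        IsH (ofLift d b) (ofLift d' b) (𝟙 b) ψ ∧ ψ ≫ d'.fn.map w = d.fn.map w ≫ χ1 := by
      have h1 := (isH_ofLift d w).comp H1
      have h2 : IsH (ofLift d b) (ofLift d' u1) (𝟙 b ≫ w) (d.fn.map w ≫ χ1) := by
        rw [Category.id_comp]; rwa [Category.comp_id] at h1
      exact IsH.exists_fac (isH_ofLift d' w) h2
    have m1 : d'.fn.map (w ≫ π1) = d'.fn.map w ≫ d'.fn.map π1 := d'.fn.toFunctor.map_comp _ _
    have m2 : d'.fn.map (w ≫ π2) = d'.fn.map w ≫ d'.fn.map π2 := d'.fn.toFunctor.map_comp _ _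
    have m3 : d.fn.map (w ≫ π1) = d.fn.map w ≫ d.fn.map π1 := d.fn.toFunctor.map_comp _ _
    have m4 : d.fn.map (w ≫ π2) = d.fn.map w ≫ d.fn.map π2 := d.fn.toFunctor.map_comp _ _
    obtain rfl : χ = ψ := by
      refine (isH_ofLift d' (w ≫ π1)).ext hχ Hψ ?_
      rw [eχ, m1, m3, ← Category.assoc, eψ, Category.assoc, Category.assoc, e1]
    rw [m2, m4, ← Category.assoc, eψ, Category.assoc, Category.assoc, e2]
  choose χ hχ1 hχ2 using fun (b : (sub ℬ (To u0)).obj) => hex b.property.some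
  have hχ3 : ∀ (b : (sub ℬ (To u0)).obj) (β : b.obj ⟶ u0), χ b ≫ d'.fn.map β = d.fn.map β ≫ h0 :=
    fun b β => hind b.property.some β (χ b) (hχ1 b) (hχ2 b)
  have hn : ∀ {b c : (sub ℬ (To u0)).obj} (m : b ⟶ c), d.fn.map m.hom ≫ χ c = χ b ≫ d'.fn.map m.hom := by
    intro b c m
    have m1 : d'.fn.map (m.hom ≫ c.property.some) = d'.fn.map m.hom ≫ d'.fn.map c.property.some :=
      d'.fn.toFunctor.map_comp _ _
    have m3 : d.fn.map (m.hom ≫ c.property.some) = d.fn.map m.hom ≫ d.fn.map c.property.some :=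
      d.fn.toFunctor.map_comp _ _
    have H1 := (isH_ofLift d m.hom).comp (hχ1 c)
    have H2 := (hχ1 b).comp (isH_ofLift d' m.hom)
    rw [Category.comp_id] at H1
    rw [Category.id_comp] at H2
    refine (isH_ofLift d' c.property.some).ext H1 H2 ?_
    rw [Category.assoc, hχ2 c, Category.assoc, ← m1, hχ3 b, m3, Category.assoc]
  let α : BasedFunctor.comp (subI ℬ (To u0)) d.fn ⟶ BasedFunctor.comp (subI ℬ (To u0)) d'.fn :=
    { toNatTrans := { app := fun b => χ b, naturality := fun b c m => hn m }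
      isHomLift' := fun b => by
        have := (hχ1 b).lift
        rwa [ℬ.p.map_id] at this }
  obtain ⟨θ, hθ⟩ := exists_ext_nat hP hX α
  have hθb : ∀ b : (sub ℬ (To u0)).obj, θ.toNatTrans.app b.obj = χ b := fun b =>
    congrArg (fun t : BasedFunctor.comp (subI ℬ (To u0)) d.fn ⟶ BasedFunctor.comp (subI ℬ (To u0)) d'.fn =>
      t.toNatTrans.app b) hθ
  have e2 : ∀ b : ℬ.obj, sq.bot.map (𝟙 b) = 𝟙 _ := fun b => sq.bot.toFunctor.map_id _
  refine ⟨⟨⟨⟨θ, ?_, ?_⟩⟩, ?_⟩⟩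
  · apply nat_ext hP' hX'
    apply BasedNatTrans.homCategory.ext
    ext a
    let b : (sub ℬ (To u0)).obj := ⟨a.obj.obj, a.property⟩
    have h1 := (hχ1 b).w_t a.obj (𝟙 _)
    have m1 : d.fn.map (𝟙 a.obj.obj) = 𝟙 _ := d.fn.toFunctor.map_id _
    have m2 : d'.fn.map (𝟙 a.obj.obj ≫ 𝟙 a.obj.obj) = 𝟙 _ := by
      rw [Category.comp_id]; exact d'.fn.toFunctor.map_id _
    have h2 : d.isoTop.inv.toNatTrans.app a.obj ≫ χ b = d'.isoTop.inv.toNatTrans.app a.obj := by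
      have j1 : d.isoTop.inv.toNatTrans.app a.obj ≫ d.fn.map (𝟙 a.obj.obj) =
        d.isoTop.inv.toNatTrans.app a.obj := by rw [m1]; exact Category.comp_id _
      have j2 : d'.isoTop.inv.toNatTrans.app a.obj ≫ d'.fn.map (𝟙 a.obj.obj ≫ 𝟙 a.obj.obj) =
        d'.isoTop.inv.toNatTrans.app a.obj := by rw [m2]; exact Category.comp_id _
      exact (congrArg (fun t => t ≫ χ b) j1.symm).trans (h1.trans j2)
    have h3 : d.isoTop.hom.toNatTrans.app a.obj ≫ d.isoTop.inv.toNatTrans.app a.obj = 𝟙 _ :=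
      congrArg (fun t : BasedFunctor.comp (subI ℬ Q) d.fn ⟶ BasedFunctor.comp (subI ℬ Q) d.fn =>
        t.toNatTrans.app a.obj) d.isoTop.hom_inv_id
    have h4 : d'.isoTop.inv.toNatTrans.app a.obj ≫ d'.isoTop.hom.toNatTrans.app a.obj = 𝟙 _ :=
      congrArg (fun t : sq.top ⟶ sq.top => t.toNatTrans.app a.obj) d'.isoTop.inv_hom_id
    change θ.toNatTrans.app a.obj.obj ≫ d'.isoTop.hom.toNatTrans.app a.obj = d.isoTop.hom.toNatTrans.app a.obj
    rw [hθb b]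
    calc χ b ≫ d'.isoTop.hom.toNatTrans.app a.obj
        = (d.isoTop.hom.toNatTrans.app a.obj ≫ d.isoTop.inv.toNatTrans.app a.obj) ≫ χ b ≫
            d'.isoTop.hom.toNatTrans.app a.obj := by rw [h3]; exact (Category.id_comp _).symm
      _ = d.isoTop.hom.toNatTrans.app a.obj ≫ (d.isoTop.inv.toNatTrans.app a.obj ≫ χ b) ≫
            d'.isoTop.hom.toNatTrans.app a.obj := by simp only [Category.assoc]
      _ = d.isoTop.hom.toNatTrans.app a.obj := by rw [h2, h4]; exact Category.comp_id _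
  · apply nat_ext hP hY
    apply BasedNatTrans.homCategory.ext
    ext b
    have h1 := (hχ1 b).w_bot
    rw [e2] at h1
    change d.isoBot.hom.toNatTrans.app b.obj ≫ f.map (θ.toNatTrans.app b.obj) = d'.isoBot.hom.toNatTrans.app b.obj
    rw [hθb b]
    exact h1.trans (Category.id_comp _)
  · intro θ'
    apply LiftSq.Sq.Lift.hom_ext
    apply nat_ext hP hX
    refine Eq.trans ?_ hθ.symm
    apply BasedNatTrans.homCategory.ext
    ext b
    change θ'.hom.toNatTrans.app b.obj = χ b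
    have h0' : θ'.hom.toNatTrans.app u0 = h0 := h20 _ _ _ _ (isH_hom θ' u0) H0
    have h1 : d.fn.map b.property.some ≫ θ'.hom.toNatTrans.app u0 =
      θ'.hom.toNatTrans.app b.obj ≫ d'.fn.map b.property.some := θ'.hom.toNatTrans.naturality _
    refine (isH_ofLift d' b.property.some).ext (isH_hom θ' b.obj) (hχ1 b) ?_
    rw [← h1, h0', hχ2 b]

/-- Existence of a dotted arrow. -/
theorem hasLift (hQ : ClosedInto Q) {u0 u1 u2 : ℬ.obj} {π1 π2 : u1 ⟶ u0} {ρ1 ρ2 ρ3 : u2 ⟶ u0}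
    (hsq : IsSq π1 π2) (htri : IsTri ρ1 ρ2 ρ3)
    (hX : ∀ b : ℬ.obj, Stk.IsStackFor (cov (closedInto_to u0) b) 𝒳)
    (hY : ∀ b : ℬ.obj, Stk.IsPrestackFor (cov (closedInto_to u0) b) 𝒴)
    (ℓ0 : LL sq u0) (h11 : Uniq1 sq u1) (h22 : Uniq2 sq u2) : sq.HasLift := by
  obtain ⟨ℓ, F, h1, h2, h3⟩ := exists_family hsq htri ℓ0 h11 h22
  exact hasLift_of_family hQ sq (closedInto_to u0) hX hY ℓ @F @h1 h2 @h3

end K943.LiftMain
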