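import Groth.Prelude.Def_AlgSt
import Groth.Prelude.Def_LiftSq

/-!
# Categories fibred in groupoids: pullbacks, factorisation, usable forms of the prestack and stack conditions

`hom_glue`: morphisms glue along a covering sieve; `obj_glue`: objects glue along a covering sieve.
-/

set_option backward.isDefEq.respectTransparency false
set_option backward.isDefEq.respectTransparency.types false
set_option autoImplicit false
set_option linter.style.haveILetI false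

universe v₄ u₄ v₃ u₃ v₂ u₂ v u

open CategoryTheory Opposite FibCat

namespace K943.FibBase

variable {C : Type u} [Category.{v} C]

section Cart

variable {𝒳 : Type u₂} [Category.{v₂} 𝒳] (p : 𝒳 ⥤ C) [hp : IsFibGrpd p]

/-- Unique factorisation through a morphism of a category fibred in groupoids. -/
theorem existsUnique_fac {z y x : 𝒳} (φ : y ⟶ x) (ψ : z ⟶ x) (g : p.obj z ⟶ p.obj y)
    (h : g ≫ p.map φ = p.map ψ) : ∃! χ : z ⟶ y, p.map χ = g ∧ χ ≫ φ = ψ := by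
  haveI := hp.isStronglyCartesian φ
  obtain ⟨χ, ⟨h1, h2⟩, h3⟩ := Functor.IsStronglyCartesian.universal_property p (p.map φ) φ g
    (p.map ψ) h.symm ψ
  refine ⟨χ, ⟨(IsHomLift.eq_of_isHomLift p g χ).symm, h2⟩, ?_⟩
  rintro χ' ⟨h1', h2'⟩
  exact h3 χ' ⟨by rw [← h1']; infer_instance, h2'⟩

/-- The factorisation. -/
noncomputable def fac {z y x : 𝒳} (φ : y ⟶ x) (ψ : z ⟶ x) (g : p.obj z ⟶ p.obj y)
    (h : g ≫ p.map φ = p.map ψ) : z ⟶ y := (existsUnique_fac p φ ψ g h).choose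

theorem map_fac {z y x : 𝒳} (φ : y ⟶ x) (ψ : z ⟶ x) (g : p.obj z ⟶ p.obj y)
    (h : g ≫ p.map φ = p.map ψ) : p.map (fac p φ ψ g h) = g :=
  (existsUnique_fac p φ ψ g h).choose_spec.1.1

@[reassoc]
theorem fac_comp {z y x : 𝒳} (φ : y ⟶ x) (ψ : z ⟶ x) (g : p.obj z ⟶ p.obj y)
    (h : g ≫ p.map φ = p.map ψ) : fac p φ ψ g h ≫ φ = ψ :=
  (existsUnique_fac p φ ψ g h).choose_spec.1.2

/-- Two morphisms with the same image in the base which agree after composition with a morphism are equal. -/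
theorem cart_ext {z y x : 𝒳} (φ : y ⟶ x) {χ χ' : z ⟶ y} (h : p.map χ = p.map χ')
    (h' : χ ≫ φ = χ' ≫ φ) : χ = χ' := by
  have h1 : p.map χ' ≫ p.map φ = p.map (χ' ≫ φ) := (p.map_comp _ _).symm
  exact (existsUnique_fac p φ (χ' ≫ φ) (p.map χ') h1).unique ⟨h, h'⟩ ⟨rfl, rfl⟩

/-- A morphism over an isomorphism is an isomorphism. -/
theorem isIso_of_map {y x : 𝒳} (φ : y ⟶ x) [IsIso (p.map φ)] : IsIso φ := by
  haveI := hp.isStronglyCartesian φ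
  exact Functor.IsStronglyCartesian.isIso_of_base_isIso p (p.map φ) φ

theorem isIso_of_lift_id {y x : 𝒳} (φ : y ⟶ x) {T : C} [p.IsHomLift (𝟙 T) φ] : IsIso φ := by
  haveI : IsIso (p.map φ) := by
    rw [IsHomLift.fac' p (𝟙 T) φ]; infer_instance
  exact isIso_of_map p φ

/-- A lift of a morphism with prescribed target. -/
theorem exists_lift_of_eq {x : 𝒳} {T V : C} (f : V ⟶ T) (hx : p.obj x = T) :
    ∃ (y : 𝒳) (φ : y ⟶ x), p.IsHomLift f φ := by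
  subst hx; exact hp.exists_lift f

/-- The unique factorisation in terms of `IsHomLift`. -/
theorem existsUnique_fac_lift {z y x : 𝒳} {W V T : C} (g : W ⟶ V) (f : V ⟶ T) (φ : y ⟶ x) (ψ : z ⟶ x)
    [hφ : p.IsHomLift f φ] [hψ : p.IsHomLift (g ≫ f) ψ] :
    ∃! χ : z ⟶ y, p.IsHomLift g χ ∧ χ ≫ φ = ψ := by
  subst_hom_lift p f φ
  haveI := hp.isStronglyCartesian φ
  exact Functor.IsStronglyCartesian.universal_property p (p.map φ) φ g (g ≫ p.map φ) rfl ψ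

/-- Extensionality in terms of `IsHomLift`. -/
theorem cart_ext_lift {z y x : 𝒳} {W V : C} (g : W ⟶ V) (φ : y ⟶ x) {χ χ' : z ⟶ y}
    [p.IsHomLift g χ] [p.IsHomLift g χ'] (h' : χ ≫ φ = χ' ≫ φ) : χ = χ' := by
  refine cart_ext p φ ?_ h'
  rw [IsHomLift.fac' p g χ, IsHomLift.fac' p g χ']

end Cart

section Yo

variable {𝒳 : BasedCategory.{v₂, u₂} C} [hp : IsFibGrpd 𝒳.p]

/-- A chosen pullback of `x` along `f`. -/
noncomputable def pb (x : 𝒳.obj) {V : C} (f : V ⟶ 𝒳.p.obj x) : 𝒳.obj := (hp.exists_lift f).choose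

/-- The chosen pullback's morphism to `x`. -/
noncomputable def pbMap (x : 𝒳.obj) {V : C} (f : V ⟶ 𝒳.p.obj x) : pb x f ⟶ x :=
  (hp.exists_lift f).choose_spec.choose

instance pbMap_lift (x : 𝒳.obj) {V : C} (f : V ⟶ 𝒳.p.obj x) : 𝒳.p.IsHomLift f (pbMap x f) :=
  (hp.exists_lift f).choose_spec.choose_spec

theorem p_pb (x : 𝒳.obj) {V : C} (f : V ⟶ 𝒳.p.obj x) : 𝒳.p.obj (pb x f) = V :=
  IsHomLift.domain_eq 𝒳.p f (pbMap x f)

/-- The functor `g ↦ (g ≫ f)^* x` from the slice over `T` along `f : T ⟶ p x`. -/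
noncomputable def yoAlong (x : 𝒳.obj) {T : C} (f : T ⟶ 𝒳.p.obj x) : overCat T ⥤ᵇ 𝒳 where
  toFunctor :=
    { obj := fun g => pb x (g.hom ≫ f)
      map := fun {g g'} h =>
        haveI : 𝒳.p.IsHomLift (h.left ≫ g'.hom ≫ f) (pbMap x (g.hom ≫ f)) := by
          rw [Over.w_assoc]; infer_instance
        (existsUnique_fac_lift 𝒳.p h.left (g'.hom ≫ f) (pbMap x (g'.hom ≫ f)) (pbMap x (g.hom ≫ f))).choose
      map_id := fun g => by
        haveI : 𝒳.p.IsHomLift ((𝟙 g : g ⟶ g).left ≫ g.hom ≫ f) (pbMap x (g.hom ≫ f)) := by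
          rw [Over.w_assoc]; infer_instance
        have h := (existsUnique_fac_lift 𝒳.p (𝟙 g : g ⟶ g).left (g.hom ≫ f) (pbMap x (g.hom ≫ f))
          (pbMap x (g.hom ≫ f)))
        exact h.unique h.choose_spec.1 ⟨IsHomLift.id (p_pb x _), Category.id_comp _⟩
      map_comp := fun {g g' g''} h h' => by
        haveI i1 : 𝒳.p.IsHomLift ((h ≫ h').left ≫ g''.hom ≫ f) (pbMap x (g.hom ≫ f)) := by
          rw [Over.w_assoc]; infer_instance
        haveI i2 : 𝒳.p.IsHomLift (h.left ≫ g'.hom ≫ f) (pbMap x (g.hom ≫ f)) := by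
          rw [Over.w_assoc]; infer_instance
        haveI i3 : 𝒳.p.IsHomLift (h'.left ≫ g''.hom ≫ f) (pbMap x (g'.hom ≫ f)) := by
          rw [Over.w_assoc]; infer_instance
        have e1 := (existsUnique_fac_lift 𝒳.p (h ≫ h').left (g''.hom ≫ f) (pbMap x (g''.hom ≫ f))
          (pbMap x (g.hom ≫ f)))
        have e2 := (existsUnique_fac_lift 𝒳.p h.left (g'.hom ≫ f) (pbMap x (g'.hom ≫ f))
          (pbMap x (g.hom ≫ f)))
        have e3 := (existsUnique_fac_lift 𝒳.p h'.left (g''.hom ≫ f) (pbMap x (g''.hom ≫ f))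
          (pbMap x (g'.hom ≫ f)))
        refine e1.unique e1.choose_spec.1 ⟨?_, ?_⟩
        · haveI := e2.choose_spec.1.1
          haveI := e3.choose_spec.1.1
          rw [Over.comp_left]
          exact IsHomLift.comp 𝒳.p h.left h'.left e2.choose e3.choose
        · rw [Category.assoc, e3.choose_spec.1.2, e2.choose_spec.1.2] }
  w := CategoryTheory.Functor.ext (fun g => p_pb x _) (fun g g' h => by
    haveI : 𝒳.p.IsHomLift (h.left ≫ g'.hom ≫ f) (pbMap x (g.hom ≫ f)) := by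
      rw [Over.w_assoc]; infer_instance
    haveI := (existsUnique_fac_lift 𝒳.p h.left (g'.hom ≫ f) (pbMap x (g'.hom ≫ f))
      (pbMap x (g.hom ≫ f))).choose_spec.1.1
    exact IsHomLift.fac' 𝒳.p h.left _)

theorem yoAlong_obj (x : 𝒳.obj) {T : C} (f : T ⟶ 𝒳.p.obj x) (g : Over T) :
    (yoAlong x f).obj g = pb x (g.hom ≫ f) := rfl

/-- The morphism `(g ≫ f)^* x ⟶ x`. -/
noncomputable def yoMap (x : 𝒳.obj) {T : C} (f : T ⟶ 𝒳.p.obj x) (g : Over T) :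
    (yoAlong x f).obj g ⟶ x := pbMap x (g.hom ≫ f)

instance yoMap_lift (x : 𝒳.obj) {T : C} (f : T ⟶ 𝒳.p.obj x) (g : Over T) :
    𝒳.p.IsHomLift (g.hom ≫ f) (yoMap x f g) := pbMap_lift x _

@[reassoc]
theorem yoAlong_map_comp (x : 𝒳.obj) {T : C} (f : T ⟶ 𝒳.p.obj x) {g g' : Over T} (h : g ⟶ g') :
    (yoAlong x f).map h ≫ yoMap x f g' = yoMap x f g := by
  haveI : 𝒳.p.IsHomLift (h.left ≫ g'.hom ≫ f) (pbMap x (g.hom ≫ f)) := by
    rw [Over.w_assoc]; infer_instance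
  exact (existsUnique_fac_lift 𝒳.p h.left (g'.hom ≫ f) (pbMap x (g'.hom ≫ f))
    (pbMap x (g.hom ≫ f))).choose_spec.1.2

instance yoAlong_map_lift (x : 𝒳.obj) {T : C} (f : T ⟶ 𝒳.p.obj x) {g g' : Over T} (h : g ⟶ g') :
    𝒳.p.IsHomLift h.left ((yoAlong x f).map h) := by
  haveI : (overCat T).p.IsHomLift h.left h := IsHomLift.map (overCat T).p h
  exact BasedFunctor.preserves_isHomLift (yoAlong x f) h.left h

theorem p_yoAlong (x : 𝒳.obj) {T : C} (f : T ⟶ 𝒳.p.obj x) (g : Over T) :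
    𝒳.p.obj ((yoAlong x f).obj g) = g.left := p_pb x _

end Yo

section Glue

variable {𝒳 : BasedCategory.{v₂, u₂} C} [hp : IsFibGrpd 𝒳.p]

/-- The component `w ⟶ g^* f^* y` determined by a morphism `w ⟶ y` over `g ≫ f`. -/
noncomputable def toYo {w y : 𝒳.obj} {T : C} (f : T ⟶ 𝒳.p.obj y) (g : Over T) (ψ : w ⟶ y)
    [hψ : 𝒳.p.IsHomLift (g.hom ≫ f) ψ] : w ⟶ (yoAlong y f).obj g :=
  haveI : 𝒳.p.IsHomLift (𝟙 g.left ≫ g.hom ≫ f) ψ := by rw [Category.id_comp]; exact hψ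
  (existsUnique_fac_lift 𝒳.p (𝟙 g.left) (g.hom ≫ f) (yoMap y f g) ψ).choose

theorem toYo_spec {w y : 𝒳.obj} {T : C} (f : T ⟶ 𝒳.p.obj y) (g : Over T) (ψ : w ⟶ y)
    [hψ : 𝒳.p.IsHomLift (g.hom ≫ f) ψ] :
    𝒳.p.IsHomLift (𝟙 g.left) (toYo f g ψ) ∧ toYo f g ψ ≫ yoMap y f g = ψ :=
  haveI : 𝒳.p.IsHomLift (𝟙 g.left ≫ g.hom ≫ f) ψ := by rw [Category.id_comp]; exact hψ
  (existsUnique_fac_lift 𝒳.p (𝟙 g.left) (g.hom ≫ f) (yoMap y f g) ψ).choose_spec.1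

instance toYo_lift {w y : 𝒳.obj} {T : C} (f : T ⟶ 𝒳.p.obj y) (g : Over T) (ψ : w ⟶ y)
    [hψ : 𝒳.p.IsHomLift (g.hom ≫ f) ψ] : 𝒳.p.IsHomLift (𝟙 g.left) (toYo f g ψ) :=
  (toYo_spec f g ψ).1

@[reassoc]
theorem toYo_comp {w y : 𝒳.obj} {T : C} (f : T ⟶ 𝒳.p.obj y) (g : Over T) (ψ : w ⟶ y)
    [hψ : 𝒳.p.IsHomLift (g.hom ≫ f) ψ] : toYo f g ψ ≫ yoMap y f g = ψ :=
  (toYo_spec f g ψ).2

theorem toYo_ext {w y : 𝒳.obj} {T : C} (f : T ⟶ 𝒳.p.obj y) (g : Over T) {W : C} (h : W ⟶ g.left)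
    {χ χ' : w ⟶ (yoAlong y f).obj g} [𝒳.p.IsHomLift h χ] [𝒳.p.IsHomLift h χ']
    (e : χ ≫ yoMap y f g = χ' ≫ yoMap y f g) : χ = χ' :=
  cart_ext_lift 𝒳.p h (yoMap y f g) e

instance lift_id_left {w y : 𝒳.obj} {T : C} (g : Over T) (ψ : w ⟶ y) {V : C} (f : T ⟶ V)
    [hψ : 𝒳.p.IsHomLift (g.hom ≫ f) ψ] : 𝒳.p.IsHomLift ((g.hom ≫ 𝟙 T) ≫ f) ψ := by
  rw [Category.comp_id]; exact hψ

omit hp in
theorem mem_of_lift {x z : 𝒳.obj} {R : Sieve (𝒳.p.obj x)} {V : C} (g : V ⟶ 𝒳.p.obj x) (hg : R g)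
    (k : z ⟶ x) [𝒳.p.IsHomLift g k] : R (𝒳.p.map k) := by
  rw [IsHomLift.fac' 𝒳.p g k, ← Category.assoc]
  simpa using R.downward_closed hg (eqToHom (IsHomLift.domain_eq 𝒳.p g k))

/-- Morphisms glue: a compatible family of morphisms on the members of a sieve glues uniquely. -/
theorem hom_glue {x y : 𝒳.obj} (f : 𝒳.p.obj x ⟶ 𝒳.p.obj y) {R : Sieve (𝒳.p.obj x)}
    (hR : Stk.IsPrestackFor R 𝒳)
    (φ : ∀ ⦃z : 𝒳.obj⦄ (k : z ⟶ x), R (𝒳.p.map k) → (z ⟶ y))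
    (hφ : ∀ ⦃z : 𝒳.obj⦄ (k : z ⟶ x) (hk : R (𝒳.p.map k)), 𝒳.p.map (φ k hk) = 𝒳.p.map k ≫ f)
    (hn : ∀ ⦃z z' : 𝒳.obj⦄ (h : z' ⟶ z) (k : z ⟶ x) (hk : R (𝒳.p.map k))
      (hk' : R (𝒳.p.map (h ≫ k))), h ≫ φ k hk = φ (h ≫ k) hk') :
    ∃ χ : x ⟶ y, 𝒳.p.map χ = f ∧ ∀ ⦃z : 𝒳.obj⦄ (k : z ⟶ x) (hk : R (𝒳.p.map k)), k ≫ χ = φ k hk := by
  have hmem : ∀ a : (Stk.sieveCat R).obj, R (𝒳.p.map (yoMap x (𝟙 _) a.obj)) := fun a => by
    haveI : 𝒳.p.IsHomLift a.obj.hom (yoMap x (𝟙 _) a.obj) := by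
      have := yoMap_lift x (𝟙 _) a.obj
      rwa [Category.comp_id] at this
    exact mem_of_lift a.obj.hom a.property (yoMap x (𝟙 _) a.obj)
  have hlift : ∀ a : (Stk.sieveCat R).obj,
      𝒳.p.IsHomLift (a.obj.hom ≫ f) (φ (yoMap x (𝟙 _) a.obj) (hmem a)) := fun a => by
    have h1 := hφ (yoMap x (𝟙 _) a.obj) (hmem a)
    have h2 := IsHomLift.fac' 𝒳.p (a.obj.hom ≫ 𝟙 _) (yoMap x (𝟙 _) a.obj)
    refine IsHomLift.of_fac' 𝒳.p _ _ (p_yoAlong x _ _) rfl ?_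
    rw [h1, h2]; simp
  let α : BasedFunctor.comp (Stk.sieveIncl R) (yoAlong x (𝟙 _)) ⟶
      BasedFunctor.comp (Stk.sieveIncl R) (yoAlong y f) :=
    { toNatTrans :=
        { app := fun a => haveI := hlift a; toYo f a.obj (φ (yoMap x (𝟙 _) a.obj) (hmem a))
          naturality := fun a b h => by
            haveI := hlift a
            haveI := hlift b
            change (yoAlong x (𝟙 _)).map h.hom ≫ toYo f b.obj (φ (yoMap x (𝟙 _) b.obj) (hmem b)) =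
              toYo f a.obj (φ (yoMap x (𝟙 _) a.obj) (hmem a)) ≫ (yoAlong y f).map h.hom
            haveI i1 : 𝒳.p.IsHomLift (h.hom.left) ((yoAlong x (𝟙 _)).map h.hom ≫
                toYo f b.obj (φ (yoMap x (𝟙 _) b.obj) (hmem b))) := inferInstance
            haveI i2 : 𝒳.p.IsHomLift (h.hom.left) (toYo f a.obj (φ (yoMap x (𝟙 _) a.obj) (hmem a)) ≫
                (yoAlong y f).map h.hom) := inferInstance
            refine toYo_ext f b.obj h.hom.left ?_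
            rw [Category.assoc, toYo_comp, Category.assoc, yoAlong_map_comp, toYo_comp, hn]
            · congr 1
              exact yoAlong_map_comp x (𝟙 _) h.hom
            · rw [yoAlong_map_comp]; exact hmem a }
      isHomLift' := fun a => by
        haveI := hlift a
        exact toYo_lift f a.obj (φ (yoMap x (𝟙 _) a.obj) (hmem a)) }
  haveI := hR.1
  obtain ⟨β, hβ⟩ := (Stk.resSieve R 𝒳).map_surjective (X := yoAlong x (𝟙 _)) (Y := yoAlong y f) α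
  have hβ' : ∀ a : (Stk.sieveCat R).obj, β.toNatTrans.app a.obj =
      (haveI := hlift a; toYo f a.obj (φ (yoMap x (𝟙 _) a.obj) (hmem a))) := fun a =>
    congrArg (fun t : BasedFunctor.comp (Stk.sieveIncl R) (yoAlong x (𝟙 _)) ⟶
      BasedFunctor.comp (Stk.sieveIncl R) (yoAlong y f) => t.toNatTrans.app a) hβ
  let o : Over (𝒳.p.obj x) := Over.mk (𝟙 _)
  haveI hiso : IsIso (yoMap x (𝟙 _) o) := by
    haveI : 𝒳.p.IsHomLift (𝟙 (𝒳.p.obj x)) (yoMap x (𝟙 _) o) := by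
      have := yoMap_lift x (𝟙 _) o
      rw [Category.comp_id] at this
      exact this
    exact isIso_of_lift_id 𝒳.p (T := 𝒳.p.obj x) (yoMap x (𝟙 _) o)
  refine ⟨inv (yoMap x (𝟙 _) o) ≫ β.toNatTrans.app o ≫ yoMap y f o, ?_, ?_⟩
  · have h1 : 𝒳.p.map (yoMap x (𝟙 _) o) = eqToHom (p_yoAlong x _ o) := by
      rw [IsHomLift.fac' 𝒳.p (o.hom ≫ 𝟙 _) (yoMap x (𝟙 _) o)]
      change _ ≫ (𝟙 _ ≫ 𝟙 _) ≫ _ = _
      simp [o]
    have h2 : 𝒳.p.map (β.toNatTrans.app o) =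
        eqToHom (p_yoAlong x _ o) ≫ eqToHom (p_yoAlong y _ o).symm := by
      haveI : 𝒳.p.IsHomLift (𝟙 o.left) (β.toNatTrans.app o) := β.isHomLift' o
      rw [IsHomLift.fac' 𝒳.p (𝟙 o.left) (β.toNatTrans.app o), Category.id_comp]
    have h3 : 𝒳.p.map (yoMap y f o) = eqToHom (p_yoAlong y _ o) ≫ f := by
      rw [IsHomLift.fac' 𝒳.p (o.hom ≫ f) (yoMap y f o)]
      change _ ≫ (𝟙 _ ≫ f) ≫ _ = _
      simp
    rw [Functor.map_comp, Functor.map_comp, Functor.map_inv, IsIso.inv_comp_eq, h1, h2, h3]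
    simp
  · intro z k hk
    let g : Over (𝒳.p.obj x) := Over.mk (𝒳.p.map k)
    let a : (Stk.sieveCat R).obj := ⟨g, hk⟩
    haveI : 𝒳.p.IsHomLift (g.hom ≫ 𝟙 _) k := by
      rw [Category.comp_id]; exact IsHomLift.map 𝒳.p k
    have e1 : toYo (𝟙 _) g k ≫ yoMap x (𝟙 _) g = k := toYo_comp (𝟙 _) g k
    let t : g ⟶ o := Over.homMk (𝒳.p.map k)
    have e2 : (yoAlong x (𝟙 _)).map t ≫ yoMap x (𝟙 _) o = yoMap x (𝟙 _) g := yoAlong_map_comp x (𝟙 _) t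
    haveI := hlift a
    have e3 : β.toNatTrans.app g ≫ yoMap y f g = φ (yoMap x (𝟙 _) g) (hmem a) := by
      rw [show β.toNatTrans.app g = β.toNatTrans.app a.obj from rfl, hβ' a]
      exact toYo_comp f g _
    have e4 : (yoAlong x (𝟙 _)).map t ≫ β.toNatTrans.app o =
        β.toNatTrans.app g ≫ (yoAlong y f).map t := β.toNatTrans.naturality t
    have e5 : k ≫ inv (yoMap x (𝟙 _) o) = toYo (𝟙 _) g k ≫ (yoAlong x (𝟙 _)).map t := by
      rw [IsIso.comp_inv_eq, Category.assoc, e2, e1]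
    rw [← Category.assoc, e5, Category.assoc, ← Category.assoc ((yoAlong x (𝟙 _)).map t), e4,
      Category.assoc, yoAlong_map_comp, e3, hn]
    · congr 1
    · rw [e1]; exact hk

/-- Morphisms over the same morphism of the base which agree on the members of a sieve are equal. -/
theorem hom_ext_of_sieve {x y : 𝒳.obj} {R : Sieve (𝒳.p.obj x)} (hR : Stk.IsPrestackFor R 𝒳)
    {χ χ' : x ⟶ y} (hχ : 𝒳.p.map χ = 𝒳.p.map χ')
    (h : ∀ ⦃z : 𝒳.obj⦄ (k : z ⟶ x), R (𝒳.p.map k) → k ≫ χ = k ≫ χ') : χ = χ' := by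
  have key : ∀ (χ : x ⟶ y) (f : 𝒳.p.obj x ⟶ 𝒳.p.obj y), 𝒳.p.map χ = f → ∀ g : Over (𝒳.p.obj x),
      𝒳.p.IsHomLift (g.hom ≫ f) (yoMap x (𝟙 _) g ≫ χ) := by
    rintro χ f rfl g
    haveI : 𝒳.p.IsHomLift ((g.hom ≫ 𝟙 _) ≫ 𝒳.p.map χ) (yoMap x (𝟙 _) g ≫ χ) := inferInstance
    rwa [Category.comp_id] at this
  let tr : ∀ (χ : x ⟶ y) (f : 𝒳.p.obj x ⟶ 𝒳.p.obj y), 𝒳.p.map χ = f →
      (yoAlong x (𝟙 _) ⟶ yoAlong y f) := fun χ f e =>
    { toNatTrans :=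
        { app := fun g => haveI := key χ f e g; toYo f g (yoMap x (𝟙 _) g ≫ χ)
          naturality := fun g g' t => by
            haveI := key χ f e g
            haveI := key χ f e g'
            haveI i1 : 𝒳.p.IsHomLift t.left ((yoAlong x (𝟙 _)).map t ≫
                toYo f g' (yoMap x (𝟙 _) g' ≫ χ)) := inferInstance
            haveI i2 : 𝒳.p.IsHomLift t.left (toYo f g (yoMap x (𝟙 _) g ≫ χ) ≫
                (yoAlong y f).map t) := inferInstance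
            refine toYo_ext f g' t.left ?_
            rw [Category.assoc, toYo_comp, Category.assoc, yoAlong_map_comp, toYo_comp,
              yoAlong_map_comp_assoc] }
      isHomLift' := fun g => by
        haveI := key χ f e g
        exact toYo_lift f g (yoMap x (𝟙 _) g ≫ χ) }
  haveI := hR.2
  have e : tr χ (𝒳.p.map χ') hχ = tr χ' (𝒳.p.map χ') rfl := by
    apply (Stk.resSieve R 𝒳).map_injective
    apply BasedNatTrans.homCategory.ext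
    ext a
    haveI := key χ (𝒳.p.map χ') hχ a.obj
    haveI := key χ' (𝒳.p.map χ') rfl a.obj
    change toYo (𝒳.p.map χ') a.obj (yoMap x (𝟙 _) a.obj ≫ χ) =
      toYo (𝒳.p.map χ') a.obj (yoMap x (𝟙 _) a.obj ≫ χ')
    refine toYo_ext _ a.obj (𝟙 _) ?_
    rw [toYo_comp, toYo_comp]
    refine h _ ?_
    haveI : 𝒳.p.IsHomLift a.obj.hom (yoMap x (𝟙 _) a.obj) := by
      have := yoMap_lift x (𝟙 _) a.obj
      rwa [Category.comp_id] at this
    exact mem_of_lift a.obj.hom a.property (yoMap x (𝟙 _) a.obj)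
  let o : Over (𝒳.p.obj x) := Over.mk (𝟙 _)
  haveI hiso : IsIso (yoMap x (𝟙 _) o) := by
    haveI : 𝒳.p.IsHomLift (𝟙 (𝒳.p.obj x)) (yoMap x (𝟙 _) o) := by
      have := yoMap_lift x (𝟙 _) o
      rw [Category.comp_id] at this
      exact this
    exact isIso_of_lift_id 𝒳.p (T := 𝒳.p.obj x) (yoMap x (𝟙 _) o)
  have e' := congrArg (fun t : yoAlong x (𝟙 _) ⟶ yoAlong y (𝒳.p.map χ') => t.toNatTrans.app o) e
  haveI := key χ (𝒳.p.map χ') hχ o
  haveI := key χ' (𝒳.p.map χ') rfl o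
  have e1 : toYo (𝒳.p.map χ') o (yoMap x (𝟙 _) o ≫ χ) = toYo (𝒳.p.map χ') o (yoMap x (𝟙 _) o ≫ χ') := e'
  have e2 := congrArg (fun t => t ≫ yoMap y (𝒳.p.map χ') o) e1
  simp only [toYo_comp] at e2
  exact (cancel_epi (yoMap x (𝟙 _) o)).1 e2

/-- Morphisms glue, with the base objects as variables. -/
theorem hom_glue' {x y : 𝒳.obj} {T T' : C} (hx : 𝒳.p.obj x = T) (hy : 𝒳.p.obj y = T') (f : T ⟶ T')
    {R : Sieve T} (hR : Stk.IsPrestackFor R 𝒳)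
    (φ : ∀ ⦃z : 𝒳.obj⦄ (k : z ⟶ x), R (𝒳.p.map k ≫ eqToHom hx) → (z ⟶ y))
    (hφ : ∀ ⦃z : 𝒳.obj⦄ (k : z ⟶ x) (hk : R (𝒳.p.map k ≫ eqToHom hx)),
      𝒳.p.IsHomLift (𝒳.p.map k ≫ eqToHom hx ≫ f) (φ k hk))
    (hn : ∀ ⦃z z' : 𝒳.obj⦄ (h : z' ⟶ z) (k : z ⟶ x) (hk : R (𝒳.p.map k ≫ eqToHom hx))
      (hk' : R (𝒳.p.map (h ≫ k) ≫ eqToHom hx)), h ≫ φ k hk = φ (h ≫ k) hk') :
    ∃ χ : x ⟶ y, 𝒳.p.IsHomLift f χ ∧
      ∀ ⦃z : 𝒳.obj⦄ (k : z ⟶ x) (hk : R (𝒳.p.map k ≫ eqToHom hx)), k ≫ χ = φ k hk := by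
  subst hx hy
  have hR' : ∀ {z : 𝒳.obj} (k : z ⟶ x), R (𝒳.p.map k) → R (𝒳.p.map k ≫ eqToHom rfl) := by
    intro z k hk; simpa using hk
  obtain ⟨χ, h1, h2⟩ := hom_glue f hR (fun z k hk => φ k (hR' k hk)) (fun z k hk => by
      have h1 := hφ k (hR' k hk)
      rw [eqToHom_refl, Category.id_comp] at h1
      exact (IsHomLift.eq_of_isHomLift 𝒳.p _ _).symm) (fun z z' h k hk hk' => hn h k _ _)
  refine ⟨χ, ?_, fun z k hk => h2 k (by simpa using hk)⟩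
  rw [← h1]; infer_instance

/-- Uniqueness of gluing, with the base objects as variables. -/
theorem hom_ext_of_sieve' {x y : 𝒳.obj} {T T' : C} (hx : 𝒳.p.obj x = T) (f : T ⟶ T')
    {R : Sieve T} (hR : Stk.IsPrestackFor R 𝒳) {χ χ' : x ⟶ y} [𝒳.p.IsHomLift f χ] [𝒳.p.IsHomLift f χ']
    (h : ∀ ⦃z : 𝒳.obj⦄ (k : z ⟶ x), R (𝒳.p.map k ≫ eqToHom hx) → k ≫ χ = k ≫ χ') : χ = χ' := by
  subst hx
  refine hom_ext_of_sieve hR ?_ (fun z k hk => h k (by simpa using hk))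
  rw [IsHomLift.fac' 𝒳.p f χ, IsHomLift.fac' 𝒳.p f χ']

omit hp in
/-- Objects glue. -/
theorem obj_glue {T : C} {R : Sieve T} (hR : Stk.IsStackFor R 𝒳) (H : Stk.sieveCat R ⥤ᵇ 𝒳) :
    ∃ (x : 𝒳.obj) (e : ∀ a : (Stk.sieveCat R).obj, H.obj a ⟶ x), 𝒳.p.obj x = T ∧
      (∀ a, 𝒳.p.IsHomLift a.obj.hom (e a)) ∧
      ∀ {a b : (Stk.sieveCat R).obj} (h : a ⟶ b), H.map h ≫ e b = e a := by
  haveI : (Stk.resSieve R 𝒳).IsEquivalence := hR
  let G := (Stk.resSieve R 𝒳).objPreimage H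
  let ι : BasedFunctor.comp (Stk.sieveIncl R) G ≅ H := (Stk.resSieve R 𝒳).objObjPreimageIso H
  let o : Over T := Over.mk (𝟙 _)
  refine ⟨G.obj o, fun a => ι.inv.toNatTrans.app a ≫ G.map (Over.homMk a.obj.hom : a.obj ⟶ o),
    G.w_obj o, fun a => ?_, fun {a b} h => ?_⟩
  · haveI : 𝒳.p.IsHomLift (𝟙 a.obj.left) (ι.inv.toNatTrans.app a) := ι.inv.isHomLift' a
    haveI : (overCat T).p.IsHomLift a.obj.hom (Over.homMk a.obj.hom : a.obj ⟶ o) :=
      IsHomLift.map (overCat T).p (Over.homMk a.obj.hom : a.obj ⟶ o)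
    haveI : 𝒳.p.IsHomLift a.obj.hom (G.map (Over.homMk a.obj.hom : a.obj ⟶ o)) :=
      BasedFunctor.preserves_isHomLift G a.obj.hom _
    infer_instance
  · have e1 := ι.inv.toNatTrans.naturality h
    have e2 : (h.hom : a.obj ⟶ b.obj) ≫ (Over.homMk b.obj.hom : b.obj ⟶ o) = Over.homMk a.obj.hom := by
      ext; simp [o]
    have e3 : G.map (h.hom : a.obj ⟶ b.obj) ≫ G.map (Over.homMk b.obj.hom : b.obj ⟶ o) =
        G.map (Over.homMk a.obj.hom : a.obj ⟶ o) := by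
      rw [← e2]; exact (G.toFunctor.map_comp _ _).symm
    change H.map h ≫ ι.inv.toNatTrans.app b ≫ G.map (Over.homMk b.obj.hom : b.obj ⟶ o) =
      ι.inv.toNatTrans.app a ≫ G.map (Over.homMk a.obj.hom : a.obj ⟶ o)
    rw [← e3, ← Category.assoc, ← Category.assoc]
    exact congrArg (fun t => t ≫ G.map (Over.homMk b.obj.hom : b.obj ⟶ o)) e1

end Glue

end K943.FibBase
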