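import Groth.Agent.ThetaS.K943.LocLift

/-!
# Gluing local dotted arrows along a covering object

`u0` an object of `ℬ` with `u0 × u0 = u1` and triple products dominated by `u2`; from a local dotted arrow at `u0`, and uniqueness
of local dotted arrows at `u1` and `u2`, one gets a dotted arrow on the objects mapping to `u0`.
-/

set_option backward.isDefEq.respectTransparency false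
set_option backward.isDefEq.respectTransparency.types false
set_option autoImplicit false
set_option linter.style.haveILetI false

universe v₄ u₄ v₃ u₃ v₂ u₂ v u

open CategoryTheory Opposite FibCat K943.FibBase K943.CoverExt K943.LocLift K943.LocLift.LL

namespace K943.LocGlue

variable {C : Type u} [Category.{v} C]
variable {ℬ : BasedCategory.{v₂, u₂} C} {Q : ℬ.obj → Prop}
variable {𝒳 : BasedCategory.{v₃, u₃} C} {𝒴 : BasedCategory.{v₄, u₄} C} {f : 𝒳 ⥤ᵇ 𝒴}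
variable [hℬ : IsFibGrpd ℬ.p] [h𝒳 : IsFibGrpd 𝒳.p] [h𝒴 : IsFibGrpd 𝒴.p]
variable {sq : LiftSq.Sq (subI ℬ Q) f}

/-- `u1` with `π1`, `π2` is a product of `u0` with itself. -/
structure IsSq {𝔹 : Type u₂} [Category.{v₂} 𝔹] {u0 u1 : 𝔹} (π1 π2 : u1 ⟶ u0) : Prop where
  ex : ∀ {b : 𝔹} (α β : b ⟶ u0), ∃ w : b ⟶ u1, w ≫ π1 = α ∧ w ≫ π2 = β
  uniq : ∀ {b : 𝔹} (w w' : b ⟶ u1), w ≫ π1 = w' ≫ π1 → w ≫ π2 = w' ≫ π2 → w = w'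

/-- `u2` with `ρ1`, `ρ2`, `ρ3` dominates all triples of arrows to `u0`. -/
def IsTri {𝔹 : Type u₂} [Category.{v₂} 𝔹] {u0 u2 : 𝔹} (ρ1 ρ2 ρ3 : u2 ⟶ u0) : Prop :=
  ∀ {b : 𝔹} (α β γ : b ⟶ u0), ∃ w : b ⟶ u2, w ≫ ρ1 = α ∧ w ≫ ρ2 = β ∧ w ≫ ρ3 = γ

/-- Any two local dotted arrows at `b` are isomorphic. -/
def Uniq1 (sq : LiftSq.Sq (subI ℬ Q) f) (b : ℬ.obj) : Prop :=
  ∀ ℓ ℓ' : LL sq b, ∃ h, IsH ℓ ℓ' (𝟙 b) h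

/-- There is at most one morphism between two local dotted arrows at `b`. -/
def Uniq2 (sq : LiftSq.Sq (subI ℬ Q) f) (b : ℬ.obj) : Prop :=
  ∀ (ℓ ℓ' : LL sq b) (h h' : ℓ.pt ⟶ ℓ'.pt), IsH ℓ ℓ' (𝟙 b) h → IsH ℓ ℓ' (𝟙 b) h' → h = h'

section Transport

variable {u0 u1 : ℬ.obj} {π1 π2 : u1 ⟶ u0} (ℓ0 : LL sq u0) (ℓ1 : LL sq u1) (p1 p2 : ℓ1.pt ⟶ ℓ0.pt)

/-- The transport relation between arrows to `ℓ0` over `α` and over `β`. -/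
def Rel (π1 π2 : u1 ⟶ u0) {a : ℬ.obj} (z : LL sq a) (α β : a ⟶ u0) (ζ ζ' : z.pt ⟶ ℓ0.pt) : Prop :=
  ∃ (w : a ⟶ u1) (ξ : z.pt ⟶ ℓ1.pt), w ≫ π1 = α ∧ w ≫ π2 = β ∧ IsH z ℓ1 w ξ ∧ ξ ≫ p1 = ζ ∧ ξ ≫ p2 = ζ'

variable {ℓ0 ℓ1 p1 p2}

omit hℬ in
theorem Rel.ex (hsq : IsSq π1 π2) (hp1 : IsH ℓ1 ℓ0 π1 p1) (hp2 : IsH ℓ1 ℓ0 π2 p2) {a : ℬ.obj} {z : LL sq a}
    {α : a ⟶ u0} (β : a ⟶ u0) {ζ : z.pt ⟶ ℓ0.pt} (H : IsH z ℓ0 α ζ) :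
    ∃ ζ' : z.pt ⟶ ℓ0.pt, IsH z ℓ0 β ζ' ∧ Rel ℓ0 ℓ1 p1 p2 π1 π2 z α β ζ ζ' := by
  obtain ⟨w, rfl, rfl⟩ := hsq.ex α β
  obtain ⟨ξ, h1, h2⟩ := IsH.exists_fac hp1 H
  exact ⟨ξ ≫ p2, h1.comp hp2, w, ξ, rfl, rfl, h1, h2, rfl⟩

omit hℬ h𝒴 in
theorem Rel.uniq (hsq : IsSq π1 π2) (hp1 : IsH ℓ1 ℓ0 π1 p1) {a : ℬ.obj} {z : LL sq a}
    {α β : a ⟶ u0} {ζ ζ' ζ'' : z.pt ⟶ ℓ0.pt} (h : Rel ℓ0 ℓ1 p1 p2 π1 π2 z α β ζ ζ')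
    (h' : Rel ℓ0 ℓ1 p1 p2 π1 π2 z α β ζ ζ'') : ζ' = ζ'' := by
  obtain ⟨w, ξ, e1, e2, H, e3, e4⟩ := h
  obtain ⟨w', ξ', e1', e2', H', e3', e4'⟩ := h'
  obtain rfl : w = w' := hsq.uniq w w' (e1.trans e1'.symm) (e2.trans e2'.symm)
  obtain rfl : ξ = ξ' := hp1.ext H H' (e3.trans e3'.symm)
  rw [← e4, ← e4']

omit hℬ h𝒴 in
theorem Rel.inj (hsq : IsSq π1 π2) (hp2 : IsH ℓ1 ℓ0 π2 p2) {a : ℬ.obj} {z : LL sq a}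
    {α β : a ⟶ u0} {ζ ζ' ζ'' : z.pt ⟶ ℓ0.pt} (h : Rel ℓ0 ℓ1 p1 p2 π1 π2 z α β ζ ζ'')
    (h' : Rel ℓ0 ℓ1 p1 p2 π1 π2 z α β ζ' ζ'') : ζ = ζ' := by
  obtain ⟨w, ξ, e1, e2, H, e3, e4⟩ := h
  obtain ⟨w', ξ', e1', e2', H', e3', e4'⟩ := h'
  obtain rfl : w = w' := hsq.uniq w w' (e1.trans e1'.symm) (e2.trans e2'.symm)
  obtain rfl : ξ = ξ' := hp2.ext H H' (e4.trans e4'.symm)
  rw [← e3, ← e3']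

omit hℬ h𝒳 h𝒴 in
theorem Rel.nat {a a' : ℬ.obj} {z : LL sq a} {z' : LL sq a'} {n : a' ⟶ a} {h : z'.pt ⟶ z.pt}
    (H : IsH z' z n h) {α β : a ⟶ u0} {ζ ζ' : z.pt ⟶ ℓ0.pt} (r : Rel ℓ0 ℓ1 p1 p2 π1 π2 z α β ζ ζ') :
    Rel ℓ0 ℓ1 p1 p2 π1 π2 z' (n ≫ α) (n ≫ β) (h ≫ ζ) (h ≫ ζ') := by
  obtain ⟨w, ξ, rfl, rfl, H', rfl, rfl⟩ := r
  exact ⟨n ≫ w, h ≫ ξ, Category.assoc _ _ _, Category.assoc _ _ _, H.comp H', Category.assoc _ _ _,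
    Category.assoc _ _ _⟩

omit hℬ in
theorem Rel.trans (hsq : IsSq π1 π2) (hp1 : IsH ℓ1 ℓ0 π1 p1) (hp2 : IsH ℓ1 ℓ0 π2 p2)
    {u2 : ℬ.obj} {ρ1 ρ2 ρ3 : u2 ⟶ u0} (htri : IsTri ρ1 ρ2 ρ3) (hu2 : Uniq2 sq u2)
    {a : ℬ.obj} {z : LL sq a} {α β γ : a ⟶ u0} {ζ ζ' ζ'' : z.pt ⟶ ℓ0.pt} (H : IsH z ℓ0 α ζ)
    (r : Rel ℓ0 ℓ1 p1 p2 π1 π2 z α β ζ ζ') (r' : Rel ℓ0 ℓ1 p1 p2 π1 π2 z β γ ζ' ζ'') :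
    Rel ℓ0 ℓ1 p1 p2 π1 π2 z α γ ζ ζ'' := by
  obtain ⟨w, rfl, rfl, rfl⟩ := htri α β γ
  obtain ⟨ℓ2, q, hq⟩ := exists_pullback ℓ0 ρ1
  obtain ⟨q', hq', rq'⟩ := Rel.ex hsq hp1 hp2 ρ2 hq
  obtain ⟨q'', hq'', rq''⟩ := Rel.ex hsq hp1 hp2 ρ3 hq'
  obtain ⟨q3, hq3, rq3⟩ := Rel.ex hsq hp1 hp2 ρ3 hq
  have hq''2 : IsH ℓ2 ℓ0 (𝟙 _ ≫ ρ3) q'' := by rw [Category.id_comp]; exact hq''
  obtain ⟨χ, hχ, eχ⟩ := IsH.exists_fac hq3 hq''2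
  obtain rfl : χ = 𝟙 _ := hu2 _ _ _ _ hχ (IsH.id ℓ2)
  rw [Category.id_comp] at eχ
  subst eχ
  obtain ⟨s, hs, rfl⟩ := IsH.exists_fac hq H
  obtain rfl : s ≫ q' = ζ' := Rel.uniq hsq hp1 (rq'.nat hs) r
  obtain rfl : s ≫ q3 = ζ'' := Rel.uniq hsq hp1 (rq''.nat hs) r'
  exact rq3.nat hs

omit hℬ in
theorem Rel.refl (hsq : IsSq π1 π2) (hp1 : IsH ℓ1 ℓ0 π1 p1) (hp2 : IsH ℓ1 ℓ0 π2 p2)
    {u2 : ℬ.obj} {ρ1 ρ2 ρ3 : u2 ⟶ u0} (htri : IsTri ρ1 ρ2 ρ3) (hu2 : Uniq2 sq u2)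
    {a : ℬ.obj} {z : LL sq a} {α : a ⟶ u0} {ζ : z.pt ⟶ ℓ0.pt} (H : IsH z ℓ0 α ζ) :
    Rel ℓ0 ℓ1 p1 p2 π1 π2 z α α ζ ζ := by
  obtain ⟨ζ', H', r⟩ := Rel.ex hsq hp1 hp2 α H
  obtain ⟨ζ'', H'', r'⟩ := Rel.ex hsq hp1 hp2 α H'
  obtain rfl : ζ' = ζ'' := Rel.uniq hsq hp1 r (Rel.trans hsq hp1 hp2 htri hu2 H r r')
  obtain rfl : ζ = ζ' := Rel.inj hsq hp2 r r'
  exact r

end Transport

/-- The property of mapping to `u0`. -/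
abbrev To (u0 : ℬ.obj) : ℬ.obj → Prop := fun b => Nonempty (b ⟶ u0)

omit hℬ in
theorem closedInto_to (u0 : ℬ.obj) : ClosedInto (To u0) := fun _ _ k ⟨m⟩ => ⟨k ≫ m⟩

omit hℬ in
/-- From a local dotted arrow at `u0` one gets a compatible family on the objects mapping to `u0`. -/
theorem exists_family {u0 u1 u2 : ℬ.obj} {π1 π2 : u1 ⟶ u0} {ρ1 ρ2 ρ3 : u2 ⟶ u0} (hsq : IsSq π1 π2)
    (htri : IsTri ρ1 ρ2 ρ3) (ℓ0 : LL sq u0) (hu1 : Uniq1 sq u1) (hu2 : Uniq2 sq u2) :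
    ∃ (ℓ : ∀ b : (sub ℬ (To u0)).obj, LL sq b.obj)
      (F : ∀ {b c : (sub ℬ (To u0)).obj} (_ : b ⟶ c), (ℓ b).pt ⟶ (ℓ c).pt),
      (∀ {b c : (sub ℬ (To u0)).obj} (m : b ⟶ c), IsH (ℓ b) (ℓ c) m.hom (F m)) ∧
      (∀ b : (sub ℬ (To u0)).obj, F (𝟙 b) = 𝟙 _) ∧
      (∀ {b c d : (sub ℬ (To u0)).obj} (m : b ⟶ c) (n : c ⟶ d), F (m ≫ n) = F m ≫ F n) := by
  -- the transport object
  obtain ⟨ℓ1, p1, hp1⟩ := exists_pullback ℓ0 π1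
  obtain ⟨p2, hp2⟩ : ∃ p2 : ℓ1.pt ⟶ ℓ0.pt, IsH ℓ1 ℓ0 π2 p2 := by
    obtain ⟨ℓ1', p2', hp2'⟩ := exists_pullback ℓ0 π2
    obtain ⟨h, hh⟩ := hu1 ℓ1 ℓ1'
    refine ⟨h ≫ p2', ?_⟩
    have := hh.comp hp2'
    rwa [Category.id_comp] at this
  have hα : ∀ b : (sub ℬ (To u0)).obj, ∃ α : b.obj ⟶ u0, True := fun b => ⟨b.property.some, trivial⟩
  choose α _ using hα
  have hℓ : ∀ b : (sub ℬ (To u0)).obj, ∃ (ℓ : LL sq b.obj) (c : ℓ.pt ⟶ ℓ0.pt), IsH ℓ ℓ0 (α b) c :=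
    fun b => exists_pullback ℓ0 (α b)
  choose ℓ can hcan using hℓ
  have hF : ∀ {b c : (sub ℬ (To u0)).obj} (m : b ⟶ c), ∃ χ : (ℓ b).pt ⟶ (ℓ c).pt,
      IsH (ℓ b) (ℓ c) m.hom χ ∧
      Rel ℓ0 ℓ1 p1 p2 π1 π2 (ℓ b) (α b) (m.hom ≫ α c) (can b) (χ ≫ can c) := by
    intro b c m
    obtain ⟨ζ, H, r⟩ := Rel.ex hsq hp1 hp2 (m.hom ≫ α c) (hcan b)
    obtain ⟨χ, hχ, rfl⟩ := IsH.exists_fac (hcan c) H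
    exact ⟨χ, hχ, r⟩
  choose F hF1 hF2 using @hF
  refine ⟨ℓ, @F, @hF1, fun b => ?_, fun {b c d} m n => ?_⟩
  · have r1 := hF2 (𝟙 b)
    have e : (𝟙 b : b ⟶ b).hom ≫ α b = α b := Category.id_comp _
    rw [e] at r1
    have r2 := Rel.refl hsq hp1 hp2 htri hu2 (hcan b)
    have e2 := Rel.uniq hsq hp1 r1 r2
    refine (hcan b).ext (hF1 (𝟙 b)) (IsH.id (ℓ b)) ?_
    rw [e2, Category.id_comp]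
  · have r1 := hF2 (m ≫ n)
    have r2 := hF2 m
    have r3 := (hF2 n).nat (hF1 m)
    have r4 := Rel.trans hsq hp1 hp2 htri hu2 (hcan b) r2 r3
    have e : (m ≫ n).hom ≫ α d = m.hom ≫ n.hom ≫ α d := Category.assoc _ _ _
    rw [e] at r1
    have e2 := Rel.uniq hsq hp1 r1 r4
    refine (hcan d).ext (hF1 (m ≫ n)) ((hF1 m).comp (hF1 n)) ?_
    rw [e2, Category.assoc]

end K943.LocGlue
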