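import Groth.Agent.ThetaS.K943.Rings
import Mathlib.RingTheory.LocalProperties.IntegrallyClosed
import Mathlib.RingTheory.Polynomial.IsIntegral
import Mathlib.RingTheory.UniqueFactorizationDomain.Basic
import Mathlib.RingTheory.Polynomial.RationalRoot
import Mathlib.Algebra.Polynomial.Laurent

/-!
# The ring `R[s, t]/(st − π)` is a normal domain
-/

set_option autoImplicit false
set_option linter.style.haveILetI false

universe u

open scoped Polynomial LaurentPolynomial nonZeroDivisors

namespace K943.STNormal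

open ThetaS K943.Depth2 K943.Rings

theorem isIntegrallyClosed_of_hart {A : Type*} [CommRing A] [IsDomain A] {a b : A} (h : Hart a b A) (ha : a ≠ 0)
    (hb : b ≠ 0) (h1 : IsIntegrallyClosed (Localization.Away a)) (h2 : IsIntegrallyClosed (Localization.Away b)) :
    IsIntegrallyClosed A := by
  refine IsIntegrallyClosed.of_localization_submonoid
    (fun i : Bool => if i then Submonoid.powers a else Submonoid.powers b) ?_ ?_ ?_
  · rintro (_ | _)
    · exact powers_le_nonZeroDivisors_of_noZeroDivisors hb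
    · exact powers_le_nonZeroDivisors_of_noZeroDivisors ha
  · rintro (_ | _)
    · exact h2
    · exact h1
  · rw [eq_bot_iff]
    intro x hx
    rw [Algebra.mem_iInf] at hx
    obtain ⟨c, s, ⟨n, rfl⟩, hx1⟩ := hx true
    obtain ⟨d, t, ⟨m, rfl⟩, hx2⟩ := hx false
    have e : b ^ m • c = a ^ n • d := by
      have h3 := hx1.symm.trans hx2
      rw [IsLocalization.mk'_eq_iff_eq] at h3
      exact IsFractionRing.injective A (FractionRing A) h3
    obtain ⟨z, rfl, -⟩ := h.ex_pow m n e
    refine ⟨z, ?_⟩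
    rw [hx1]
    symm
    change IsLocalization.mk' _ (a ^ n * z) _ = _
    rw [IsLocalization.mk'_eq_iff_eq_mul]
    change algebraMap A (FractionRing A) (a ^ n * z) = algebraMap A _ z * algebraMap A _ (a ^ n)
    rw [← map_mul, mul_comm]

section Lau

variable {R : Type u} [CommRing R] {A : Type u} [CommRing A] [Algebra R A] {s t : A} {π : R}
  (hst : s * t = algebraMap R A π) (hgen : Algebra.adjoin R {s, t} = ⊤)

include hst hgen in
theorem exists_poly (c : A) : ∃ (n : ℕ) (p : R[X]), s ^ n * c = Polynomial.aeval s p := by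
  have hc : c ∈ Algebra.adjoin R {s, t} := hgen ▸ Algebra.mem_top
  induction hc using Algebra.adjoin_induction with
  | mem x hx =>
    rcases hx with rfl | rfl
    · exact ⟨0, Polynomial.X, by simp⟩
    · exact ⟨1, Polynomial.C π, by simp [hst]⟩
  | algebraMap r => exact ⟨0, Polynomial.C r, by simp⟩
  | add x y _ _ hx hy =>
    obtain ⟨n, p, hp⟩ := hx
    obtain ⟨m, q, hq⟩ := hy
    refine ⟨n + m, Polynomial.X ^ m * p + Polynomial.X ^ n * q, ?_⟩
    rw [map_add, map_mul, map_mul, ← hp, ← hq, map_pow, map_pow, Polynomial.aeval_X]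
    ring
  | mul x y _ _ hx hy =>
    obtain ⟨n, p, hp⟩ := hx
    obtain ⟨m, q, hq⟩ := hy
    refine ⟨n + m, p * q, ?_⟩
    rw [map_mul, ← hp, ← hq]
    ring

include hst hgen in
theorem isLocalization_lau (θ : A →ₐ[R] R[T;T⁻¹]) (hθ : θ s = LaurentPolynomial.T 1) :
    letI := θ.toRingHom.toAlgebra
    IsLocalization.Away s R[T;T⁻¹] := by
  letI := θ.toRingHom.toAlgebra
  have hal : ∀ a, algebraMap A R[T;T⁻¹] a = θ a := fun a => rfl
  have hpoly : ∀ p : R[X], θ (Polynomial.aeval s p) = Polynomial.toLaurent p := by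
    intro p
    have h1 : θ.comp (Polynomial.aeval s) = (Polynomial.toLaurentAlg : R[X] →ₐ[R] R[T;T⁻¹]) := by
      apply Polynomial.algHom_ext
      rw [AlgHom.comp_apply, Polynomial.aeval_X, hθ]
      simp
    exact congr($h1 p)
  have hpow : ∀ n : ℕ, θ (s ^ n) = LaurentPolynomial.T n := by
    intro n
    rw [map_pow, hθ, LaurentPolynomial.T_pow]
    simp
  refine ⟨⟨?_, ?_, ?_⟩⟩
  · rintro ⟨_, n, rfl⟩
    change IsUnit (algebraMap A R[T;T⁻¹] (s ^ n))
    rw [hal, hpow]
    exact LaurentPolynomial.isUnit_T _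
  · intro f
    obtain ⟨n, p, hp⟩ := f.exists_T_pow
    refine ⟨⟨Polynomial.aeval s p, ⟨s ^ n, n, rfl⟩⟩, ?_⟩
    change f * algebraMap A R[T;T⁻¹] (s ^ n) = algebraMap A R[T;T⁻¹] (Polynomial.aeval s p)
    rw [hal, hal, hpow, hpoly, hp]
  · intro a b hab
    rw [hal, hal] at hab
    obtain ⟨n, p, hp⟩ := exists_poly hst hgen (a - b)
    have h1 : Polynomial.toLaurent p = 0 := by
      rw [← hpoly, ← hp, map_mul, map_sub, hab, sub_self, mul_zero]
    have h2 : p = 0 := Polynomial.toLaurent_injective (by rw [h1, map_zero])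
    refine ⟨⟨s ^ n, n, rfl⟩, ?_⟩
    rw [h2, map_zero, mul_sub, sub_eq_zero] at hp
    exact hp

include hst hgen in
theorem injective_lau (hs : ∀ x : A, s * x = 0 → x = 0) (θ : A →ₐ[R] R[T;T⁻¹])
    (hθ : θ s = LaurentPolynomial.T 1) : Function.Injective θ := by
  letI := θ.toRingHom.toAlgebra
  haveI := isLocalization_lau hst hgen θ hθ
  refine IsLocalization.injective (M := Submonoid.powers s) R[T;T⁻¹] (Submonoid.powers_le.2 ?_)
  exact mem_nonZeroDivisors_iff_right.2 fun x hx => hs x (by rw [mul_comm]; exact hx)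

instance isIntegrallyClosed_lau [IsDomain R] [IsIntegrallyClosed R] : IsIntegrallyClosed R[T;T⁻¹] :=
  isIntegrallyClosed_of_isLocalization (R := R[X]) R[T;T⁻¹] (Submonoid.powers Polynomial.X)
    (powers_le_nonZeroDivisors_of_noZeroDivisors Polynomial.X_ne_zero)

include hst hgen in
theorem isIntegrallyClosed_away [IsDomain R] [IsIntegrallyClosed R] (θ : A →ₐ[R] R[T;T⁻¹])
    (hθ : θ s = LaurentPolynomial.T 1) : IsIntegrallyClosed (Localization.Away s) := by
  letI := θ.toRingHom.toAlgebra
  haveI := isLocalization_lau hst hgen θ hθ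
  exact IsIntegrallyClosed.of_equiv (IsLocalization.algEquiv (Submonoid.powers s) R[T;T⁻¹]
    (Localization.Away s)).toRingEquiv

end Lau

variable {R : Type u} [CommRing R] {π : R}

theorem adjoin_st : Algebra.adjoin R {sFn R π, tFn R π} = ⊤ := by
  rw [eq_top_iff]
  rintro x -
  obtain ⟨f, rfl⟩ := Ideal.Quotient.mk_surjective x
  induction f using MvPolynomial.induction_on with
  | C r =>
    exact Subalgebra.algebraMap_mem _ r
  | add p q hp hq => rw [map_add]; exact add_mem hp hq
  | mul_X p i hp =>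
    rw [map_mul]
    refine mul_mem hp (Algebra.subset_adjoin ?_)
    fin_cases i
    · exact Or.inl rfl
    · exact Or.inr rfl

/-- `s ↦ z`, `t ↦ π z⁻¹`. -/
noncomputable def θs (π : R) : STRing R π →ₐ[R] R[T;T⁻¹] :=
  stPt (LaurentPolynomial.T 1) (LaurentPolynomial.C π * LaurentPolynomial.T (-1)) (by
    rw [mul_comm, mul_assoc, ← LaurentPolynomial.T_add]
    simp [LaurentPolynomial.algebraMap_apply])

/-- `t ↦ z`, `s ↦ π z⁻¹`. -/
noncomputable def θt (π : R) : STRing R π →ₐ[R] R[T;T⁻¹] :=
  stPt (LaurentPolynomial.C π * LaurentPolynomial.T (-1)) (LaurentPolynomial.T 1) (by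
    rw [mul_assoc, ← LaurentPolynomial.T_add]
    simp [LaurentPolynomial.algebraMap_apply])

theorem θs_s : θs π (sFn R π) = LaurentPolynomial.T 1 := stPt_sFn _ _ _

theorem θt_t : θt π (tFn R π) = LaurentPolynomial.T 1 := stPt_tFn _ _ _

variable [IsDomain R]

theorem injective_θs (h : π ≠ 0) : Function.Injective (θs π) :=
  injective_lau (sFn_mul_tFn R π) adjoin_st (hart_s_t h).reg₁ _ θs_s

theorem isDomain_st (h : π ≠ 0) : IsDomain (STRing R π) :=
  (injective_θs h).isDomain (θs π).toRingHom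

theorem isIntegrallyClosed_st [IsIntegrallyClosed R] (h : π ≠ 0) : IsIntegrallyClosed (STRing R π) := by
  haveI := isDomain_st h
  have h0 : sFn R π * tFn R π ≠ 0 := by
    intro e
    have h1 := congrArg (θs π) e
    rw [sFn_mul_tFn, AlgHom.commutes, map_zero, LaurentPolynomial.algebraMap_apply] at h1
    refine h ?_
    have h2 := congrArg (fun p : R[T;T⁻¹] => p.coeff 0) h1
    simpa using h2
  refine isIntegrallyClosed_of_hart (hart_s_t h) (left_ne_zero_of_mul h0) (right_ne_zero_of_mul h0)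
    (isIntegrallyClosed_away (sFn_mul_tFn R π) adjoin_st _ θs_s)
    (isIntegrallyClosed_away (t := sFn R π) (π := π) ?_ ?_ _ θt_t)
  · rw [mul_comm]; exact sFn_mul_tFn R π
  · rw [Set.pair_comm]; exact adjoin_st

end K943.STNormal
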