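import Groth.Agent.ThetaS.K943.SpProp
import Groth.Agent.ThetaS.K943.STNormal
import Groth.Agent.ThetaS.K943.Points
import Mathlib.RingTheory.Flat.TorsionFree

/-!
# Maps from `Spec R[s, t]/(st − π)` to an algebraic space which are constant on `D(s)` and on `D(t)`
-/

set_option autoImplicit false
set_option linter.style.haveILetI false
set_option backward.isDefEq.respectTransparency false
set_option backward.isDefEq.respectTransparency.types false
universe u
open CategoryTheory CategoryTheory.Limits AlgebraicGeometry Opposite Topology TopologicalSpace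
open scoped Polynomial

namespace K943.SpNode

open AlgSp ThetaS K943.SpConst K943.SpProp K943.IntClos K943.Points K951.Pts K942.Coord K943.Rings K943.STNormal

attribute [local instance] K951.Pts.algΓ

variable {S : Scheme.{u}} {M : Sp S}

theorem ic_of_normal {Y : Scheme.{u}} [IsAffine Y] [IsDomain Γ(Y, ⊤)] [IsIntegrallyClosed Γ(Y, ⊤)] {y : Γ(Y, ⊤)}
    (hy : y ≠ 0) : IC (Y.basicOpen y).ι.appTop.hom := by
  obtain ⟨e, he, h1⟩ := ι_appTop_basicOpen y
  have : IsLocalization.Away y Γ(Y, Y.basicOpen y) := (isAffineOpen_top Y).isLocalization_basicOpen y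
  rw [h1]
  exact K943.SpConst.IC.comp_bijective (IC.of_isIntegrallyClosed y hy) e he

theorem axis_eq [QuasiSeparatedSpace ↥S] (hM : IsAlgSpace M) (hq : IsQuasiSeparatedSp M) {T B Z P : Over S}
    (st : T ⟶ B) (z : Z ⟶ T)
    (sZ : Z ⟶ P) (b : P ⟶ B) (hz : z ≫ st = sZ ≫ b) [IsAffine Z.left] [IsDomain Γ(Z.left, ⊤)]
    [IsIntegrallyClosed Γ(Z.left, ⊤)] [IsAffine P.left] [IsLocallyArtinian P.left] (a : Γ(T.left, ⊤))
    (ha : z.left.appTop a ≠ 0) (g : (yon S).obj T ⟶ M) (m : (yon S).obj B ⟶ M)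
    (h : (yon S).map (opι T (T.left.basicOpen a)) ≫ g =
      (yon S).map (opι T (T.left.basicOpen a)) ≫ (yon S).map st ≫ m) :
    (yon S).map z ≫ g = (yon S).map z ≫ (yon S).map st ≫ m := by
  have h1 : (yon S).map z ≫ (yon S).map st ≫ m = (yon S).map sZ ≫ (yon S).map b ≫ m := by
    rw [← Category.assoc, ← Functor.map_comp, hz, Functor.map_comp, Category.assoc]
  rw [h1]
  refine eq_const hM hq sZ (z.left.appTop a) (ic_of_normal ha) (mem_nonZeroDivisors_of_ne_zero ha) _ _ ?_
  obtain ⟨k, hk⟩ := exists_lift_op (T.left.basicOpen a) (opι Z (Z.left.basicOpen (z.left.appTop a)) ≫ z) (fun y => by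
    have h2 : z.left ⁻¹ᵁ T.left.basicOpen a = Z.left.basicOpen (z.left.appTop a) := Scheme.preimage_basicOpen _ _
    have : y.1 ∈ z.left ⁻¹ᵁ T.left.basicOpen a := by rw [h2]; exact y.2
    exact this)
  rw [← h1, ← Category.assoc, ← Functor.map_comp, ← hk, Functor.map_comp, Category.assoc, h, ← Category.assoc,
    ← Functor.map_comp, hk, Functor.map_comp, Category.assoc]

variable {R : Type u} [CommRing R]

/-- The base. -/
noncomputable abbrev B0 (h : Spec (CommRingCat.of R) ⟶ S) : Over S := (Over.map h).obj (Over.mk (𝟙 _))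

/-- The structure map of an object over `Spec R`. -/
noncomputable abbrev stB (h : Spec (CommRingCat.of R) ⟶ S) (Y : Over (Spec (CommRingCat.of R))) :
    (Over.map h).obj Y ⟶ B0 h := (Over.map h).map (str Y)

theorem str_eq {Y Z : Over (Spec (CommRingCat.of R))} (f : Y ⟶ Z) : f ≫ str Z = str Y := by
  apply Over.OverMorphism.ext
  exact Over.w f

theorem stB_eq (h : Spec (CommRingCat.of R) ⟶ S) {Y Z : Over (Spec (CommRingCat.of R))} (f : Y ⟶ Z) :
    (Over.map h).map f ≫ stB h Z = stB h Y := by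
  rw [← Functor.map_comp, str_eq]

section Axes

variable [IsDomain R] [IsDiscreteValuationRing R] {π : R}

local notation "κ" => IsLocalRing.ResidueField R

theorem algebraMap_κX (hπ : Irreducible π) : algebraMap R κ[X] π = 0 := by
  rw [Polynomial.algebraMap_apply]
  have : algebraMap R κ π = 0 := by
    rw [IsLocalRing.ResidueField.algebraMap_eq, IsLocalRing.residue_eq_zero_iff]
    rw [Irreducible.maximalIdeal_eq hπ]
    exact Ideal.mem_span_singleton_self _
  rw [this, map_zero]

/-- The axis `t = 0`. -/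
noncomputable def ax1 (hπ : Irreducible π) : CoactBr.sp R κ[X] ⟶ STSch R π :=
  CoactBr.pt (stPt Polynomial.X 0 (by rw [mul_zero, algebraMap_κX hπ]))

/-- The axis `s = 0`. -/
noncomputable def ax2 (hπ : Irreducible π) : CoactBr.sp R κ[X] ⟶ STSch R π :=
  CoactBr.pt (stPt 0 Polynomial.X (by rw [zero_mul, algebraMap_κX hπ]))

/-- The origin of the axis. -/
noncomputable def orig (R : Type u) [CommRing R] [IsDomain R] [IsDiscreteValuationRing R] :
    CoactBr.sp R (IsLocalRing.ResidueField R) ⟶ CoactBr.sp R (IsLocalRing.ResidueField R)[X] :=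
  CoactBr.pt ((Polynomial.aeval (R := IsLocalRing.ResidueField R) 0).restrictScalars R)

/-- The point `1` of the axis. -/
noncomputable def onept (R : Type u) [CommRing R] [IsDomain R] [IsDiscreteValuationRing R] :
    CoactBr.sp R (IsLocalRing.ResidueField R) ⟶ CoactBr.sp R (IsLocalRing.ResidueField R)[X] :=
  CoactBr.pt ((Polynomial.aeval (R := IsLocalRing.ResidueField R) 1).restrictScalars R)

omit [IsDomain R] [IsDiscreteValuationRing R] in
theorem pt_fn {A B : Type u} [CommRing A] [CommRing B] [Algebra R A] [Algebra R B] (φ : B →ₐ[R] A) (b : B) :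
    fn (CoactBr.pt φ) b = (Scheme.ΓSpecIso (CommRingCat.of A)).inv.hom (φ b) :=
  congr($(Scheme.ΓSpecIso_inv_naturality (CommRingCat.ofHom φ.toRingHom)) b).symm

theorem point_eq (hπ : Irreducible π) : orig R ≫ ax1 hπ = orig R ≫ ax2 hπ := by
  rw [orig, ax1, ax2, ← CoactBr.pt_comp, ← CoactBr.pt_comp]
  congr 1
  apply stRing_algHom_ext
  · simp
  · simp

instance isArtinian_κ : IsLocallyArtinian (CoactBr.sp R κ).left :=
  Scheme.isLocallyArtinianScheme_Spec.2 inferInstance

instance irred_axis : IrreducibleSpace (CoactBr.sp R κ[X]).left :=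
  inferInstanceAs (IrreducibleSpace (PrimeSpectrum κ[X]))

instance isDomain_axis : IsDomain Γ((CoactBr.sp R κ[X]).left, ⊤) :=
  (Scheme.ΓSpecIso (CommRingCat.of κ[X])).commRingCatIsoToRingEquiv.toMulEquiv.isDomain _

instance isIntegrallyClosed_axis : IsIntegrallyClosed Γ((CoactBr.sp R κ[X]).left, ⊤) :=
  IsIntegrallyClosed.of_equiv (Scheme.ΓSpecIso (CommRingCat.of κ[X])).commRingCatIsoToRingEquiv.symm

theorem X_ne_zero : (Scheme.ΓSpecIso (CommRingCat.of κ[X])).inv.hom (Polynomial.X : κ[X]) ≠ 0 := by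
  intro e
  have : Function.Injective (Scheme.ΓSpecIso (CommRingCat.of κ[X])).inv.hom :=
    (ConcreteCategory.bijective_of_isIso (Scheme.ΓSpecIso (CommRingCat.of κ[X])).inv).1
  exact Polynomial.X_ne_zero (this (e.trans (map_zero _).symm))

theorem ax1_s (hπ : Irreducible π) : (ax1 hπ).left.appTop (stFn (sFn R π)) ≠ 0 := by
  have h1 : fn (ax1 hπ) (sFn R π) = (Scheme.ΓSpecIso (CommRingCat.of κ[X])).inv.hom (Polynomial.X : κ[X]) := by
    rw [ax1, pt_fn, stPt_sFn]
  have h2 : (ax1 hπ).left.appTop (stFn (sFn R π)) = fn (ax1 hπ) (sFn R π) := rfl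
  rw [h2, h1]
  exact X_ne_zero

theorem ax2_t (hπ : Irreducible π) : (ax2 hπ).left.appTop (stFn (tFn R π)) ≠ 0 := by
  have h1 : fn (ax2 hπ) (tFn R π) = (Scheme.ΓSpecIso (CommRingCat.of κ[X])).inv.hom (Polynomial.X : κ[X]) := by
    rw [ax2, pt_fn, stPt_tFn]
  have h2 : (ax2 hπ).left.appTop (stFn (tFn R π)) = fn (ax2 hπ) (tFn R π) := rfl
  rw [h2, h1]
  exact X_ne_zero

theorem onept_mem1 (hπ : Irreducible π) (x : (CoactBr.sp R κ).left) :
    (ax1 hπ).left ((onept R).left x) ∈ (STSch R π).left.basicOpen (stFn (sFn R π)) := by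
  have h1 : (onept R ≫ ax1 hπ).left ⁻¹ᵁ (STSch R π).left.basicOpen (stFn (sFn R π)) = ⊤ := by
    rw [preimage_basicOpen_top]
    have h2 : (onept R ≫ ax1 hπ).left.appTop (stFn (sFn R π)) = fn (onept R ≫ ax1 hπ) (sFn R π) := rfl
    rw [h2, onept, ax1, ← CoactBr.pt_comp, pt_fn]
    simp
  have h3 : x ∈ (onept R ≫ ax1 hπ).left ⁻¹ᵁ (STSch R π).left.basicOpen (stFn (sFn R π)) := by rw [h1]; trivial
  exact h3

theorem onept_mem2 (hπ : Irreducible π) (x : (CoactBr.sp R κ).left) :
    (ax2 hπ).left ((onept R).left x) ∈ (STSch R π).left.basicOpen (stFn (tFn R π)) := by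
  have h1 : (onept R ≫ ax2 hπ).left ⁻¹ᵁ (STSch R π).left.basicOpen (stFn (tFn R π)) = ⊤ := by
    rw [preimage_basicOpen_top]
    have h2 : (onept R ≫ ax2 hπ).left.appTop (stFn (tFn R π)) = fn (onept R ≫ ax2 hπ) (tFn R π) := rfl
    rw [h2, onept, ax2, ← CoactBr.pt_comp, pt_fn]
    simp
  have h3 : x ∈ (onept R ≫ ax2 hπ).left ⁻¹ᵁ (STSch R π).left.basicOpen (stFn (tFn R π)) := by rw [h1]; trivial
  exact h3

/-! ### The structure morphism -/

theorem isTorsionFree_st (hπ : π ≠ 0) : Module.IsTorsionFree R (STRing R π) := by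
  haveI := isDomain_st hπ
  have hinj : Function.Injective (algebraMap R (STRing R π)) := by
    intro a b hab
    have h1 := congrArg (θs π) hab
    rw [AlgHom.commutes, AlgHom.commutes, LaurentPolynomial.algebraMap_apply, LaurentPolynomial.algebraMap_apply] at h1
    have h2 := congrArg (fun p : LaurentPolynomial R => p.coeff 0) h1
    simpa using h2
  haveI : FaithfulSMul R (STRing R π) := (faithfulSMul_iff_algebraMap_injective _ _).2 hinj
  infer_instance

theorem flat_st (hπ : π ≠ 0) : Flat (STSch R π).hom := by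
  haveI := isTorsionFree_st hπ
  change Flat (Spec.map (CommRingCat.ofHom (algebraMap R (STRing R π))))
  rw [HasRingHomProperty.Spec_iff (P := @Flat)]
  exact RingHom.flat_algebraMap_iff.2 inferInstance

omit [IsDomain R] [IsDiscreteValuationRing R] in
theorem fp_st : LocallyOfFinitePresentation (STSch R π).hom := by
  change LocallyOfFinitePresentation (Spec.map (CommRingCat.ofHom (algebraMap R (STRing R π))))
  rw [HasRingHomProperty.Spec_iff (P := @LocallyOfFinitePresentation)]
  exact RingHom.finitePresentation_algebraMap.2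
    (Algebra.FinitePresentation.quotient (Submodule.fg_span_singleton _))

instance noeth_stSch : IsLocallyNoetherian (STSch R π).left := by
  change IsLocallyNoetherian (Spec (CommRingCat.of (STRing R π)))
  infer_instance

theorem normal_spec (A : Type u) [CommRing A] [IsDomain A] [IsIntegrallyClosed A] (t : Spec (CommRingCat.of A)) :
    IsDomain ((Spec (CommRingCat.of A)).presheaf.stalk t) ∧
      IsIntegrallyClosed ((Spec (CommRingCat.of A)).presheaf.stalk t) := by
  have hx : t.asIdeal.IsPrime := t.isPrime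
  let _ : Algebra A ((Spec (CommRingCat.of A)).presheaf.stalk t) := StructureSheaf.stalkAlgebra A t
  have h1 : IsLocalization.AtPrime ((Spec (CommRingCat.of A)).presheaf.stalk t) t.asIdeal :=
    StructureSheaf.IsLocalization.to_stalk A t
  have h2 : IsDomain ((Spec (CommRingCat.of A)).presheaf.stalk t) :=
    IsLocalization.isDomain_of_atPrime _ t.asIdeal
  exact ⟨h2, isIntegrallyClosed_of_isLocalization _ t.asIdeal.primeCompl
    t.asIdeal.primeCompl_le_nonZeroDivisors⟩

theorem normal_st (hπ : π ≠ 0) (t : (STSch R π).left) :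
    IsDomain ((STSch R π).left.presheaf.stalk t) ∧ IsIntegrallyClosed ((STSch R π).left.presheaf.stalk t) := by
  haveI := isDomain_st hπ
  haveI := isIntegrallyClosed_st hπ
  exact normal_spec (STRing R π) t

/-- The two branches of a map from `Spec R[s, t]/(st − π)` which is constant on each of them agree. -/
theorem eq_of_node [QuasiSeparatedSpace ↥S] (hM : IsAlgSpace M) (hq : IsQuasiSeparatedSp M) (hπ : Irreducible π)
    (h : Spec (CommRingCat.of R) ⟶ S) (g : (yon S).obj ((Over.map h).obj (STSch R π)) ⟶ M)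
    (m₁ m₂ : (yon S).obj (B0 h) ⟶ M)
    (h1 : (yon S).map (opι ((Over.map h).obj (STSch R π)) ((STSch R π).left.basicOpen (stFn (sFn R π)))) ≫ g =
      (yon S).map (opι ((Over.map h).obj (STSch R π)) ((STSch R π).left.basicOpen (stFn (sFn R π)))) ≫
        (yon S).map (stB h (STSch R π)) ≫ m₁)
    (h2 : (yon S).map (opι ((Over.map h).obj (STSch R π)) ((STSch R π).left.basicOpen (stFn (tFn R π)))) ≫ g =
      (yon S).map (opι ((Over.map h).obj (STSch R π)) ((STSch R π).left.basicOpen (stFn (tFn R π)))) ≫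
        (yon S).map (stB h (STSch R π)) ≫ m₂) : m₁ = m₂ := by
  let F := Over.map h
  let T : Over S := F.obj (STSch R π)
  let z₁ : F.obj (CoactBr.sp R κ[X]) ⟶ T := F.map (ax1 hπ)
  let z₂ : F.obj (CoactBr.sp R κ[X]) ⟶ T := F.map (ax2 hπ)
  let P : Over S := F.obj (CoactBr.sp R κ)
  let κκ : R →ₐ[R] κ := Algebra.ofId R κ
  let κκX : κ →ₐ[R] κ[X] := (Algebra.ofId κ κ[X]).restrictScalars R
  let sZ : F.obj (CoactBr.sp R κ[X]) ⟶ P := F.map (CoactBr.pt κκX)
  haveI : IsAffine (F.obj (CoactBr.sp R κ[X])).left := inferInstanceAs (IsAffine (Spec (CommRingCat.of κ[X])))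
  haveI : IsAffine P.left := inferInstanceAs (IsAffine (Spec (CommRingCat.of κ)))
  haveI : IsLocallyArtinian P.left := isArtinian_κ (R := R)
  haveI : IsDomain Γ((F.obj (CoactBr.sp R κ[X])).left, ⊤) := isDomain_axis (R := R)
  haveI : IsIntegrallyClosed Γ((F.obj (CoactBr.sp R κ[X])).left, ⊤) := isIntegrallyClosed_axis (R := R)
  -- on the first axis
  have e1 : (yon S).map z₁ ≫ g = (yon S).map z₁ ≫ (yon S).map (stB h (STSch R π)) ≫ m₁ := by
    refine axis_eq hM hq (stB h (STSch R π)) z₁ sZ (stB h (CoactBr.sp R κ)) ?_ (stFn (sFn R π)) (ax1_s hπ) g m₁ h1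
    rw [stB_eq, stB_eq]
  -- an etale neighbourhood of the node
  haveI : IsLocallyNoetherian T.left := noeth_stSch (R := R) (π := π)
  obtain ⟨x⟩ : Nonempty (CoactBr.sp R κ).left := inferInstanceAs (Nonempty (PrimeSpectrum κ))
  haveI : IrreducibleSpace (F.obj (CoactBr.sp R κ[X])).left := irred_axis (R := R)
  obtain ⟨V, c, hc, hcr, hcg⟩ := propagate hM (T := T) (normal_st hπ.ne_zero)
    ((STSch R π).left.basicOpen (stFn (sFn R π))) g ((yon S).map (stB h (STSch R π)) ≫ m₁) h1 z₁ e1
    ((orig R).left x) ((onept R).left x) (onept_mem1 hπ x)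
  -- the open part over `D(t)`
  let O : V.left.Opens := c.left ⁻¹ᵁ ((STSch R π).left.basicOpen (stFn (tFn R π)))
  obtain ⟨k, hk⟩ := exists_lift_op (T := T) ((STSch R π).left.basicOpen (stFn (tFn R π))) (opι V O ≫ c) (fun y => y.2)
  let φ : op' V O ⟶ B0 h := opι V O ≫ c ≫ stB h (STSch R π)
  haveI : Flat (stB h (STSch R π)).left := flat_st hπ.ne_zero
  haveI : LocallyOfFinitePresentation (stB h (STSch R π)).left := fp_st
  haveI : Flat φ.left := by change Flat (O.ι ≫ c.left ≫ (stB h (STSch R π)).left); infer_instance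
  haveI : LocallyOfFinitePresentation φ.left := by
    change LocallyOfFinitePresentation (O.ι ≫ c.left ≫ (stB h (STSch R π)).left); infer_instance
  have eφ : (yon S).map φ ≫ m₁ = (yon S).map φ ≫ m₂ := by
    calc (yon S).map φ ≫ m₁ = (yon S).map (opι V O) ≫ (yon S).map c ≫ (yon S).map (stB h (STSch R π)) ≫ m₁ := by
          simp only [φ, Functor.map_comp, Category.assoc]
      _ = (yon S).map (opι V O ≫ c) ≫ g := by rw [← hcg, Functor.map_comp, Category.assoc]
      _ = (yon S).map (opι V O ≫ c) ≫ (yon S).map (stB h (STSch R π)) ≫ m₂ := by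
          rw [← hk, Functor.map_comp, Category.assoc, h2, Category.assoc]
      _ = _ := by simp only [φ, Functor.map_comp, Category.assoc]
  -- the closed point is in the image
  have hcl : IsLocalRing.closedPoint R ∈ Set.range φ.left := by
    have ho : IsOpen (z₂.left ⁻¹' Set.range c.left) := c.left.isOpenMap.isOpen_range.preimage z₂.left.continuous
    obtain ⟨ζ, -, ⟨v, hv⟩, hζ⟩ := PreirreducibleSpace.isPreirreducible_univ (X := (F.obj (CoactBr.sp R κ[X])).left) _ _
      ho (z₂.left ⁻¹ᵁ ((STSch R π).left.basicOpen (stFn (tFn R π)))).isOpen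
      ⟨(orig R).left x, trivial, by
        obtain ⟨v, hv⟩ := hcr
        refine ⟨v, hv.trans ?_⟩
        exact congrArg (fun t : CoactBr.sp R κ ⟶ STSch R π => t.left x) (point_eq hπ)⟩
      ⟨(onept R).left x, trivial, onept_mem2 hπ x⟩
    have hvO : v ∈ O := by
      change c.left v ∈ (STSch R π).left.basicOpen (stFn (tFn R π))
      rw [hv]; exact hζ
    refine ⟨(⟨v, hvO⟩ : O), ?_⟩
    change (stB h (STSch R π)).left (c.left v) = _
    rw [hv]
    have e3 : z₂ ≫ stB h (STSch R π) = sZ ≫ stB h (CoactBr.sp R κ) := by rw [stB_eq, stB_eq]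
    have e4 : (stB h (STSch R π)).left (z₂.left ζ) = (stB h (CoactBr.sp R κ)).left (sZ.left ζ) :=
      congrArg (fun t : F.obj (CoactBr.sp R κ[X]) ⟶ B0 h => t.left ζ) e3
    rw [e4]
    have e5 : sZ.left ζ = IsLocalRing.closedPoint κ := Subsingleton.elim (α := PrimeSpectrum κ) _ _
    rw [e5]
    haveI : IsLocalHom (algebraMap R κ) := inferInstanceAs (IsLocalHom (IsLocalRing.residue R))
    exact IsLocalRing.comap_closedPoint (algebraMap R κ)
  have hsurj : Set.range φ.left = Set.univ := by
    have ho : IsOpen (Set.range φ.left) := φ.left.isOpenMap.isOpen_range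
    exact Set.eq_univ_of_forall fun y => (IsLocalRing.specializes_closedPoint (R := R) y).mem_open ho hcl
  exact K610.Site.eq_of_cover fun y => ⟨op' V O, φ, inferInstance, inferInstance, hsurj ▸ trivial, eφ⟩

end Axes

end K943.SpNode
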