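import Groth.Agent.ThetaS.K943.QuotOpen
import Mathlib.CategoryTheory.Limits.Constructions.Over.Connected

/-!
# Base change functors between quotient stacks

`j : S₁ ⟶ S₀`, `q : G₁ ⟶ G₀` over `j` exhibiting the group `G₁` as the base change of `G₀`, and `r : X₁ ⟶ X₀` equivariant
over `j`.  `bcQ`: the functor `[X₁/G₁] ⥤ [X₀/G₀]`.
-/

set_option backward.isDefEq.respectTransparency false
set_option backward.isDefEq.respectTransparency.types false
set_option autoImplicit false
set_option linter.style.haveILetI false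

universe w' v' w v u

open CategoryTheory CategoryTheory.Limits MonoidalCategory CartesianMonoidalCategory MonObj GrpObj AlgebraicGeometry

namespace K943.BcFun

variable {S₀ S₁ : Scheme.{u}} {j : S₁ ⟶ S₀} {G₀ : Over S₀} [GrpObj G₀] {G₁ : Over S₁} [GrpObj G₁]

theorem map_ext {A B : Over S₁} {f g : A ⟶ B} (h : (Over.map j).map f = (Over.map j).map g) : f = g :=
  Over.OverMorphism.ext (congrArg (fun t => t.left) h)

/-- The comparison `G₁ × P ⟶ G₀ × P`. -/
noncomputable def κ (q : (Over.map j).obj G₁ ⟶ G₀) (P : Over S₁) :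
    (Over.map j).obj (G₁ ⊗ P) ⟶ G₀ ⊗ (Over.map j).obj P :=
  lift ((Over.map j).map (fst G₁ P) ≫ q) ((Over.map j).map (snd G₁ P))

/-- `G₁` is the base change of `G₀` along `j`. -/
structure IsBc (q : (Over.map j).obj G₁ ⟶ G₀) : Prop where
  ex : ∀ {T : Over S₁} (g : (Over.map j).obj T ⟶ G₀), ∃! g₁ : T ⟶ G₁, (Over.map j).map g₁ ≫ q = g
  mul : ∀ {T : Over S₁} (g h : T ⟶ G₁), (Over.map j).map (g * h) ≫ q =
    ((Over.map j).map g ≫ q) * ((Over.map j).map h ≫ q)

variable {q : (Over.map j).obj G₁ ⟶ G₀}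

theorem IsBc.one (hq : IsBc q) {T : Over S₁} : (Over.map j).map (1 : T ⟶ G₁) ≫ q = 1 := by
  have := hq.mul (1 : T ⟶ G₁) 1
  rw [_root_.mul_one] at this
  exact (left_eq_mul.1 this)

theorem isIso_κ (hq : IsBc q) (P : Over S₁) : IsIso (κ q P) := by
  let W : Over S₀ := G₀ ⊗ (Over.map j).obj P
  let T₁ : Over S₁ := Over.mk ((snd G₀ ((Over.map j).obj P)).left ≫ P.hom)
  have hW : (snd G₀ ((Over.map j).obj P)).left ≫ P.hom ≫ j = W.hom := Over.w (snd G₀ ((Over.map j).obj P))
  let i : W ⟶ (Over.map j).obj T₁ := Over.homMk (𝟙 _) (by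
    change 𝟙 _ ≫ ((snd G₀ ((Over.map j).obj P)).left ≫ P.hom) ≫ j = W.hom
    rw [Category.id_comp, Category.assoc, hW])
  let i' : (Over.map j).obj T₁ ⟶ W := Over.homMk (𝟙 _) (by
    change 𝟙 _ ≫ W.hom = ((snd G₀ ((Over.map j).obj P)).left ≫ P.hom) ≫ j
    rw [Category.id_comp, Category.assoc, hW])
  have hi : i ≫ i' = 𝟙 _ := by apply Over.OverMorphism.ext; exact Category.id_comp _
  have hi' : i' ≫ i = 𝟙 _ := by apply Over.OverMorphism.ext; exact Category.id_comp _
  obtain ⟨g₁, hg, hgu⟩ := hq.ex (T := T₁) (i' ≫ fst G₀ ((Over.map j).obj P))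
  let p₁ : T₁ ⟶ P := Over.homMk (snd G₀ ((Over.map j).obj P)).left
  have hp : (Over.map j).map p₁ = i' ≫ snd G₀ ((Over.map j).obj P) := by
    apply Over.OverMorphism.ext; exact (Category.id_comp _).symm
  refine ⟨i ≫ (Over.map j).map (lift g₁ p₁), ?_, ?_⟩
  · let κ₁ : G₁ ⊗ P ⟶ T₁ := Over.homMk (κ q P).left (by
      change (κ q P).left ≫ (snd G₀ ((Over.map j).obj P)).left ≫ P.hom = _
      have : (κ q P).left ≫ (snd G₀ ((Over.map j).obj P)).left = (snd G₁ P).left :=
        congrArg (fun t => t.left) (lift_snd _ _ : κ q P ≫ snd _ _ = _)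
      rw [← Category.assoc, this]
      exact Over.w (snd G₁ P))
    have h1 : κ q P ≫ i = (Over.map j).map κ₁ := by
      apply Over.OverMorphism.ext; exact Category.comp_id _
    have h2 : κ₁ ≫ lift g₁ p₁ = 𝟙 _ := by
      apply CartesianMonoidalCategory.hom_ext
      · rw [Category.assoc, lift_fst, Category.id_comp]
        obtain ⟨w, -, hw⟩ := hq.ex (T := G₁ ⊗ P) ((Over.map j).map (fst G₁ P) ≫ q)
        rw [hw (κ₁ ≫ g₁) ?_, hw (fst G₁ P) rfl]
        change (Over.map j).map (κ₁ ≫ g₁) ≫ q = _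
        rw [Functor.map_comp, Category.assoc]
        refine (congrArg (fun t => (Over.map j).map κ₁ ≫ t) hg).trans ?_
        rw [← h1, Category.assoc, reassoc_of% hi]
        exact lift_fst _ _
      · rw [Category.assoc, lift_snd, Category.id_comp]
        apply map_ext (j := j)
        rw [Functor.map_comp, hp, ← h1, Category.assoc, reassoc_of% hi]
        exact lift_snd _ _
    rw [← Category.assoc, h1, ← Functor.map_comp, h2, CategoryTheory.Functor.map_id]
  · have h3 : (Over.map j).map (lift g₁ p₁) ≫ κ q P = i' := by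
      apply CartesianMonoidalCategory.hom_ext
      · rw [Category.assoc]
        refine (congrArg (fun t => (Over.map j).map (lift g₁ p₁) ≫ t) (lift_fst _ _)).trans ?_
        rw [← Category.assoc, ← Functor.map_comp, lift_fst, hg]
      · rw [Category.assoc]
        refine (congrArg (fun t => (Over.map j).map (lift g₁ p₁) ≫ t) (lift_snd _ _)).trans ?_
        rw [← Functor.map_comp, lift_snd, hp]
    rw [Category.assoc, h3, hi]

omit [GrpObj G₀] [GrpObj G₁] in
theorem κ_fst (P : Over S₁) : κ q P ≫ fst _ _ = (Over.map j).map (fst G₁ P) ≫ q := lift_fst _ _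

omit [GrpObj G₀] [GrpObj G₁] in
theorem κ_snd (P : Over S₁) : κ q P ≫ snd _ _ = (Over.map j).map (snd G₁ P) := lift_snd _ _

omit [GrpObj G₀] [GrpObj G₁] in
theorem κ_nat {P P' : Over S₁} (f : P ⟶ P') :
    κ q P ≫ (G₀ ◁ (Over.map j).map f) = (Over.map j).map (G₁ ◁ f) ≫ κ q P' := by
  apply CartesianMonoidalCategory.hom_ext
  · rw [Category.assoc, whiskerLeft_fst, κ_fst, Category.assoc, κ_fst, ← Category.assoc, ← Functor.map_comp,
      whiskerLeft_fst]
  · rw [Category.assoc, whiskerLeft_snd, ← Category.assoc, κ_snd, Category.assoc, κ_snd, ← Functor.map_comp,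
      ← Functor.map_comp, whiskerLeft_snd]

omit [GrpObj G₀] [GrpObj G₁] in
theorem map_lift_κ {T P : Over S₁} (g : T ⟶ G₁) (p : T ⟶ P) :
    (Over.map j).map (lift g p) ≫ κ q P = lift ((Over.map j).map g ≫ q) ((Over.map j).map p) := by
  apply CartesianMonoidalCategory.hom_ext
  · rw [Category.assoc, κ_fst, ← Category.assoc, ← Functor.map_comp, lift_fst, lift_fst]
  · rw [Category.assoc, κ_snd, ← Functor.map_comp, lift_snd, lift_snd]

section act

variable (hq : IsBc q) {P : Over S₁} (a : AlgGrp.Action G₁ P)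

/-- The action of `G₀` on `P` over `S₀`. -/
noncomputable def bcAct : AlgGrp.Action G₀ ((Over.map j).obj P) :=
  haveI := isIso_κ hq P
  { act := inv (κ q P) ≫ (Over.map j).map a.act
    one_act := by
      have h1 : (λ_ ((Over.map j).obj P)).inv ≫ (η[G₀] ▷ (Over.map j).obj P) =
          (Over.map j).map (lift (1 : P ⟶ G₁) (𝟙 P)) ≫ κ q P := by
        rw [map_lift_κ, hq.one, CategoryTheory.Functor.map_id]
        apply CartesianMonoidalCategory.hom_ext
        · simp [Hom.one_def]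
        · simp
      rw [← cancel_epi (λ_ ((Over.map j).obj P)).inv, ← Category.assoc, h1, Category.assoc,
        IsIso.hom_inv_id_assoc, ← Functor.map_comp, Iso.inv_hom_id]
      have h2 : lift (1 : P ⟶ G₁) (𝟙 P) ≫ a.act = 𝟙 P := by
        have h3 : lift (1 : P ⟶ G₁) (𝟙 P) = (λ_ P).inv ≫ (η[G₁] ▷ P) := by
          apply CartesianMonoidalCategory.hom_ext
          · simp [Hom.one_def]
          · simp
        rw [h3, Category.assoc, a.one_act, Iso.inv_hom_id]
      rw [h2, CategoryTheory.Functor.map_id]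
    mul_act := by
      haveI := isIso_κ hq (G₁ ⊗ P)
      have e0 : (Over.map j).map (snd G₁ (G₁ ⊗ P)) ≫ κ q P =
          lift ((Over.map j).map (snd G₁ (G₁ ⊗ P) ≫ fst G₁ P) ≫ q)
            ((Over.map j).map (snd G₁ (G₁ ⊗ P) ≫ snd G₁ P)) := by
        rw [← map_lift_κ]
        congr 2
        rw [← comp_lift, lift_fst_snd, Category.comp_id]
      have e1 : κ q (G₁ ⊗ P) ≫ (G₀ ◁ κ q P) =
          lift ((Over.map j).map (fst G₁ (G₁ ⊗ P)) ≫ q) (lift ((Over.map j).map (snd G₁ (G₁ ⊗ P) ≫ fst G₁ P) ≫ q)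
            ((Over.map j).map (snd G₁ (G₁ ⊗ P) ≫ snd G₁ P))) := by
        rw [← e0]
        apply CartesianMonoidalCategory.hom_ext
        · rw [Category.assoc, whiskerLeft_fst, κ_fst, lift_fst]
        · rw [Category.assoc, whiskerLeft_snd, ← Category.assoc, κ_snd, lift_snd]
      have e2 : (α_ G₁ G₁ P).inv ≫ (μ[G₁] ▷ P) =
          lift (fst G₁ (G₁ ⊗ P) * (snd G₁ (G₁ ⊗ P) ≫ fst G₁ P)) (snd G₁ (G₁ ⊗ P) ≫ snd G₁ P) := by
        rw [Hom.mul_def]
        apply CartesianMonoidalCategory.hom_ext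
        · rw [Category.assoc, whiskerRight_fst, lift_fst, ← Category.assoc]
          congr 1
          apply CartesianMonoidalCategory.hom_ext
          · simp
          · simp
        · simp
      have h1 : κ q (G₁ ⊗ P) ≫ (G₀ ◁ κ q P) ≫ (α_ G₀ G₀ ((Over.map j).obj P)).inv ≫
          (μ[G₀] ▷ (Over.map j).obj P) = (Over.map j).map ((α_ G₁ G₁ P).inv ≫ (μ[G₁] ▷ P)) ≫ κ q P := by
        rw [e2, map_lift_κ, hq.mul, ← Category.assoc, e1, lift_lift_associator_inv_assoc, lift_whiskerRight]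
        rfl
      have h2 : κ q P ≫ inv (κ q P) ≫ (Over.map j).map a.act = (Over.map j).map a.act :=
        IsIso.hom_inv_id_assoc _ _
      rw [← cancel_epi (α_ G₀ G₀ ((Over.map j).obj P)).inv, ← cancel_epi (G₀ ◁ κ q P), ← cancel_epi (κ q (G₁ ⊗ P))]
      have e3 : κ q (G₁ ⊗ P) ≫ (G₀ ◁ κ q P) ≫ (α_ G₀ G₀ ((Over.map j).obj P)).inv ≫
          (μ[G₀] ▷ (Over.map j).obj P) ≫ inv (κ q P) ≫ (Over.map j).map a.act =
          (Over.map j).map ((α_ G₁ G₁ P).inv ≫ (μ[G₁] ▷ P)) ≫ (Over.map j).map a.act := by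
        rw [reassoc_of% h1, h2]
      rw [e3, Iso.inv_hom_id_assoc, ← Functor.map_comp, Category.assoc, a.mul_act, Iso.inv_hom_id_assoc,
        ← MonoidalCategory.whiskerLeft_comp_assoc, h2, ← Category.assoc (κ q (G₁ ⊗ P)), κ_nat, Category.assoc, h2,
        ← Functor.map_comp] }

theorem κ_bcAct : κ q P ≫ (bcAct hq a).act = (Over.map j).map a.act := by
  haveI := isIso_κ hq P
  exact IsIso.hom_inv_id_assoc _ _

end act

omit [GrpObj G₀] [GrpObj G₁] in
theorem isPullback_map {A B C D : Over S₁} {f : A ⟶ B} {g : A ⟶ C} {h : B ⟶ D} {i : C ⟶ D} (sq : IsPullback f g h i) :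
    IsPullback ((Over.map j).map f) ((Over.map j).map g) ((Over.map j).map h) ((Over.map j).map i) := by
  have h1 := sq.map (Over.forget S₁)
  have h2 : IsPullback ((Over.forget S₀).map ((Over.map j).map f)) ((Over.forget S₀).map ((Over.map j).map g))
    ((Over.forget S₀).map ((Over.map j).map h)) ((Over.forget S₀).map ((Over.map j).map i)) := h1
  refine IsPullback.of_map (Over.forget S₀) ?_ h2
  rw [← Functor.map_comp, sq.w, Functor.map_comp]

section quot

variable {K : Precoverage Scheme.{u}} {X₀ : Over S₀} {a₀ : AlgGrp.Action G₀ X₀} {X₁ : Over S₁}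
  {a₁ : AlgGrp.Action G₁ X₁} (hq : IsBc q) {r : (Over.map j).obj X₁ ⟶ X₀}

/-- `r` is equivariant. -/
def IsEqv (q : (Over.map j).obj G₁ ⟶ G₀) (a₁ : AlgGrp.Action G₁ X₁) (a₀ : AlgGrp.Action G₀ X₀)
    (r : (Over.map j).obj X₁ ⟶ X₀) : Prop :=
  (Over.map j).map a₁.act ≫ r = κ q X₁ ≫ (G₀ ◁ r) ≫ a₀.act

/-- The object of `[X₀/G₀]` attached to an object of `[X₁/G₁]`. -/
noncomputable def bcObj (hr : IsEqv q a₁ a₀ r) (A : AlgSt.QuotObj K G₁ a₁) : AlgSt.QuotObj K G₀ a₀ where
  base := (Over.map j).obj A.base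
  P := (Over.map j).obj A.P
  act := bcAct hq A.act
  π := (Over.map j).map A.π
  cart := by
    haveI := isIso_κ hq A.P
    exact (isPullback_map (j := j) A.cart).of_iso (asIso (κ q A.P)) (Iso.refl _) (Iso.refl _) (Iso.refl _)
      (by
        change (Over.map j).map A.act.act ≫ 𝟙 _ = κ q A.P ≫ (bcAct hq A.act).act
        rw [κ_bcAct]; exact Category.comp_id _)
      (by
        change (Over.map j).map (snd G₁ A.P) ≫ 𝟙 _ = κ q A.P ≫ snd _ _
        rw [κ_snd]; exact Category.comp_id _) (by simp) (by simp)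
  loc := A.loc
  φ := (Over.map j).map A.φ ≫ r
  eqv := by
    haveI := isIso_κ hq A.P
    rw [← cancel_epi (κ q A.P), ← Category.assoc, κ_bcAct, ← Category.assoc, ← Functor.map_comp, A.eqv,
      Functor.map_comp, Category.assoc, hr, MonoidalCategory.whiskerLeft_comp, ← Category.assoc, ← κ_nat]
    simp only [Category.assoc]

/-- The functor on morphisms. -/
noncomputable def bcHom (hr : IsEqv q a₁ a₀ r) {A B : AlgSt.QuotObj K G₁ a₁} (f : A ⟶ B) :
    bcObj hq hr A ⟶ bcObj hq hr B where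
  base := (Over.map j).map f.base
  top := (Over.map j).map f.top
  eqv := by
    haveI := isIso_κ hq A.P
    change (bcAct hq A.act).act ≫ _ = (G₀ ◁ _) ≫ (bcAct hq B.act).act
    rw [← cancel_epi (κ q A.P), ← Category.assoc, κ_bcAct, ← Functor.map_comp, f.eqv, ← Category.assoc, κ_nat,
      Category.assoc, κ_bcAct, Functor.map_comp]
  cart := isPullback_map f.cart
  wφ := by
    change (Over.map j).map f.top ≫ (Over.map j).map B.φ ≫ r = (Over.map j).map A.φ ≫ r
    rw [← Category.assoc, ← Functor.map_comp, f.wφ]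

/-- The base change functor. -/
noncomputable def bcQ (hr : IsEqv q a₁ a₀ r) : AlgSt.QuotObj K G₁ a₁ ⥤ AlgSt.QuotObj K G₀ a₀ where
  obj A := bcObj hq hr A
  map f := bcHom hq hr f
  map_id _ := AlgSt.QuotObj.hom_ext ((Over.map j).map_id _) ((Over.map j).map_id _)
  map_comp _ _ := AlgSt.QuotObj.hom_ext ((Over.map j).map_comp _ _) ((Over.map j).map_comp _ _)

/-- The base change functor over `S`. -/
noncomputable def bcF {S : Scheme.{u}} (h₀ : S₀ ⟶ S) (h₁ : S₁ ⟶ S) (hj : j ≫ h₀ = h₁) (hr : IsEqv q a₁ a₀ r) :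
    ThetaS.overS h₁ (AlgSt.QuotSt K G₁ a₁) ⥤ᵇ ThetaS.overS h₀ (AlgSt.QuotSt K G₀ a₀) where
  toFunctor := bcQ hq hr
  w := by
    subst hj
    change (AlgSt.QuotSt K G₁ a₁).p ⋙ Over.map j ⋙ Over.map h₀ = _
    rw [← Over.mapComp_eq]

end quot

end K943.BcFun
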