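import Groth.Agent.ThetaS.K943.QuotOpen
import Groth.Agent.AlgSt.K744.TorsProp
import Groth.Agent.AlgSp.K610.Site

/-!
# Lifting squares against open substacks of quotient stacks, from a flat covering of the atlas

`hasLift_cov`: existence of a dotted arrow from a local dotted arrow at the object attached to a flat covering
`y : Y ⟶ X` of the atlas.
-/

set_option backward.isDefEq.respectTransparency false
set_option backward.isDefEq.respectTransparency.types false
set_option autoImplicit false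
set_option linter.style.haveILetI false

universe w' v' w v u

open CategoryTheory CategoryTheory.Limits MonoidalCategory CartesianMonoidalCategory MonObj GrpObj AlgebraicGeometry
open FibCat K943.FibBase K943.CoverExt K943.LocLift K943.LocGlue K943.QuotAtlas K943.QuotCover K943.LocPair
open K943.QuotOpen

namespace K943.CovLift

variable {S' : Scheme.{u}} {G : Over S'} [GrpObj G] {X : Over S'} {aX : AlgGrp.Action G X}
  {K : Precoverage Scheme.{u}} [K.HasIsos]

/-- The product of `b` with the object attached to `y : Y ⟶ X`. -/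
noncomputable abbrev pObj (b : AlgSt.QuotObj K G aX) {Y : Over S'} (y : Y ⟶ X) : AlgSt.QuotObj K G aX :=
  uObj K aX (pullback b.φ y) (pullback.fst b.φ y ≫ b.φ)

/-- The first projection. -/
noncomputable def pfst (b : AlgSt.QuotObj K G aX) {Y : Over S'} (y : Y ⟶ X) : pObj b y ⟶ b :=
  uMap (K := K) (aX := aX) (pullback.fst b.φ y) rfl ≫ qb b

/-- The second projection. -/
noncomputable def psnd (b : AlgSt.QuotObj K G aX) {Y : Over S'} (y : Y ⟶ X) : pObj b y ⟶ uObj K aX Y y :=
  uMap (K := K) (aX := aX) (pullback.snd b.φ y) pullback.condition.symm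

theorem uMap_comp {A B C : Over S'} {a : A ⟶ X} {b : B ⟶ X} {c : C ⟶ X} (f : A ⟶ B) (e : f ≫ b = a) (g : B ⟶ C)
    (e' : g ≫ c = b) (e'' : (f ≫ g) ≫ c = a) :
    uMap (K := K) (aX := aX) f e ≫ uMap (K := K) (aX := aX) g e' = uMap (K := K) (aX := aX) (f ≫ g) e'' := by
  have := (AlgSt.quotMap K G aX).toFunctor.map_comp
    (⟨f, congrArg ULift.up e⟩ : (⟨A, ⟨a⟩⟩ : (AlgSt.ofSch X).obj) ⟶ (⟨B, ⟨b⟩⟩ : (AlgSt.ofSch X).obj))
    (⟨g, congrArg ULift.up e'⟩ : (⟨B, ⟨b⟩⟩ : (AlgSt.ofSch X).obj) ⟶ (⟨C, ⟨c⟩⟩ : (AlgSt.ofSch X).obj))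
  exact this.symm

variable [K.IsStableUnderBaseChange]

theorem exists_prod' {b c : AlgSt.QuotObj K G aX} {Y : Over S'} (y : Y ⟶ X) (m : c ⟶ b) (n : c ⟶ uObj K aX Y y) :
    ∃ w : c ⟶ pObj b y, w ≫ pfst b y = m ∧ w ≫ psnd b y = n := by
  let uy : uObj K aX Y y ⟶ u0 K aX := uMap (K := K) (aX := aX) y (Category.comp_id _)
  obtain ⟨w', h1, h2⟩ := exists_prod m (n ≫ uy)
  have e1 : nbase w' ≫ b.φ = nbase n ≫ y := congrArg (fun t => t.base) h2
  let z : c.base ⟶ pullback b.φ y := pullback.lift (nbase w') (nbase n) e1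
  obtain ⟨w, ⟨hw1, hw2⟩, -⟩ := existsUnique_fac (AlgSt.QuotSt K G aX).p
    (uMap (K := K) (aX := aX) (y := pullback.fst b.φ y ≫ b.φ) (pullback.fst b.φ y) rfl) w' z (pullback.lift_fst _ _ _)
  refine ⟨w, ?_, ?_⟩
  · rw [pfst, ← Category.assoc, hw2, h1]
  · refine cart_ext (AlgSt.QuotSt K G aX).p uy ?_ ?_
    · change nbase w ≫ pullback.snd b.φ y = nbase n
      have : nbase w = z := hw1
      rw [this, pullback.lift_snd]
    · rw [← h2, ← hw2, Category.assoc, Category.assoc]
      congr 1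
      have e2 : (pullback.snd b.φ y ≫ y) ≫ 𝟙 X = pullback.fst b.φ y ≫ b.φ := by
        rw [Category.comp_id]; exact pullback.condition.symm
      have e3 : (pullback.fst b.φ y ≫ b.φ) ≫ 𝟙 X = pullback.fst b.φ y ≫ b.φ := Category.comp_id _
      rw [psnd, uMap_comp _ _ _ _ e2, rb, uMap_comp _ _ _ _ e3]
      congr 1

theorem prod_ext' {b c : AlgSt.QuotObj K G aX} {Y : Over S'} (y : Y ⟶ X) {w w' : c ⟶ pObj b y}
    (h1 : w ≫ pfst b y = w' ≫ pfst b y) (h2 : w ≫ psnd b y = w' ≫ psnd b y) : w = w' := by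
  let uy : uObj K aX Y y ⟶ u0 K aX := uMap (K := K) (aX := aX) y (Category.comp_id _)
  have e2 : (pullback.snd b.φ y ≫ y) ≫ 𝟙 X = pullback.fst b.φ y ≫ b.φ := by
    rw [Category.comp_id]; exact pullback.condition.symm
  have e3 : (pullback.fst b.φ y ≫ b.φ) ≫ 𝟙 X = pullback.fst b.φ y ≫ b.φ := Category.comp_id _
  have e4 : psnd b y ≫ uy = uMap (K := K) (aX := aX) (pullback.fst b.φ y) rfl ≫ rb b := by
    rw [psnd, uMap_comp _ _ _ _ e2, rb, uMap_comp _ _ _ _ e3]
    congr 1
  have a1 : w ≫ uMap (K := K) (aX := aX) (pullback.fst b.φ y) rfl =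
      w' ≫ uMap (K := K) (aX := aX) (pullback.fst b.φ y) rfl := by
    apply prod_ext
    · rw [Category.assoc, Category.assoc]; exact h1
    · rw [Category.assoc, Category.assoc, ← e4, ← Category.assoc, h2, Category.assoc]
  have b1 : nbase w ≫ pullback.fst b.φ y = nbase w' ≫ pullback.fst b.φ y := congrArg (fun t => t.base) a1
  have b2 : nbase w ≫ pullback.snd b.φ y = nbase w' ≫ pullback.snd b.φ y := congrArg (fun t => t.base) h2
  exact cart_ext (AlgSt.QuotSt K G aX).p
    (uMap (K := K) (aX := aX) (y := pullback.fst b.φ y ≫ b.φ) (pullback.fst b.φ y) rfl)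
    (pullback.hom_ext b1 b2) a1

theorem isSq' {Y : Over S'} (y : Y ⟶ X) : IsSq (pfst (uObj K aX Y y) y) (psnd (uObj K aX Y y) y) where
  ex := fun α β => exists_prod' y α β
  uniq := fun _ _ h1 h2 => prod_ext' y h1 h2

theorem isTri' {Y : Over S'} (y : Y ⟶ X) :
    IsTri (pfst (pObj (uObj K aX Y y) y) y ≫ pfst (uObj K aX Y y) y)
      (pfst (pObj (uObj K aX Y y) y) y ≫ psnd (uObj K aX Y y) y) (psnd (pObj (uObj K aX Y y) y) y) := by
  intro b α β γ
  obtain ⟨w, rfl, rfl⟩ := exists_prod' y α β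
  obtain ⟨w', h1, h2⟩ := exists_prod' y w γ
  exact ⟨w', by rw [← Category.assoc, h1], by rw [← Category.assoc, h1], h2⟩

section Over

theorem isPullback_left {A B C D : Over S'} {f : A ⟶ B} {g : A ⟶ C} {h : B ⟶ D} {i : C ⟶ D} (sq : IsPullback f g h i) :
    IsPullback f.left g.left h.left i.left := sq.map (Over.forget S')

theorem isAffine_pb {A B C : Over S'} (f : A ⟶ C) (g : B ⟶ C) [IsAffine A.left] [IsAffine B.left] [IsAffine C.left] :
    IsAffine (pullback f g).left := by
  have h := isPullback_left (IsPullback.of_hasPullback f g)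
  haveI : IsAffineHom (pullback.fst f g).left := MorphismProperty.of_isPullback h.flip
    (inferInstance : IsAffineHom g.left)
  exact isAffine_of_isAffineHom (pullback.fst f g).left

theorem flat_fst {A B C : Over S'} (f : A ⟶ C) (g : B ⟶ C) [Flat g.left] : Flat (pullback.fst f g).left :=
  MorphismProperty.of_isPullback (isPullback_left (IsPullback.of_hasPullback f g)).flip (inferInstance : Flat g.left)

theorem lfp_fst {A B C : Over S'} (f : A ⟶ C) (g : B ⟶ C) [LocallyOfFinitePresentation g.left] :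
    LocallyOfFinitePresentation (pullback.fst f g).left :=
  MorphismProperty.of_isPullback (isPullback_left (IsPullback.of_hasPullback f g)).flip
    (inferInstance : LocallyOfFinitePresentation g.left)

theorem surj_fst {A B C : Over S'} (f : A ⟶ C) (g : B ⟶ C) [Surjective g.left] :
    Surjective (pullback.fst f g).left :=
  MorphismProperty.of_isPullback (isPullback_left (IsPullback.of_hasPullback f g)).flip
    (inferInstance : Surjective g.left)

end Over

section Cov

variable {S : Scheme.{u}} (h : S' ⟶ S)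

/-- Every object is covered by objects mapping to the object attached to a flat covering of the atlas. -/
theorem cov_mem' [Flat G.hom] [LocallyOfFinitePresentation G.hom] {Y : Over S'} (y : Y ⟶ X) [Flat y.left]
    [LocallyOfFinitePresentation y.left] [Surjective y.left] (b : AlgSt.QuotObj Scheme.fppfPrecoverage G aX) :
    cov (ℬ := ThetaS.overS h (AlgSt.QuotSt Scheme.fppfPrecoverage G aX))
      (closedInto_to (uObj Scheme.fppfPrecoverage aX Y y)) b ∈
      QuotSh.J Scheme.fppfPrecoverage S ((ThetaS.overS h (AlgSt.QuotSt Scheme.fppfPrecoverage G aX)).p.obj b) := by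
  change _ ∈ AlgSp.J S ((ThetaS.overS h (AlgSt.QuotSt Scheme.fppfPrecoverage G aX)).p.obj b)
  haveI : Flat b.π.left := K744.TorsProp.flat_of_torsor b
  haveI : LocallyOfFinitePresentation b.π.left := K744.TorsProp.lfp_of_torsor b
  haveI : Surjective b.π.left := K744.TorsProp.surjective_of_torsor b
  haveI := flat_fst b.φ y
  haveI := lfp_fst b.φ y
  haveI := surj_fst b.φ y
  rw [K610.Site.mem_J_iff]
  intro t
  obtain ⟨p, rfl⟩ := b.π.left.surjective t
  obtain ⟨q, rfl⟩ := (pullback.fst b.φ y).left.surjective p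
  refine ⟨(Over.map h).obj (pullback b.φ y), (Over.map h).map (pullback.fst b.φ y ≫ b.π), ?_, ?_, ?_, ⟨q, rfl⟩⟩
  · exact ⟨pObj b y, pfst b y, ⟨psnd b y⟩, IsHomLift.map (ThetaS.overS h (AlgSt.QuotSt Scheme.fppfPrecoverage G aX)).p
      (pfst b y)⟩
  · change Flat ((pullback.fst b.φ y).left ≫ b.π.left); infer_instance
  · change LocallyOfFinitePresentation ((pullback.fst b.φ y).left ≫ b.π.left); infer_instance

variable {U : X.left.Opens} (hU : Stable aX U)
  {𝒳 : BasedCategory.{v, w} (Over S)} {𝒴 : BasedCategory.{v', w'} (Over S)} {f : 𝒳 ⥤ᵇ 𝒴}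

include hU in
/-- Existence of dotted arrows from a local dotted arrow at a flat covering of the atlas. -/
theorem hasLift_cov [Flat G.hom] [LocallyOfFinitePresentation G.hom] [IsAffineHom G.hom] [IsAffine X.left]
    {Y : Over S'} (y : Y ⟶ X) [Flat y.left] [LocallyOfFinitePresentation y.left] [Surjective y.left] [IsAffine Y.left]
    (h𝒳 : Stk.IsStack (QuotSh.J Scheme.fppfPrecoverage S) 𝒳) (h𝒴 : Stk.IsPrestack (QuotSh.J Scheme.fppfPrecoverage S) 𝒴)
    (H : UniqFlat h U f)
    (sq : LiftSq.Sq (subI (ThetaS.overS h (AlgSt.QuotSt Scheme.fppfPrecoverage G aX))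
      (InU Scheme.fppfPrecoverage aX U)) f)
    (ℓ0 : Nonempty (LL sq (uObj Scheme.fppfPrecoverage aX Y y))) : sq.HasLift := by
  haveI := h𝒳.1
  haveI := h𝒴.1
  have key : ∀ (Z : Over S') (z : Z ⟶ X), Flat z.left → IsAffine Z.left →
      Uniq1 sq (uObj Scheme.fppfPrecoverage aX Z z) ∧ Uniq2 sq (uObj Scheme.fppfPrecoverage aX Z z) := fun Z z h1 h2 =>
    ⟨uniq1 _ _ (isQTerm h hU z) (H Z z h1 h2), uniq2 _ _ (isQTerm h hU z) (H Z z h1 h2)⟩
  haveI hfa := flat_act aX
  have hφ : ∀ (Z : Over S') (z : Z ⟶ X) [Flat z.left], Flat (uObj Scheme.fppfPrecoverage aX Z z).φ.left := by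
    intro Z z _
    haveI := flat_whiskerLeft (G := G) z
    change Flat ((G ◁ z).left ≫ aX.act.left)
    infer_instance
  have step : ∀ (Z : Over S') (z : Z ⟶ X), Flat z.left → IsAffine Z.left →
      Flat (pullback.fst (uObj Scheme.fppfPrecoverage aX Z z).φ y ≫ (uObj Scheme.fppfPrecoverage aX Z z).φ).left ∧
        IsAffine (pullback (uObj Scheme.fppfPrecoverage aX Z z).φ y).left := by
    intro Z z h1 h2
    haveI := hφ Z z
    haveI := flat_fst (uObj Scheme.fppfPrecoverage aX Z z).φ y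
    haveI : IsAffine (uObj Scheme.fppfPrecoverage aX Z z).P.left := isAffine_tensor (G := G) Z
    refine ⟨?_, isAffine_pb _ _⟩
    change Flat ((pullback.fst (uObj Scheme.fppfPrecoverage aX Z z).φ y).left ≫
      (uObj Scheme.fppfPrecoverage aX Z z).φ.left)
    infer_instance
  obtain ⟨f1, a1⟩ := step Y y inferInstance inferInstance
  obtain ⟨f2, a2⟩ := step _ _ f1 a1
  exact LiftMain.hasLift (ℬ := ThetaS.overS h (AlgSt.QuotSt Scheme.fppfPrecoverage G aX)) (closedInto_inU h U)
    (isSq' y) (isTri' y) (fun b => h𝒳.2 _ (cov_mem' h y b)) (fun b => h𝒴.2 _ (cov_mem' h y b)) ℓ0.some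
    (key _ _ f1 a1).1 (key _ _ f2 a2).2

end Cov

end K943.CovLift
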