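import Groth.Agent.ThetaS.K943.BcFun
import Groth.Agent.ThetaS.K943.CovLift
import Groth.Agent.ThetaS.K943.SelfLift

/-!
# Lifts from an extension after base change

`bcSub`: the base change functor on the open substacks.  `exists_LL_bc`, `hasLift_bc`: a functor on the punctured stack extends if it does
so after the base change along a flat covering.
-/

set_option backward.isDefEq.respectTransparency false
set_option backward.isDefEq.respectTransparency.types false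
set_option autoImplicit false
set_option linter.style.haveILetI false

universe w' v' w v u

open CategoryTheory CategoryTheory.Limits MonoidalCategory CartesianMonoidalCategory MonObj GrpObj AlgebraicGeometry
open FibCat K943.FibBase K943.CoverExt K943.LocLift K943.LocGlue K943.QuotAtlas K943.QuotCover K943.LocPair
open K943.QuotOpen K943.BcFun

namespace K943.BcLift

variable {S₀ S₁ : Scheme.{u}} {j : S₁ ⟶ S₀} {G₀ : Over S₀} [GrpObj G₀] {G₁ : Over S₁} [GrpObj G₁]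
  {q : (Over.map j).obj G₁ ⟶ G₀}
  {K : Precoverage Scheme.{u}} {X₀ : Over S₀} {a₀ : AlgGrp.Action G₀ X₀} {X₁ : Over S₁}
  {a₁ : AlgGrp.Action G₁ X₁} (hq : IsBc q) {r : (Over.map j).obj X₁ ⟶ X₀}

/-- The base change functor on the open substacks. -/
noncomputable def bcSub {S : Scheme.{u}} (h₀ : S₀ ⟶ S) (h₁ : S₁ ⟶ S) (hj : j ≫ h₀ = h₁) (hr : IsEqv q a₁ a₀ r)
    {U₀ : X₀.left.Opens} {U₁ : X₁.left.Opens} (hU : r.left ⁻¹ᵁ U₀ = U₁) :
    sub (ThetaS.overS h₁ (AlgSt.QuotSt K G₁ a₁)) (InU K a₁ U₁) ⥤ᵇ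
      sub (ThetaS.overS h₀ (AlgSt.QuotSt K G₀ a₀)) (InU K a₀ U₀) where
  toFunctor :=
    { obj := fun A => ⟨bcObj hq hr A.obj, by
        have hA : A.obj.φ.left ⁻¹ᵁ U₁ = ⊤ := A.property
        change A.obj.φ.left ⁻¹ᵁ (r.left ⁻¹ᵁ U₀) = ⊤
        rw [hU, hA]⟩
      map := fun f => ObjectProperty.homMk (bcHom hq hr f.hom)
      map_id := fun _ => ObjectProperty.hom_ext _ ((bcQ hq hr).map_id _)
      map_comp := fun f g => ObjectProperty.hom_ext _ ((bcQ hq hr).map_comp f.hom g.hom) }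
  w := by
    subst hj
    change (subI (ThetaS.overS (j ≫ h₀) (AlgSt.QuotSt K G₁ a₁)) (InU K a₁ U₁)).toFunctor ⋙
      (AlgSt.QuotSt K G₁ a₁).p ⋙ Over.map j ⋙ Over.map h₀ = _
    rw [← Over.mapComp_eq]
    rfl

variable [K.HasIsos]

/-- The canonical arrow to the base change of a trivial torsor. -/
noncomputable def τ (hr : IsEqv q a₁ a₀ r) {T : Over S₁} (y₁ : T ⟶ X₁) :
    uObj K a₀ ((Over.map j).obj T) ((Over.map j).map y₁ ≫ r) ⟶ bcObj hq hr (uObj K a₁ T y₁) :=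
  uMap (K := K) (aX := a₀) (Z := (Over.map j).obj (G₁ ⊗ T)) (z := (bcObj hq hr (uObj K a₁ T y₁)).φ)
    ((Over.map j).map (lift (1 : T ⟶ G₁) (𝟙 T))) (by
      change (Over.map j).map (lift (1 : T ⟶ G₁) (𝟙 T)) ≫ (Over.map j).map ((G₁ ◁ y₁) ≫ a₁.act) ≫ r = _
      rw [← Category.assoc, ← Functor.map_comp]
      congr 2
      rw [← Category.assoc, lift_whiskerLeft, Category.id_comp]
      exact sm_one a₁ y₁) ≫ qb (bcObj hq hr (uObj K a₁ T y₁))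

theorem τ_base (hr : IsEqv q a₁ a₀ r) {T : Over S₁} (y₁ : T ⟶ X₁) :
    (τ (K := K) hq hr y₁).base = 𝟙 ((Over.map j).obj T) := by
  change (Over.map j).map (lift (1 : T ⟶ G₁) (𝟙 T)) ≫ (Over.map j).map (snd G₁ T) = _
  rw [← Functor.map_comp, lift_snd, CategoryTheory.Functor.map_id]

variable [K.IsStableUnderBaseChange]

/-- A local dotted arrow at a chart from an extension after base change. -/
theorem exists_LL_bc {S : Scheme.{u}} (h₀ : S₀ ⟶ S) (h₁ : S₁ ⟶ S) (hj : j ≫ h₀ = h₁) (hr : IsEqv q a₁ a₀ r)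
    {U₀ : X₀.left.Opens} {U₁ : X₁.left.Opens} (hU : r.left ⁻¹ᵁ U₀ = U₁) (hU₀ : Stable a₀ U₀) (hU₁ : Stable a₁ U₁)
    {𝒳 : BasedCategory.{v, w} (Over S)}
    (sq : LiftSq.Sq (subI (ThetaS.overS h₀ (AlgSt.QuotSt K G₀ a₀)) (InU K a₀ U₀)) (toSelf 𝒳))
    (Ω : ThetaS.overS h₁ (AlgSt.QuotSt K G₁ a₁) ⥤ᵇ 𝒳)
    (γ : BasedFunctor.comp (subI (ThetaS.overS h₁ (AlgSt.QuotSt K G₁ a₁)) (InU K a₁ U₁)) Ω ≅
      BasedFunctor.comp (bcSub hq h₀ h₁ hj hr hU) sq.top) :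
    Nonempty (LL sq (uObj K a₀ ((Over.map j).obj X₁) r)) := by
  subst hj
  let v₁ : (sub (ThetaS.overS (j ≫ h₀) (AlgSt.QuotSt K G₁ a₁)) (InU K a₁ U₁)).obj := vObj (K := K) (j ≫ h₀) hU₁ (𝟙 X₁)
  let T : Over S₁ := YU (𝟙 X₁) U₁
  let o : T ⟶ X₁ := openMap (𝟙 X₁) U₁
  have hz : (X₁.left.isoOfEq hU).hom ≫ U₁.ι = (r.left ⁻¹ᵁ U₀).ι := Scheme.isoOfEq_hom_ι _ _
  let z : YU r U₀ ⟶ (Over.map j).obj T := Over.homMk (X₁.left.isoOfEq hU).hom (by
    change (X₁.left.isoOfEq hU).hom ≫ (U₁.ι ≫ X₁.hom) ≫ j = (r.left ⁻¹ᵁ U₀).ι ≫ X₁.hom ≫ j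
    rw [← hz]; simp only [Category.assoc])
  have hzo : z ≫ (Over.map j).map o = openMap r U₀ := Over.OverMorphism.ext hz
  let α : (vObj (K := K) h₀ hU₀ r).obj ⟶ bcObj hq hr v₁.obj :=
    uMap (K := K) (aX := a₀) (z := (Over.map j).map (o ≫ 𝟙 X₁) ≫ r) z (by
      rw [Category.comp_id, ← Category.assoc, hzo]) ≫ τ (K := K) hq hr (o ≫ 𝟙 X₁)
  have hα : α.base = z := by
    change z ≫ (τ (K := K) hq hr (o ≫ 𝟙 X₁)).base = z
    rw [τ_base]; exact Category.comp_id z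
  let α' : vObj (K := K) h₀ hU₀ r ⟶ (bcSub hq h₀ (j ≫ h₀) rfl hr hU).obj v₁ := ObjectProperty.homMk α
  have hα' : (sub (ThetaS.overS h₀ (AlgSt.QuotSt K G₀ a₀)) (InU K a₀ U₀)).p.IsHomLift ((Over.map h₀).map z) α' := by
    have : (Over.map h₀).map z = (sub (ThetaS.overS h₀ (AlgSt.QuotSt K G₀ a₀)) (InU K a₀ U₀)).p.map α' := by
      change _ = (Over.map h₀).map α.base
      rw [hα]
    rw [this]
    exact IsHomLift.map _ α'
  have l1 : 𝒳.p.IsHomLift ((Over.map h₀).map z) (sq.top.map α') :=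
    BasedFunctor.preserves_isHomLift sq.top _ _
  have l2 : 𝒳.p.IsHomLift (𝟙 ((Over.map (j ≫ h₀)).obj T)) (γ.inv.toNatTrans.app v₁) := γ.inv.isHomLift' v₁
  let k₁ : v₁.obj ⟶ uObj K a₁ X₁ (𝟙 X₁) := uMap (K := K) (aX := a₁) (openMap (𝟙 X₁) U₁) rfl
  have hk₁ : (ThetaS.overS (j ≫ h₀) (AlgSt.QuotSt K G₁ a₁)).p.IsHomLift ((Over.map (j ≫ h₀)).map o) k₁ :=
    IsHomLift.map (ThetaS.overS (j ≫ h₀) (AlgSt.QuotSt K G₁ a₁)).p k₁
  have l3 : 𝒳.p.IsHomLift ((Over.map (j ≫ h₀)).map o) (Ω.map k₁) :=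
    BasedFunctor.preserves_isHomLift Ω _ _
  have l4 : 𝒳.p.IsHomLift ((Over.map (j ≫ h₀)).map o) (γ.inv.toNatTrans.app v₁ ≫ Ω.map k₁) := by
    have : 𝒳.p.IsHomLift (𝟙 ((Over.map (j ≫ h₀)).obj T) ≫ (Over.map (j ≫ h₀)).map o)
      (γ.inv.toNatTrans.app v₁ ≫ Ω.map k₁) := inferInstance
    rwa [Category.id_comp] at this
  rw [Over.mapComp_eq] at l4
  have l5 : 𝒳.p.IsHomLift ((Over.map h₀).map (openMap r U₀)) (sq.top.map α' ≫ γ.inv.toNatTrans.app v₁ ≫ Ω.map k₁) := by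
    rw [← hzo, Functor.map_comp]
    haveI l6 : 𝒳.p.IsHomLift ((Over.map h₀).map ((Over.map j).map o)) (γ.inv.toNatTrans.app v₁ ≫ Ω.map k₁) := l4
    exact IsHomLift.comp 𝒳.p _ _ _ _
  exact K943.SelfLift.exists_LL_self sq (vObj (K := K) h₀ hU₀ r)
    (uMap (K := K) (aX := a₀) (openMap r U₀) rfl) (isQTerm h₀ hU₀ r) _ _ l5

end K943.BcLift
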