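import Mathlib.RingTheory.Etale.Basic
import Mathlib.RingTheory.Unramified.Field
import Mathlib.RingTheory.QuasiFinite.Basic
import Mathlib.RingTheory.DiscreteValuationRing.TFAE
import Mathlib.RingTheory.Filtration
import Mathlib.RingTheory.Smooth.Flat
import Mathlib.RingTheory.Flat.TorsionFree
import Mathlib.RingTheory.Etale.QuasiFinite
import Mathlib.RingTheory.Unramified.LocalStructure

/-!
# Etale neighbourhoods of the closed point of a discrete valuation ring
-/

set_option autoImplicit false
set_option linter.style.haveILetI false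

universe u

namespace K943.EtDvr

/-- A Noetherian local ring whose maximal ideal is generated by a nonzerodivisor is a discrete valuation ring. -/
theorem dvr_of_generator {B : Type*} [CommRing B] [IsNoetherianRing B] [IsLocalRing B] {ϖ : B}
    (h1 : IsLocalRing.maximalIdeal B = Ideal.span {ϖ}) (h2 : ϖ ∈ nonZeroDivisors B) :
    ∃ _ : IsDomain B, IsDiscreteValuationRing B ∧ Irreducible ϖ := by
  have hne : Ideal.span {ϖ} ≠ ⊤ := by rw [← h1]; exact IsLocalRing.maximalIdeal.isMaximal B |>.ne_top
  have key : ∀ a : B, a ≠ 0 → ∃ (n : ℕ) (w : Bˣ), a = ϖ ^ n * w := by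
    intro a ha
    have h3 := Ideal.iInf_pow_eq_bot_of_isLocalRing (Ideal.span {ϖ}) hne
    have h4 : ∃ n, a ∉ (Ideal.span {ϖ}) ^ n := by
      by_contra hcon
      push Not at hcon
      apply ha
      have : a ∈ ⨅ i, (Ideal.span {ϖ}) ^ i := by simpa [Ideal.mem_iInf] using hcon
      rw [h3] at this
      exact this
    classical
    let m := Nat.find h4
    have hm : a ∉ (Ideal.span {ϖ}) ^ m := Nat.find_spec h4
    have hm0 : m ≠ 0 := by
      intro h0
      rw [h0, pow_zero, Ideal.one_eq_top] at hm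
      exact hm trivial
    obtain ⟨l, hl⟩ := Nat.exists_eq_succ_of_ne_zero hm0
    have hl2 : a ∈ (Ideal.span {ϖ}) ^ l := by
      have := Nat.find_min h4 (m := l) (by
        change l < m
        rw [hl]; exact Nat.lt_succ_self l)
      exact not_not.1 this
    rw [Ideal.span_singleton_pow, Ideal.mem_span_singleton] at hl2
    obtain ⟨w, hw⟩ := hl2
    have hwu : IsUnit w := by
      by_contra hwn
      apply hm
      have h5 : w ∈ IsLocalRing.maximalIdeal B := hwn
      rw [h1, Ideal.mem_span_singleton] at h5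
      obtain ⟨v, hv⟩ := h5
      rw [hl, Ideal.span_singleton_pow, Ideal.mem_span_singleton, hw, hv, pow_succ, ← mul_assoc]
      exact Dvd.intro _ rfl
    exact ⟨l, hwu.unit, hw⟩
  have hdom : IsDomain B := by
    haveI : NoZeroDivisors B := ⟨fun {a b} hab => by
      by_contra hcon
      push Not at hcon
      obtain ⟨n, w, hw⟩ := key a hcon.1
      obtain ⟨m, v, hv⟩ := key b hcon.2
      have h3 : ϖ ^ (n + m) * ((w * v : Bˣ) : B) = 0 := by
        rw [← hab, hw, hv, pow_add]; push_cast; ring
      rw [Units.mul_left_eq_zero] at h3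
      have h4 : ϖ ^ (n + m) ∈ nonZeroDivisors B := pow_mem h2 _
      exact nonZeroDivisors.ne_zero h4 h3⟩
    exact NoZeroDivisors.to_isDomain B
  have hirr : Irreducible ϖ := by
    have hp : Prime ϖ := by
      rw [← Ideal.span_singleton_prime (nonZeroDivisors.ne_zero h2), ← h1]
      exact (IsLocalRing.maximalIdeal.isMaximal B).isPrime
    exact hp.irreducible
  refine ⟨hdom, ?_, hirr⟩
  exact IsDiscreteValuationRing.ofHasUnitMulPowIrreducibleFactorization ⟨ϖ, hirr, fun {x} hx => by
    obtain ⟨n, w, hw⟩ := key x hx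
    exact ⟨n, w, hw.symm⟩⟩

theorem finite_primeSpectrum (R : Type*) [CommRing R] [IsDomain R] [IsDiscreteValuationRing R] :
    Finite (PrimeSpectrum R) := by
  have h : ∀ p : PrimeSpectrum R, p.asIdeal = ⊥ ∨ p.asIdeal = IsLocalRing.maximalIdeal R := by
    intro p
    by_cases hp : p.asIdeal = ⊥
    · exact Or.inl hp
    · exact Or.inr (IsLocalRing.eq_maximalIdeal (Ring.DimensionLEOne.maximalOfPrime hp p.isPrime))
  refine Finite.of_injective (β := Set.range (fun b : Bool => if b then (⊥ : Ideal R) else IsLocalRing.maximalIdeal R))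
    (fun p => ⟨p.asIdeal, ?_⟩) ?_
  · rcases h p with h | h
    · exact ⟨true, by rw [h]; rfl⟩
    · exact ⟨false, by rw [h]; rfl⟩
  · intro p q hpq
    exact PrimeSpectrum.ext (congrArg Subtype.val hpq)

section main

variable {R : Type u} [CommRing R] [IsDomain R] [IsDiscreteValuationRing R] {B : Type u} [CommRing B] [Algebra R B]
  [Algebra.Etale R B]

variable (R) in
include R in
theorem exists_f (𝔫 : Ideal B) [𝔫.IsPrime] : ∃ f : B, f ∉ 𝔫 ∧ ∀ (p : Ideal B) [p.IsPrime], f ∉ p → p ≤ 𝔫 := by
  haveI := finite_primeSpectrum R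
  haveI : Finite (PrimeSpectrum B) := Algebra.QuasiFinite.finite_primeSpectrum R B
  haveI := Fintype.ofFinite (PrimeSpectrum B)
  classical
  have h : ∀ p : PrimeSpectrum B, ∃ g : B, g ∉ 𝔫 ∧ (¬ p.asIdeal ≤ 𝔫 → g ∈ p.asIdeal) := by
    intro p
    by_cases hp : p.asIdeal ≤ 𝔫
    · exact ⟨1, (Ideal.ne_top_iff_one _).1 (Ideal.IsPrime.ne_top inferInstance), fun h => absurd hp h⟩
    · obtain ⟨g, hg1, hg2⟩ := SetLike.not_le_iff_exists.1 hp
      exact ⟨g, hg2, fun _ => hg1⟩
  choose g hg1 hg2 using h
  refine ⟨∏ p, g p, ?_, ?_⟩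
  · intro hcon
    obtain ⟨p, -, hp⟩ := (Ideal.IsPrime.prod_mem_iff).1 hcon
    exact hg1 p hp
  · intro p hp hf
    by_contra hcon
    apply hf
    have h1 := hg2 ⟨p, hp⟩ hcon
    exact Ideal.mem_of_dvd _ (Finset.dvd_prod_of_mem g (Finset.mem_univ (⟨p, hp⟩ : PrimeSpectrum B))) h1

theorem isLocalRing_away {𝔫 : Ideal B} [h𝔫 : 𝔫.IsPrime] {f : B} (hf : f ∉ 𝔫)
    (H : ∀ (p : Ideal B) [p.IsPrime], f ∉ p → p ≤ 𝔫) : IsLocalRing (Localization.Away f) := by
  have hdisj : Disjoint ((Submonoid.powers f : Submonoid B) : Set B) (𝔫 : Set B) := by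
    rw [Set.disjoint_left]
    rintro _ ⟨n, rfl⟩ hn
    exact hf (h𝔫.mem_of_pow_mem _ hn)
  have hpr := IsLocalization.isPrime_of_isPrime_disjoint (Submonoid.powers f) (Localization.Away f) 𝔫 h𝔫 hdisj
  have key : ∀ M : Ideal (Localization.Away f), M.IsPrime → M ≤ 𝔫.map (algebraMap B (Localization.Away f)) := by
    intro M hM
    have h1 : f ∉ M.comap (algebraMap B (Localization.Away f)) := by
      intro h2
      exact hM.ne_top (Ideal.eq_top_of_isUnit_mem _ h2 (IsLocalization.Away.algebraMap_isUnit f))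
    have h3 := H _ h1
    rw [← IsLocalization.map_under (Submonoid.powers f) (Localization.Away f) M]
    exact Ideal.map_mono h3
  obtain ⟨M, hM, hM'⟩ := Ideal.exists_le_maximal _ hpr.ne_top
  have e1 : M = 𝔫.map (algebraMap B (Localization.Away f)) := le_antisymm (key M hM.isPrime) hM'
  refine IsLocalRing.of_unique_max_ideal ⟨M, hM, fun N hN => ?_⟩
  exact hN.eq_of_le hM.ne_top ((key N hN.isPrime).trans hM')

/-- An etale algebra over a discrete valuation ring is, near a prime over the uniformizer, a discrete valuation ring with the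
same uniformizer. -/
theorem exists_dvr {ϖ : R} (hϖ : Irreducible ϖ) (𝔫 : Ideal B) [h𝔫 : 𝔫.IsPrime] (h : algebraMap R B ϖ ∈ 𝔫) :
    ∃ f : B, f ∉ 𝔫 ∧ ∃ _ : IsDomain (Localization.Away f), IsDiscreteValuationRing (Localization.Away f) ∧
      Irreducible (algebraMap R (Localization.Away f) ϖ) := by
  obtain ⟨f, hf, H⟩ := exists_f R 𝔫
  refine ⟨f, hf, ?_⟩
  haveI := isLocalRing_away hf H
  haveI : Algebra.Etale R (Localization.Away f) := Algebra.Etale.comp R B (Localization.Away f)
  haveI : IsNoetherianRing (Localization.Away f) := Algebra.FiniteType.isNoetherianRing R _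
  let B' := Localization.Away f
  let ϖ' : B' := algebraMap R B' ϖ
  have hnzd : ϖ' ∈ nonZeroDivisors B' := by
    have h1 : IsSMulRegular B' ϖ := Module.Flat.isSMulRegular_of_nonZeroDivisors (mem_nonZeroDivisors_of_ne_zero hϖ.ne_zero)
    rw [mem_nonZeroDivisors_iff_right]
    intro x hx
    apply h1
    change ϖ • x = ϖ • 0
    rw [smul_zero, Algebra.smul_def, mul_comm]
    exact hx
  have hϖ' : ϖ' ∈ IsLocalRing.maximalIdeal B' := by
    intro hu
    have hdisj : Disjoint ((Submonoid.powers f : Submonoid B) : Set B) (𝔫 : Set B) := by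
      rw [Set.disjoint_left]
      rintro _ ⟨n, rfl⟩ hn
      exact hf (h𝔫.mem_of_pow_mem _ hn)
    have hpr := IsLocalization.isPrime_of_isPrime_disjoint (Submonoid.powers f) B' 𝔫 h𝔫 hdisj
    apply hpr.ne_top
    refine Ideal.eq_top_of_isUnit_mem _ (x := ϖ') ?_ hu
    have : ϖ' = algebraMap B B' (algebraMap R B ϖ) := IsScalarTower.algebraMap_apply R B B' ϖ
    rw [this]
    exact Ideal.mem_map_of_mem _ h
  have hm : IsLocalRing.maximalIdeal B' = Ideal.span {ϖ'} := by
    let C := B' ⧸ Ideal.span {ϖ'}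
    let κ := R ⧸ Ideal.span {ϖ}
    haveI hmax : (Ideal.span {ϖ}).IsMaximal := by
      rw [← (IsDiscreteValuationRing.irreducible_iff_uniformizer ϖ).1 hϖ]
      exact IsLocalRing.maximalIdeal.isMaximal R
    letI : Field κ := Ideal.Quotient.field _
    letI : Algebra κ C := (Ideal.Quotient.lift (Ideal.span {ϖ}) (algebraMap R C) (by
      intro a ha
      obtain ⟨b, rfl⟩ := Ideal.mem_span_singleton.1 ha
      rw [map_mul]
      have : algebraMap R C ϖ = 0 := by
        rw [IsScalarTower.algebraMap_apply R B' C]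
        exact Ideal.Quotient.eq_zero_iff_mem.2 (Ideal.mem_span_singleton_self _)
      rw [this, zero_mul])).toAlgebra
    haveI : IsScalarTower R κ C := IsScalarTower.of_algebraMap_eq fun x => rfl
    haveI : Algebra.FormallyUnramified R C := Algebra.FormallyUnramified.comp R B' C
    haveI : Algebra.FormallyUnramified κ C := Algebra.FormallyUnramified.of_restrictScalars R κ C
    haveI : Algebra.FiniteType R C := Algebra.FiniteType.trans (S := B') inferInstance inferInstance
    haveI : Algebra.FiniteType κ C := Algebra.FiniteType.of_restrictScalars_finiteType R κ C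
    have hred : IsReduced C := Algebra.FormallyUnramified.isReduced_of_field κ C
    have hrad : (Ideal.span {ϖ'}).IsRadical := (Ideal.isRadical_iff_quotient_reduced _).2 hred
    refine le_antisymm ?_ ?_
    · rw [← hrad.radical, Ideal.radical_eq_sInf]
      refine le_sInf ?_
      rintro P ⟨hP1, hP2⟩
      haveI := hP2
      have hle : P ≤ IsLocalRing.maximalIdeal B' := IsLocalRing.le_maximalIdeal hP2.ne_top
      have e1 : ∀ Q : Ideal B', Q.IsPrime → ϖ' ∈ Q → Ideal.under R Q = Ideal.span {ϖ} := by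
        intro Q hQ hQ'
        haveI : (Ideal.under R Q).IsPrime := hQ.under R
        refine (hmax.eq_of_le (Ideal.IsPrime.ne_top inferInstance) ?_).symm
        rw [Ideal.span_singleton_le_iff_mem]
        exact hQ'
      have e2 : P = IsLocalRing.maximalIdeal B' := Algebra.QuasiFinite.eq_of_le_of_under_eq (R := R) P _ hle (by
        rw [e1 P hP2 (hP1 (Ideal.mem_span_singleton_self _)), e1 _ inferInstance hϖ'])
      exact e2.ge
    · rw [Ideal.span_singleton_le_iff_mem]; exact hϖ'
  exact dvr_of_generator hm hnzd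

end main

end K943.EtDvr
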