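import Groth.Agent.ThetaS.K943.BcMain
import Groth.Agent.ThetaS.K943.EtDvr
import Groth.Agent.AlgSp.K596.Pts

/-!
# Discrete valuation rings over a chart of an algebraic space
-/

set_option autoImplicit false
set_option linter.style.haveILetI false
set_option backward.isDefEq.respectTransparency false
set_option backward.isDefEq.respectTransparency.types false
universe v₂ u₂ w v u
open CategoryTheory CategoryTheory.Limits MonoidalCategory CartesianMonoidalCategory MonObj GrpObj AlgebraicGeometry
open Opposite Topology TopologicalSpace FibCat ThetaS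
open scoped Polynomial

namespace K943.ChartDvr

open AlgSp K943.SpNode K943.BcRing K943.BcMain

/-- A point of `Spec R` over an etale algebra. -/
theorem exists_chart_aux {R : Type u} [CommRing R] [IsDomain R] [IsDiscreteValuationRing R] {ϖ : R}
    (hϖ : Irreducible ϖ) {W : Scheme.{u}} (g : W ⟶ Spec (CommRingCat.of R)) [Etale g] [Surjective g] :
    ∃ (R' : Type u) (_ : CommRing R') (_ : IsDomain R') (_ : IsDiscreteValuationRing R') (_ : Algebra R R')
      (_ : Algebra.Etale R R'), Irreducible (algebraMap R R' ϖ) ∧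
        ∃ m : Spec (CommRingCat.of R') ⟶ W, m ≫ g = jj R R' := by
  let z : Spec (CommRingCat.of R) := ⟨IsLocalRing.maximalIdeal R, inferInstance⟩
  obtain ⟨w, hw⟩ := g.surjective z
  obtain ⟨_, ⟨V, hV, rfl⟩, hwV, -⟩ := W.isBasis_affineOpens.exists_subset_of_mem_open (Set.mem_univ w) isOpen_univ
  let φ : CommRingCat.of R ⟶ Γ(W, V) := Spec.preimage (hV.fromSpec ≫ g)
  have hφ : Spec.map φ = hV.fromSpec ≫ g := Spec.map_preimage _
  haveI : Etale (Spec.map φ) := by rw [hφ]; infer_instance
  letI : Algebra R Γ(W, V) := φ.hom.toAlgebra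
  haveI : Algebra.Etale R Γ(W, V) := (HasRingHomProperty.Spec_iff (P := @Etale)).1 (inferInstance : Etale (Spec.map φ))
  obtain ⟨n, hn⟩ : ∃ n : Spec Γ(W, V), hV.fromSpec n = w := by
    have : w ∈ Set.range hV.fromSpec := by rw [hV.range_fromSpec]; exact hwV
    exact this
  have hnz : Spec.map φ n = z := by
    rw [hφ]
    change g (hV.fromSpec n) = z
    rw [hn, hw]
  have hn' : algebraMap R Γ(W, V) ϖ ∈ n.asIdeal := by
    have h1 : ϖ ∈ (Spec.map φ n).asIdeal := by
      rw [hnz]
      exact (IsLocalRing.mem_maximalIdeal _).2 hϖ.not_isUnit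
    exact h1
  obtain ⟨f, -, h1, h2, h3⟩ := K943.EtDvr.exists_dvr hϖ n.asIdeal hn'
  refine ⟨Localization.Away f, inferInstance, h1, h2, inferInstance,
    Algebra.Etale.comp R Γ(W, V) (Localization.Away f), h3,
    Spec.map (CommRingCat.ofHom (algebraMap Γ(W, V) (Localization.Away f))) ≫ hV.fromSpec, ?_⟩
  rw [Category.assoc, ← hφ]
  change Spec.map _ ≫ Spec.map (CommRingCat.ofHom (algebraMap R Γ(W, V))) = Spec.map _
  rw [← Spec.map_comp, ← CommRingCat.ofHom_comp, ← IsScalarTower.algebraMap_eq]

/-- After an etale extension of discrete valuation rings a point of `M` lifts to a chart. -/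
theorem exists_chart_dvr {S : Scheme.{u}} {M : Sp S} {U : Over S} (u : (yon S).obj U ⟶ M) (hu : RepWith @Etale u)
    (hus : IsSurjectiveMor u) {R : Type u} [CommRing R] [IsDomain R] [IsDiscreteValuationRing R] {ϖ : R}
    (hϖ : Irreducible ϖ) (h₀ : Spec (CommRingCat.of R) ⟶ S) (c : (yon S).obj (B0 h₀) ⟶ M) :
    ∃ (R' : Type u) (_ : CommRing R') (_ : IsDomain R') (_ : IsDiscreteValuationRing R') (_ : Algebra R R')
      (_ : Algebra.Etale R R'), Irreducible (algebraMap R R' ϖ) ∧
        ∃ m : B0 (jj R R' ≫ h₀) ⟶ U, (yon S).map m ≫ u = (yon S).map (bb h₀ (jj R R' ≫ h₀) rfl) ≫ c := by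
  have hs : RepWith @Surjective u := (K596.Pts.repWith_surjective_iff hu.1).2 hus
  obtain ⟨W, g, s, hsq⟩ := hu.rep c
  obtain ⟨t, rfl⟩ := (yon S).map_surjective s
  haveI : Etale g.left := hu.2 c _ g hsq
  haveI : Surjective g.left := hs.2 c _ g hsq
  obtain ⟨R', _, _, _, _, _, h1, m, hm⟩ := exists_chart_aux hϖ (W := W.left) g.left
  refine ⟨R', inferInstance, inferInstance, inferInstance, inferInstance, inferInstance, h1, ?_⟩
  have hm' : m ≫ g.left = jj R R' := hm
  let m₁ : B0 (jj R R' ≫ h₀) ⟶ W := Over.homMk m (by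
    have h2 : g.left ≫ (B0 h₀).hom = W.hom := Over.w g
    change m ≫ W.hom = 𝟙 _ ≫ jj R R' ≫ h₀
    rw [← h2, ← Category.assoc, hm']
    change jj R R' ≫ 𝟙 _ ≫ h₀ = _
    rw [Category.id_comp, Category.id_comp])
  have h3 : m₁ ≫ g = bb h₀ (jj R R' ≫ h₀) rfl := Over.OverMorphism.ext hm'
  refine ⟨m₁ ≫ t, ?_⟩
  rw [Functor.map_comp, Category.assoc, hsq.w, ← Category.assoc, ← Functor.map_comp, h3]

/-- The base change of schemes along an etale extension of discrete valuation rings is an fppf covering. -/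
theorem surjective_jj {R R' : Type u} [CommRing R] [IsDomain R] [IsDiscreteValuationRing R] [CommRing R'] [IsDomain R']
    [IsDiscreteValuationRing R'] [Algebra R R'] [Algebra.Etale R R'] {ϖ : R} (hϖ : Irreducible ϖ)
    (hϖ' : Irreducible (algebraMap R R' ϖ)) : Surjective (jj R R') := by
  haveI : IsLocalHom (algebraMap R R') := by
    refine ⟨fun a ha => ?_⟩
    by_contra hcon
    have h1 : a ∈ IsLocalRing.maximalIdeal R := hcon
    rw [(IsDiscreteValuationRing.irreducible_iff_uniformizer ϖ).1 hϖ, Ideal.mem_span_singleton] at h1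
    obtain ⟨b, rfl⟩ := h1
    rw [map_mul] at ha
    exact hϖ'.not_isUnit (isUnit_of_mul_isUnit_left ha)
  haveI : Module.FaithfullyFlat R R' := Module.FaithfullyFlat.of_flat_of_isLocalHom
  refine ⟨?_⟩
  exact PrimeSpectrum.comap_surjective_of_faithfullyFlat

instance etale_jj {R R' : Type u} [CommRing R] [CommRing R'] [Algebra R R'] [Algebra.Etale R R'] : Etale (jj R R') := by
  rw [HasRingHomProperty.Spec_iff (P := @Etale)]
  change (algebraMap R R').Etale
  rw [RingHom.etale_algebraMap]
  infer_instance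

end K943.ChartDvr
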