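import Groth.Agent.ThetaS.K943.SecExt

/-!
# Sections of quasi-coherent modules determined on `D(α) ∪ D(β)`
-/

set_option autoImplicit false
universe u

open CategoryTheory CategoryTheory.Limits AlgebraicGeometry TopologicalSpace Opposite
open Groth.Agent.Fdesc.QCohStalk

namespace K943.PushSec

open K943.Depth2 K943.SecExt

variable {Y : Scheme.{u}} {E : Y.Modules}

theorem exists_glue₂ {U V : Y.Opens} (s : Γ(E, U)) (t : Γ(E, V))
    (h : rs E (inf_le_left : U ⊓ V ≤ U) s = rs E (inf_le_right : U ⊓ V ≤ V) t) :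
    ∃ r : Γ(E, U ⊔ V), rs E (le_sup_left : U ≤ U ⊔ V) r = s ∧ rs E (le_sup_right : V ≤ U ⊔ V) r = t := by
  let ι : Bool → Y.Opens := fun b => match b with
    | true => U
    | false => V
  have hι : U ⊔ V ≤ iSup ι := sup_le (le_iSup ι true) (le_iSup ι false)
  let sf : ∀ b : Bool, Γ(E, ι b) := fun b => match b with
    | true => s
    | false => t
  let iUV : ∀ b : Bool, ι b ⟶ U ⊔ V := fun b => match b with
    | true => homOfLE le_sup_left
    | false => homOfLE le_sup_right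
  obtain ⟨r, hr, -⟩ := TopCat.Sheaf.existsUnique_gluing' ⟨E.presheaf, E.isSheaf⟩ ι (U ⊔ V) iUV hι sf (by
    rintro (_ | _) (_ | _)
    · rfl
    · have := congrArg (E.presheaf.map (homOfLE (le_of_eq (inf_comm V U)) : V ⊓ U ⟶ U ⊓ V).op) h
      rw [← ConcreteCategory.comp_apply, ← ConcreteCategory.comp_apply, ← Functor.map_comp,
        ← Functor.map_comp] at this
      exact this.symm
    · exact h
    · rfl)
  exact ⟨r, hr true, hr false⟩

theorem rs_sub {U V : Y.Opens} (h : V ≤ U) (s t : Γ(E, U)) : rs E h (s - t) = rs E h s - rs E h t :=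
  map_sub _ _ _

theorem rs_zero {U V : Y.Opens} (h : V ≤ U) : rs E h (0 : Γ(E, U)) = 0 := map_zero _

theorem rs_add {U V : Y.Opens} (h : V ≤ U) (s t : Γ(E, U)) : rs E h (s + t) = rs E h s + rs E h t :=
  map_add _ _ _

variable {W : Y.Opens} (α β : Γ(Y, W))

/-- `Hart` on the sections over `W`, when the sections over `W` are those over `D(α) ∪ D(β)` and the property
holds over `D(α)`, `D(β)` and `D(α) ∩ D(β)`. -/
theorem hart_of_push (hle : Y.basicOpen α ⊔ Y.basicOpen β ≤ W) (hb : Function.Bijective (rs E hle))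
    (hα : Hart (rf (Y.basicOpen_le α) α) (rf (Y.basicOpen_le α) β) Γ(E, Y.basicOpen α))
    (hβ : Hart (rf (Y.basicOpen_le β) α) (rf (Y.basicOpen_le β) β) Γ(E, Y.basicOpen β))
    (hαβ : ∀ s : Γ(E, Y.basicOpen α ⊓ Y.basicOpen β),
      rf ((inf_le_left : Y.basicOpen α ⊓ Y.basicOpen β ≤ _).trans (Y.basicOpen_le α)) α • s = 0 → s = 0) :
    Hart α β Γ(E, W) := by
  have iα : Y.basicOpen α ≤ W := Y.basicOpen_le α
  have iβ : Y.basicOpen β ≤ W := Y.basicOpen_le β
  have key : ∀ s : Γ(E, W), rs E iα s = 0 → rs E iβ s = 0 → s = 0 := by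
    intro s h1 h2
    apply hb.1
    refine ext₂ (le_sup_left : Y.basicOpen α ≤ _) (le_sup_right : Y.basicOpen β ≤ _) le_rfl ?_ ?_
    · rw [rs_rs, rs_rs, h1, rs_zero]
    · rw [rs_rs, rs_rs, h2, rs_zero]
  refine ⟨fun s hs => key s ?_ ?_, fun s hs => key s ?_ ?_, fun x y e => ?_⟩
  · exact hα.reg₁ _ (by rw [← rs_smul, hs, rs_zero])
  · exact hβ.reg₁ _ (by rw [← rs_smul, hs, rs_zero])
  · exact hα.reg₂ _ (by rw [← rs_smul, hs, rs_zero])
  · exact hβ.reg₂ _ (by rw [← rs_smul, hs, rs_zero])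
  · obtain ⟨z₁, hz₁⟩ := hα.ex (rs E iα x) (rs E iα y) (by rw [← rs_smul, ← rs_smul, e])
    obtain ⟨z₂, hz₂⟩ := hβ.ex (rs E iβ x) (rs E iβ y) (by rw [← rs_smul, ← rs_smul, e])
    have h1 : rs E (inf_le_left : Y.basicOpen α ⊓ Y.basicOpen β ≤ _) z₁ = rs E inf_le_right z₂ := by
      rw [← sub_eq_zero]
      apply hαβ
      have e1 := congrArg (rs E (inf_le_left : Y.basicOpen α ⊓ Y.basicOpen β ≤ _)) hz₁
      have e2 := congrArg (rs E (inf_le_right : Y.basicOpen α ⊓ Y.basicOpen β ≤ _)) hz₂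
      rw [rs_rs, rs_smul, rf_rf] at e1 e2
      rw [smul_sub, ← e1, ← e2, sub_self]
    obtain ⟨z', h2, h3⟩ := exists_glue₂ z₁ z₂ h1
    obtain ⟨z, hz⟩ := hb.2 z'
    refine ⟨z, sub_eq_zero.1 (key _ ?_ ?_)⟩
    · rw [rs_sub, sub_eq_zero, hz₁, rs_smul, ← h2, ← hz, rs_rs]
    · rw [rs_sub, sub_eq_zero, hz₂, rs_smul, ← h3, ← hz, rs_rs]

/-- A module with finitely generated sections over `D(β)` is generated up to powers of `β` by finitely many sections. -/
theorem exists_finset (hE : Coh.IsQCoh E) (hW : IsAffineOpen W)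
    (hf : Module.Finite Γ(Y, Y.basicOpen β) Γ(E, Y.basicOpen β)) :
    ∃ S : Finset Γ(E, W), ∀ m : Γ(E, W), ∃ l : ℕ, β ^ l • m ∈ Submodule.span Γ(Y, W) (S : Set Γ(E, W)) := by
  classical
  have iβ : Y.basicOpen β ≤ W := Y.basicOpen_le β
  obtain ⟨T, hT⟩ := hf.fg_top
  have h1 : ∀ t : Γ(E, Y.basicOpen β), ∃ (n : ℕ) (s : Γ(E, W)), rs E iβ s = rf iβ β ^ n • t :=
    fun t => exists_map_eq_pow_smul E hW hE β t
  choose n s hs using h1
  refine ⟨T.image s, ?_⟩
  have h2 : ∀ y : Γ(E, Y.basicOpen β), y ∈ Submodule.span Γ(Y, Y.basicOpen β) (T : Set Γ(E, Y.basicOpen β)) →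
      ∃ (l : ℕ) (w : Γ(E, W)), w ∈ Submodule.span Γ(Y, W) ((T.image s : Finset Γ(E, W)) : Set Γ(E, W)) ∧
        rs E iβ w = rf iβ β ^ l • y := by
    intro y hy
    induction hy using Submodule.span_induction with
    | mem t ht => exact ⟨n t, s t, Submodule.subset_span (by simpa using ⟨t, ht, rfl⟩), hs t⟩
    | zero => exact ⟨0, 0, Submodule.zero_mem _, by rw [rs_zero, smul_zero]⟩
    | add x y _ _ hx hy =>
      obtain ⟨l, w, hw, e⟩ := hx
      obtain ⟨l', w', hw', e'⟩ := hy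
      refine ⟨l + l', β ^ l' • w + β ^ l • w', Submodule.add_mem _ (Submodule.smul_mem _ _ hw)
        (Submodule.smul_mem _ _ hw'), ?_⟩
      rw [rs_add, rs_smul, rs_smul, e, e', rf_pow, rf_pow, smul_smul, smul_smul, ← pow_add, ← pow_add,
        Nat.add_comm l' l, smul_add]
    | smul c x _ hx =>
      obtain ⟨l, w, hw, e⟩ := hx
      have h3 : ∃ (k : ℕ) (b : Γ(Y, W)), rf iβ b = rf iβ β ^ k * c := by
        have := hW.isLocalization_basicOpen β
        obtain ⟨⟨b, ⟨_, k, rfl⟩⟩, hb⟩ := IsLocalization.surj (Submonoid.powers β) c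
        refine ⟨k, b, ?_⟩
        have hb' : c * rf iβ (β ^ k) = rf iβ b := hb
        rw [← hb', rf_pow, mul_comm]
      obtain ⟨k, b, hb⟩ := h3
      refine ⟨k + l, b • w, Submodule.smul_mem _ _ hw, ?_⟩
      rw [rs_smul, e, hb, smul_smul, smul_smul, pow_add]
      congr 1
      ring
  intro m
  obtain ⟨l, w, hw, e⟩ := h2 (rs E iβ m) (by rw [hT]; trivial)
  have h3 : rs E iβ (β ^ l • m - w) = 0 := by
    rw [rs_sub, rs_smul, e, rf_pow, sub_self]
  obtain ⟨k, hk⟩ := exists_pow_smul_eq_zero E hW hE β _ h3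
  refine ⟨k + l, ?_⟩
  rw [smul_sub, sub_eq_zero] at hk
  rw [pow_add, mul_smul, hk]
  exact Submodule.smul_mem _ _ hw

end K943.PushSec
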