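import Groth.Agent.ThetaS.K943.OpenCart
import Groth.Agent.ThetaS.K943.PushSec
import Groth.Agent.Ega3B.FlatRestrict
import Groth.Agent.Fdesc.Skyscraper
import Groth.Agent.CohqA.FinSec
import Groth.Agent.PerfC.FPSections
import Groth.Agent.Ega1.QcqsPush
import Groth.Agent.Models2.FPCoh
import Mathlib.AlgebraicGeometry.Noetherian

/-!
# Push-forwards of coherent modules flat over the complement of a codimension-two point

`T` affine Noetherian, `a, b` a regular sequence generating a maximal ideal, `q : X ⟶ T` locally Noetherian,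
`j` the base change of `g : T' ⟶ T` with range `D(a) ∪ D(b)`, `F` coherent on `X'` and flat over `T'`.
If `j_* F` agrees over `D(a)` with a coherent module flat over `T` then `j_* F` is coherent and flat over `T`.
-/

set_option autoImplicit false
universe u

open CategoryTheory CategoryTheory.Limits AlgebraicGeometry TopologicalSpace Opposite
open Groth.Agent.Fdesc.QCohStalk Groth.Agent.Flat2C.FlatSec

namespace K943.PushCoh

open K943.Depth2 K943.SecExt K943.OpenCart K943.PushSec

section Iso

theorem isFlatOverAt_of_iso {X Y : Scheme.{u}} (f : X ⟶ Y) {F G : X.Modules} (e : F ≅ G) (x : X)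
    (h : FlatMod.IsFlatOverAt f F x) : FlatMod.IsFlatOverAt f G x := by
  let := FlatMod.moduleStalkOver f F x
  let := FlatMod.moduleStalkOver f G x
  exact Groth.Agent.Ega3B.FlatRestrict.flat_of_semilinear (RingEquiv.refl _)
    (Groth.Agent.Fdesc.Skyscraper.stalkIso e x).toAddEquiv
    (fun r m => (Groth.Agent.Fdesc.Skyscraper.stalkIso e x).map_smul ((f.stalkMap x).hom r) m) h

theorem isFT_of_isFP {X : Scheme.{u}} {M : X.Modules} (h : CohB1.IsFP M) :
    SheafOfModules.IsFiniteType (R := X.ringCatSheaf) M := Groth.Agent.Models2.FPCoh.isFT_of_isFP h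

end Iso

variable {X T X' T' : Scheme.{u}} {j : X' ⟶ X} {q' : X' ⟶ T'} {q : X ⟶ T} {g : T' ⟶ T}

/-- The push-forward is flat over `T` at the points of the open. -/
theorem isFlatOverAt_push (h : IsPullback j q' q g) [IsOpenImmersion g] [IsOpenImmersion j] {F : X'.Modules}
    (hF : FlatMod.IsFlatOver q' F) (y : X') :
    FlatMod.IsFlatOverAt q ((Scheme.Modules.pushforward j).obj F) (j y) := by
  rw [← Groth.Agent.Ega3B.FlatRestrict.isFlatOverAt_restrict_iff q q' j g h.w]
  exact isFlatOverAt_of_iso q' ((Scheme.Modules.restrictFunctorAdjCounitIso j).symm.app F) y (hF y)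

/-- Restriction of sections of a push-forward is bijective if the preimages agree. -/
theorem bijective_push (F : X'.Modules) {W W' : X.Opens} (hle : W' ≤ W) (h : j ⁻¹ᵁ W' = j ⁻¹ᵁ W) :
    Function.Bijective (rs ((Scheme.Modules.pushforward j).obj F) hle) := by
  have h6 : IsIso (homOfLE h.le) := by
    have h7 : IsIso (eqToHom h) := inferInstance
    have h8 : homOfLE h.le = eqToHom h := Subsingleton.elim _ _
    rw [h8]; exact h7
  exact ConcreteCategory.bijective_of_isIso (F.presheaf.map (homOfLE h.le).op)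

theorem preimage_eq_of_range [IsOpenImmersion j] {W W' : X.Opens} (hW' : W' = W ⊓ j.opensRange) :
    j ⁻¹ᵁ W' = j ⁻¹ᵁ W := by
  rw [hW']
  change j ⁻¹ᵁ W ⊓ j ⁻¹ᵁ j.opensRange = _
  rw [Scheme.Hom.preimage_opensRange, inf_top_eq]

/-- `Hart` on the sections of a quasi-coherent module which is flat over the affine base at the points of the affine
open. -/
theorem hart_sections_of_flat [IsAffine T] (q : X ⟶ T) {a b : Γ(T, ⊤)} (hab : Hart a b Γ(T, ⊤))
    {E : X.Modules} (hE : Coh.IsQCoh E) {W : X.Opens} (hW : IsAffineOpen W)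
    (hfl : ∀ x ∈ W, FlatMod.IsFlatOverAt q E x) :
    Hart (fn q a W) (fn q b W) Γ(E, W) := by
  have e : W ≤ q ⁻¹ᵁ ⊤ := le_top
  have h1 := (flat_sections_iff q E hW (isAffineOpen_top T) e hE).2 hfl
  let i1 : Module Γ(T, ⊤) Γ(E, W) := moduleOver q E e
  have i2 : Module.Flat Γ(T, ⊤) Γ(E, W) := h1
  exact (hab.of_flat Γ(E, W)).of_smul_eq (fun _ => rfl) (fun _ => rfl)

/-- Finiteness of the sections of the push-forward over opens inside the range. -/
theorem finite_push [IsOpenImmersion j] {F : X'.Modules} (hF : CohB1.IsFP F) {V : X.Opens} (hV : IsAffineOpen V) (hVj : V ≤ j.opensRange) :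
    Module.Finite Γ(X, V) Γ((Scheme.Modules.pushforward j).obj F, V) := by
  have hq : Coh.IsQCoh F := Groth.Agent.PerfC.FPSections.isQCoh_of_isFP hF
  have h1 : IsAffineOpen (j ⁻¹ᵁ V) := hV.preimage_of_isOpenImmersion j hVj
  have hft := isFT_of_isFP hF
  have h2 : Module.Finite Γ(X', j ⁻¹ᵁ V) Γ(F, j ⁻¹ᵁ V) := Groth.Agent.CohqA.FinSec.finite_sections h1 hq hft
  have h3 : Function.Surjective (j.app V).hom := by
    have : IsIso (j.app V) := Scheme.Hom.isIso_app j V hVj
    exact (ConcreteCategory.bijective_of_isIso (j.app V)).2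
  obtain ⟨s, hs⟩ := h2.fg_top
  refine ⟨⟨s, ?_⟩⟩
  rw [eq_top_iff]
  intro x _
  have key : ∀ y : Γ(F, j ⁻¹ᵁ V), y ∈ Submodule.span Γ(X', j ⁻¹ᵁ V) (s : Set Γ(F, j ⁻¹ᵁ V)) →
      (show Γ((Scheme.Modules.pushforward j).obj F, V) from y) ∈ Submodule.span Γ(X, V)
        (show Set Γ((Scheme.Modules.pushforward j).obj F, V) from (s : Set Γ(F, j ⁻¹ᵁ V))) := by
    intro y hy
    induction hy using Submodule.span_induction with
    | mem x hx => exact Submodule.subset_span hx
    | zero => exact Submodule.zero_mem _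
    | add x y _ _ hx hy => exact Submodule.add_mem _ hx hy
    | smul c x _ hx =>
      obtain ⟨c, rfl⟩ := h3 c
      exact Submodule.smul_mem _ c hx
  exact key x (by rw [hs]; trivial)

section Main

variable [IsAffine T] [IsNoetherianRing Γ(T, ⊤)] [IsLocallyNoetherian X] (h : IsPullback j q' q g)
  [IsOpenImmersion g] [IsOpenImmersion j] {a b : Γ(T, ⊤)} (hr : g.opensRange = T.basicOpen a ⊔ T.basicOpen b)
  (hab : Hart a b Γ(T, ⊤)) (hmax : (Ideal.span {a, b}).IsMaximal) {F : X'.Modules} (hF : CohB1.IsFP F)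
  (hFfl : FlatMod.IsFlatOver q' F)

include hF in
theorem isQCoh_push : Coh.IsQCoh ((Scheme.Modules.pushforward j).obj F) :=
  Groth.Agent.Ega1.QcqsPush.isQCoh_pushforward j F (Groth.Agent.PerfC.FPSections.isQCoh_of_isFP hF)

omit [IsNoetherianRing Γ(T, ⊤)] in
include h hr hab hF hFfl in
/-- `Hart` on the sections of the push-forward over affine opens. -/
theorem hart_push {W : X.Opens} (hW : IsAffineOpen W) :
    Hart (fn q a W) (fn q b W) Γ((Scheme.Modules.pushforward j).obj F, W) := by
  have hE := isQCoh_push (j := j) hF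
  have hj : j.opensRange = q ⁻¹ᵁ T.basicOpen a ⊔ q ⁻¹ᵁ T.basicOpen b := by
    rw [opensRange_eq h, hr]; rfl
  have hfl : ∀ x ∈ j.opensRange, FlatMod.IsFlatOverAt q ((Scheme.Modules.pushforward j).obj F) x := by
    rintro _ ⟨y, rfl⟩
    exact isFlatOverAt_push h hFfl y
  have key : ∀ V : X.Opens, IsAffineOpen V → V ≤ j.opensRange →
      Hart (fn q a V) (fn q b V) Γ((Scheme.Modules.pushforward j).obj F, V) := fun V hV hVj =>
    hart_sections_of_flat q hab hE hV fun x hx => hfl x (hVj hx)
  have ha : X.basicOpen (fn q a W) ≤ j.opensRange := by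
    rw [basicOpen_fn, hj]; exact inf_le_right.trans le_sup_left
  have hb : X.basicOpen (fn q b W) ≤ j.opensRange := by
    rw [basicOpen_fn, hj]; exact inf_le_right.trans le_sup_right
  have hle : X.basicOpen (fn q a W) ⊔ X.basicOpen (fn q b W) ≤ W := sup_le (X.basicOpen_le _) (X.basicOpen_le _)
  refine hart_of_push _ _ hle (bijective_push F hle (preimage_eq_of_range ?_)) ?_ ?_ ?_
  · rw [hj, basicOpen_fn, basicOpen_fn, inf_sup_left]
  · rw [rf_fn, rf_fn]; exact key _ (hW.basicOpen _) ha
  · rw [rf_fn, rf_fn]; exact key _ (hW.basicOpen _) hb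
  · have h1 : IsAffineOpen (X.basicOpen (fn q a W) ⊓ X.basicOpen (fn q b W)) := by
      rw [← Scheme.basicOpen_mul]; exact hW.basicOpen _
    have h2 := key _ h1 (inf_le_left.trans ha)
    intro s hs
    rw [rf_fn] at hs
    exact h2.reg₁ s hs

variable {N : X.Modules} (hN : CohB1.IsFP N) (hNfl : FlatMod.IsFlatOver q N) {Xa : Scheme.{u}} {ja : Xa ⟶ X}
  [IsOpenImmersion ja] (hja : ja.opensRange = q ⁻¹ᵁ T.basicOpen a) {G : Xa.Modules}
  (cN : N ⟶ (Scheme.Modules.pushforward ja).obj G) (hcN : ModSt.IsCart ja cN)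
  (cF : (Scheme.Modules.pushforward j).obj F ⟶ (Scheme.Modules.pushforward ja).obj G) (hcF : ModSt.IsCart ja cF)

omit [IsNoetherianRing Γ(T, ⊤)] in
include h hr hab hF hFfl hN hNfl hja hcN hcF in
/-- Finiteness of the sections of the push-forward over affine opens. -/
theorem finite_sections {W : X.Opens} (hW : IsAffineOpen W) :
    Module.Finite Γ(X, W) Γ((Scheme.Modules.pushforward j).obj F, W) := by
  have hE := isQCoh_push (j := j) hF
  have hNq : Coh.IsQCoh N := Groth.Agent.PerfC.FPSections.isQCoh_of_isFP hN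
  have hj : j.opensRange = q ⁻¹ᵁ T.basicOpen a ⊔ q ⁻¹ᵁ T.basicOpen b := by
    rw [opensRange_eq h, hr]; rfl
  have hft := isFT_of_isFP hN
  have : IsNoetherianRing Γ(X, W) := IsLocallyNoetherian.component_noetherian ⟨W, hW⟩
  have hNfin : Module.Finite Γ(X, W) Γ(N, W) := Groth.Agent.CohqA.FinSec.finite_sections hW hNq hft
  have hNH : Hart (fn q a W) (fn q b W) Γ(N, W) := hart_sections q hab hNq hNfl hW
  have hEH := hart_push h hr hab hF hFfl hW
  have hb : X.basicOpen (fn q b W) ≤ j.opensRange := by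
    rw [basicOpen_fn, hj]; exact inf_le_right.trans le_sup_right
  obtain ⟨S, hS⟩ := exists_finset (fn q b W) hE hW (finite_push hF (hW.basicOpen _) hb)
  set α := fn q a W with hα
  set Wa := X.basicOpen α with hWa
  have iα : Wa ≤ W := X.basicOpen_le α
  have hWa' : Wa = W ⊓ ja.opensRange := by rw [hja, hWa, hα, basicOpen_fn]
  have hWaja : Wa ≤ ja.opensRange := by rw [hWa']; exact inf_le_right
  have bG : Function.Bijective (rs ((Scheme.Modules.pushforward ja).obj G) iα) :=
    bijective_push G iα (preimage_eq_of_range hWa')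
  have bN : Function.Bijective (cN.app Wa) := bijective_app ja cN hcN hWaja
  have bF : Function.Bijective (cF.app Wa) := bijective_app ja cF hcF hWaja
  have natN : ∀ s, cN.app Wa (rs N iα s) = rs ((Scheme.Modules.pushforward ja).obj G) iα (cN.app W s) :=
    fun s => Groth.Agent.CohqA.PullbackSections.app_map cN iα s
  have natF : ∀ s, cF.app Wa (rs ((Scheme.Modules.pushforward j).obj F) iα s) =
      rs ((Scheme.Modules.pushforward ja).obj G) iα (cF.app W s) :=
    fun s => Groth.Agent.CohqA.PullbackSections.app_map cF iα s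
  have inj : ∀ {E : X.Modules} (c : E ⟶ (Scheme.Modules.pushforward ja).obj G) (_ : Coh.IsQCoh E)
      (_ : Hart α (fn q b W) Γ(E, W)) (_ : Function.Injective (c.app Wa)), Function.Injective (c.app W) := by
    intro E c hE hH hc s t e
    have e1 : rs E iα s = rs E iα t := by
      apply hc
      have n1 : c.app Wa (rs E iα s) = rs ((Scheme.Modules.pushforward ja).obj G) iα (c.app W s) :=
        Groth.Agent.CohqA.PullbackSections.app_map c iα s
      have n2 : c.app Wa (rs E iα t) = rs ((Scheme.Modules.pushforward ja).obj G) iα (c.app W t) :=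
        Groth.Agent.CohqA.PullbackSections.app_map c iα t
      rw [n1, n2]; exact congrArg _ e
    have e2 : rs E iα (s - t) = 0 := by rw [rs_sub, e1, sub_self]
    obtain ⟨n, hn⟩ := exists_pow_smul_eq_zero E hW hE α _ e2
    exact sub_eq_zero.1 (hH.reg₁_pow n _ hn)
  have hu := (isUnit_rf W α (le_refl Wa))
  let ι : Γ(N, W) →ₗ[Γ(X, W)] Γ((Scheme.Modules.pushforward ja).obj G, W) :=
    { (cN.app W).hom with map_smul' := fun r x => Scheme.Modules.Hom.app_smul cN r x }
  let u : Γ((Scheme.Modules.pushforward j).obj F, W) →ₗ[Γ(X, W)] Γ((Scheme.Modules.pushforward ja).obj G, W) :=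
    { (cF.app W).hom with map_smul' := fun r x => Scheme.Modules.Hom.app_smul cF r x }
  refine finite_of_hart (α := α) (β := fn q b W) hNH ι (inj cN hNq hNH bN.1) ?_ u (inj cF hE hEH bF.1) ?_ S hS
  · intro p hp
    apply bG.1
    rw [rs_zero]
    apply hu.smul_left_cancel.1
    have e1 : rs ((Scheme.Modules.pushforward ja).obj G) iα (α • p) = 0 := by rw [hp, rs_zero]
    rw [rs_smul] at e1
    exact e1.trans (smul_zero _).symm
  · intro m
    obtain ⟨l, hl⟩ := bN.2 (rs ((Scheme.Modules.pushforward ja).obj G) iα (cF.app W m))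
    obtain ⟨k, n, hn⟩ := exists_map_eq_pow_smul N hW hNq α l
    change rs N iα n = rf iα α ^ k • l at hn
    refine ⟨k, n, bG.1 ?_⟩
    change rs _ iα (α ^ k • (cF.app W m)) = rs _ iα (cN.app W n)
    rw [rs_smul, ← natN, hn, rf_pow, ← hl]
    exact (Scheme.Modules.Hom.app_smul cN (rf iα α ^ k) l).symm

include h hr hab hmax hF hFfl hN hNfl hja hcN hcF in
/-- The push-forward is coherent and flat over the base. -/
theorem isCoh_push : FlatMod.IsFlatOver q ((Scheme.Modules.pushforward j).obj F) ∧
    CohB1.IsFP ((Scheme.Modules.pushforward j).obj F) := by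
  have hE := isQCoh_push (j := j) hF
  have hj : j.opensRange = q ⁻¹ᵁ T.basicOpen a ⊔ q ⁻¹ᵁ T.basicOpen b := by
    rw [opensRange_eq h, hr]; rfl
  have hfin := fun {W : X.Opens} (hW : IsAffineOpen W) =>
    finite_sections h hr hab hF hFfl hN hNfl hja cN hcN cF hcF hW
  constructor
  · intro x
    by_cases hx : x ∈ j.opensRange
    · obtain ⟨y, rfl⟩ := hx
      exact isFlatOverAt_push h hFfl y
    · obtain ⟨_, ⟨W, hW, rfl⟩, hxW, -⟩ := X.isBasis_affineOpens.exists_subset_of_mem_open
        (Set.mem_univ x) isOpen_univ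
      have e : W ≤ q ⁻¹ᵁ ⊤ := le_top
      rw [isFlatOverAt_iff_flatAt q _ hW (isAffineOpen_top T) e hE x hxW]
      let i1 : Algebra Γ(T, ⊤) Γ(X, W) := algebraOver q e
      let i2 : Module Γ(T, ⊤) Γ((Scheme.Modules.pushforward j).obj F, W) := moduleOver q _ e
      have i3 : IsScalarTower Γ(T, ⊤) Γ(X, W) Γ((Scheme.Modules.pushforward j).obj F, W) :=
        isScalarTower_over q _ e
      have : IsNoetherianRing Γ(X, W) := IsLocallyNoetherian.component_noetherian ⟨W, hW⟩
      have := hfin hW
      have hH : Hart a b Γ((Scheme.Modules.pushforward j).obj F, W) :=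
        (hart_push h hr hab hF hFfl hW).of_smul_eq (fun _ => rfl) (fun _ => rfl)
      refine flatAt_of_hart hmax hH _ ?_
      rw [Ideal.map_span, Ideal.span_le]
      have hmem : ∀ c : Γ(T, ⊤), x ∉ q ⁻¹ᵁ T.basicOpen c →
          algebraMap Γ(T, ⊤) Γ(X, W) c ∈ (hW.primeIdealOf ⟨x, hxW⟩).asIdeal := by
        intro c hc
        by_contra hcon
        have h1 := (mem_basicOpen_iff hW x hxW (fn q c W)).2 hcon
        rw [basicOpen_fn] at h1
        exact hc h1.2
      rw [hj] at hx
      rintro _ ⟨c, hc, rfl⟩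
      rcases hc with rfl | hc
      · exact hmem _ fun h => hx (Or.inl h)
      · rw [Set.mem_singleton_iff] at hc
        subst hc
        exact hmem _ fun h => hx (Or.inr h)
  · refine Groth.Agent.CohqA.FinSec.isFP_of_finitePresentation hE fun x => ?_
    obtain ⟨_, ⟨W, hW, rfl⟩, hxW, -⟩ := X.isBasis_affineOpens.exists_subset_of_mem_open
      (Set.mem_univ x) isOpen_univ
    have : IsNoetherianRing Γ(X, W) := IsLocallyNoetherian.component_noetherian ⟨W, hW⟩
    have := hfin hW
    exact ⟨W, hW, hxW, Module.finitePresentation_of_finite _ _⟩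

end Main

end K943.PushCoh
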