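import Groth.Agent.ThetaS.K943.CohUniq
import Groth.Agent.ThetaS.K943.PushCoh

/-!
# Extension of coherent families over the complement of a codimension-two point
-/

set_option backward.isDefEq.respectTransparency false
set_option backward.isDefEq.respectTransparency.types false
set_option autoImplicit false
set_option linter.style.haveILetI false
universe u

open CategoryTheory CategoryTheory.Limits AlgebraicGeometry TopologicalSpace Opposite FibCat
open K943.OpenCart K943.Depth2 K943.LocPair K943.SelfLift K943.FamUniq K943.CohUniq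

namespace K943.CohExist

variable {X S : Scheme.{u}} {f : X ⟶ S}

/-- The extension: `v` a coherent family over the open `D(a) ∪ D(b)` of the base of `L`, agreeing with the coherent
family `L` over `D(a)`. -/
theorem exists_obj [LocallyOfFiniteType f] {v va L : ModSt.Obj f} (i : v.base ⟶ L.base) (la : va ⟶ L) (ta : va ⟶ v)
    (hla : ta.base ≫ i = la.base) [IsAffine L.base.left] [IsNoetherianRing Γ(L.base.left, ⊤)]
    [IsOpenImmersion i.left] [IsOpenImmersion la.base.left] {a b : Γ(L.base.left, ⊤)}
    (hr : i.left.opensRange = L.base.left.basicOpen a ⊔ L.base.left.basicOpen b)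
    (hra : la.base.left.opensRange = L.base.left.basicOpen a)
    (hab : Hart a b Γ(L.base.left, ⊤)) (hmax : (Ideal.span {a, b}).IsMaximal)
    (hv : ModSt.IsCohObj v) (hL : ModSt.IsCohObj L) :
    ∃ (x : ModSt.Obj f) (_ : ModSt.IsCohObj x) (hx : x.base = L.base) (t : v ⟶ x), t.base = i ≫ eqToHom hx.symm := by
  have hw : v.p ≫ f = (v.q ≫ i.left) ≫ L.base.hom := by
    rw [Category.assoc, Over.w i]; exact v.isPullback.w
  let j : v.XT ⟶ L.XT := L.isPullback.lift v.p (v.q ≫ i.left) hw
  have hp : j ≫ L.p = v.p := L.isPullback.lift_fst _ _ _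
  have hq : j ≫ L.q = v.q ≫ i.left := L.isPullback.lift_snd _ _ _
  have hpb : IsPullback j v.q L.q i.left := by
    have h : IsPullback (j ≫ L.p) v.q f (i.left ≫ L.base.hom) := by
      rw [hp, Over.w i]; exact v.isPullback
    exact IsPullback.of_right h hq L.isPullback
  haveI hj : IsOpenImmersion j := MorphismProperty.of_isPullback hpb.flip inferInstance
  let x : ModSt.Obj f := { L with E := (Scheme.Modules.pushforward j).obj v.E }
  let t : v ⟶ x :=
    { base := i, top := j, w_p := hp, w_q := hq, c := 𝟙 _, cart := isCart_of_isIso j (𝟙 _) }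
  haveI := isOpenImmersion_top la
  have htop : (ta ≫ t).top = la.top := by
    apply L.isPullback.hom_ext
    · exact (ta ≫ t).w_p.trans la.w_p.symm
    · refine (ta ≫ t).w_q.trans ?_
      rw [la.w_q, ← hla]; rfl
  haveI : IsNoetherian L.base.left := by
    haveI : IsLocallyNoetherian L.base.left := by
      have h1 : IsLocallyNoetherian (Spec Γ(L.base.left, ⊤)) := inferInstance
      exact isLocallyNoetherian_of_isOpenImmersion L.base.left.isoSpec.hom
    constructor
  haveI : LocallyOfFiniteType L.q := MorphismProperty.of_isPullback L.isPullback inferInstance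
  haveI : IsLocallyNoetherian L.XT := LocallyOfFiniteType.isLocallyNoetherian L.q
  have hja : la.top.opensRange = L.q ⁻¹ᵁ L.base.left.basicOpen a := by
    rw [opensRange_eq la.isPullback_top, hra]
  have key : ∀ {A B : ModSt.Obj f} (φ : A ⟶ B) (τ : A.XT ⟶ B.XT) (_ : φ.top = τ),
      ∃ c : B.E ⟶ (Scheme.Modules.pushforward τ).obj A.E, ModSt.IsCart τ c := by
    rintro A B φ _ rfl
    exact ⟨φ.c, φ.cart⟩
  obtain ⟨cF, hcF⟩ := key (ta ≫ t) la.top htop
  have hx : ModSt.IsCohObj x :=
    PushCoh.isCoh_push hpb hr hab hmax hv.2 hv.1 hL.2 hL.1 hja la.c la.cart cF hcF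
  exact ⟨x, hx, rfl, t, (Category.comp_id _).symm⟩

end K943.CohExist
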