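import Groth.Agent.ThetaS.K943.CohExist
import Groth.Agent.ThetaS.K943.QuotOpen

/-!
# Lifting squares of the stack of coherent sheaves against open substacks of quotient stacks
-/

set_option backward.isDefEq.respectTransparency false
set_option backward.isDefEq.respectTransparency.types false
set_option autoImplicit false
set_option linter.style.haveILetI false
universe w v u

open CategoryTheory CategoryTheory.Limits AlgebraicGeometry TopologicalSpace Opposite FibCat
open K943.OpenCart K943.Depth2 K943.LocPair K943.SelfLift K943.FamUniq K943.CohUniq K943.CohExist K943.FibBase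
  K943.QuotOpen K943.QuotAtlas K943.CoverExt K943.LocLift K943.QuotCover

namespace K943.CohQuot

section Ext

variable {X S : Scheme.{u}} {f : X ⟶ S}

/-- Extension in terms of lifts. -/
theorem exists_ext [LocallyOfFiniteType f] {T V Va : Over S} (i : V ⟶ T) (ia : Va ⟶ V) [IsAffine T.left]
    [IsNoetherianRing Γ(T.left, ⊤)] [IsOpenImmersion i.left] [IsOpenImmersion (ia ≫ i).left] {a b : Γ(T.left, ⊤)}
    (hr : i.left.opensRange = T.left.basicOpen a ⊔ T.left.basicOpen b)
    (hra : (ia ≫ i).left.opensRange = T.left.basicOpen a)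
    (hab : Hart a b Γ(T.left, ⊤)) (hmax : (Ideal.span {a, b}).IsMaximal)
    {v va L : (ModSt.Coh f).obj} (la : va ⟶ L) (ta : va ⟶ v) (hla : (ModSt.Coh f).p.IsHomLift (ia ≫ i) la)
    (hta : (ModSt.Coh f).p.IsHomLift ia ta) :
    ∃ (x : (ModSt.Coh f).obj) (t : v ⟶ x), (ModSt.Coh f).p.IsHomLift i t := by
  have e1 : (ModSt.Coh f).p.obj L = T := IsHomLift.codomain_eq (ModSt.Coh f).p (ia ≫ i) la
  have e2 : (ModSt.Coh f).p.obj va = Va := IsHomLift.domain_eq (ModSt.Coh f).p ia ta
  have e3 : (ModSt.Coh f).p.obj v = V := IsHomLift.codomain_eq (ModSt.Coh f).p ia ta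
  subst e1 e2 e3
  have h1 : ta.hom.base = ia := (IsHomLift.eq_of_isHomLift (ModSt.Coh f).p ia ta).symm
  subst h1
  have h2 : ta.hom.base ≫ i = la.hom.base :=
    (IsHomLift.eq_of_isHomLift (ModSt.Coh f).p (ta.hom.base ≫ i) la)
  haveI : IsOpenImmersion la.hom.base.left := by rw [← h2]; assumption
  have hra' : la.hom.base.left.opensRange = L.obj.base.left.basicOpen a := by
    have : ∀ (m : va.obj.base ⟶ L.obj.base) (_ : ta.hom.base ≫ i = m) [IsOpenImmersion m.left],
        m.left.opensRange = L.obj.base.left.basicOpen a := by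
      rintro m rfl _; exact hra
    exact this _ h2
  haveI : IsAffine L.obj.base.left := ‹IsAffine _›
  haveI : IsNoetherianRing Γ(L.obj.base.left, ⊤) := ‹IsNoetherianRing _›
  obtain ⟨x, hx, hxL, t, ht⟩ := exists_obj (L := L.obj) i la.hom ta.hom h2 hr hra' hab hmax v.property L.property
  refine ⟨⟨x, hx⟩, ObjectProperty.homMk t, ?_⟩
  obtain ⟨xb, XT, p, q, hpb, E⟩ := x
  change xb = L.obj.base at hxL
  subst hxL
  have ht' : i = t.base := by rw [ht]; exact (Category.comp_id _).symm
  rw [ht']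
  exact IsHomLift.map (ModSt.Coh f).p (ObjectProperty.homMk t : v ⟶ (⟨_, hx⟩ : (ModSt.Coh f).obj))

end Ext

section Quot

variable {S' S : Scheme.{u}} (h : S' ⟶ S) {G : Over S'} [GrpObj G] {X : Over S'} {aX : AlgGrp.Action G X}
  {K : Precoverage Scheme.{u}} [K.HasIsos] [K.IsStableUnderBaseChange] {U : X.left.Opens} (hU : Stable aX U)
  {C : Scheme.{u}} {f : C ⟶ S} [IsAffine X.left]
  {a b : Γ(X.left, ⊤)} (hUab : U = X.left.basicOpen a ⊔ X.left.basicOpen b) (hab : Hart a b Γ(X.left, ⊤))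

omit [K.HasIsos] [K.IsStableUnderBaseChange] [GrpObj G] in
include hUab hab in
theorem uniqFlat_sub (Q : ModSt.Obj f → Prop) (hQ : ∀ x, Q x → ModSt.IsQCohObj x) :
    UniqFlat h U (toSelf (AlgSt.fullSub (ModSt.Fam f) Q)) := by
  intro Y y hy hY
  haveI : IsOpenImmersion ((Over.map h).map (openMap y U)).left := by
    change IsOpenImmersion (y.left ⁻¹ᵁ U).ι; infer_instance
  haveI : IsAffine ((Over.map h).obj Y).left := hY
  refine uniqAt_sub Q hQ ((Over.map h).map (openMap y U)) (a := y.left.appTop a) (b := y.left.appTop b) ?_ ?_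
  · change (y.left ⁻¹ᵁ U).ι.opensRange = Y.left.basicOpen (y.left.appTop a) ⊔ Y.left.basicOpen (y.left.appTop b)
    rw [Scheme.Opens.opensRange_ι, hUab, ← Scheme.preimage_basicOpen_top, ← Scheme.preimage_basicOpen_top]
    rfl
  · change Hart (y.left.appTop a) (y.left.appTop b) Γ(Y.left, ⊤)
    have h1 : y.left.appTop.hom.Flat := (HasRingHomProperty.iff_of_isAffine (P := @Flat)).1 hy
    letI : Algebra Γ(X.left, ⊤) Γ(Y.left, ⊤) := y.left.appTop.hom.toAlgebra
    haveI : Module.Flat Γ(X.left, ⊤) Γ(Y.left, ⊤) := h1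
    exact (hab.of_flat Γ(Y.left, ⊤)).of_smul_eq (fun _ => rfl) (fun _ => rfl)

include hU hUab hab in
/-- The lifting property of the stack of coherent sheaves. -/
theorem liftsUniquely_coh [Flat G.hom] [IsAffineHom G.hom] [LocallyOfFiniteType f]
    [IsNoetherianRing Γ(X.left, ⊤)] (hmax : (Ideal.span {a, b}).IsMaximal)
    (hst : Stk.IsStack (QuotSh.J K S) (ModSt.Coh f)) {Ya : Over S'} (ya : Ya ⟶ X) [IsOpenImmersion ya.left]
    (hya : ya.left.opensRange = X.left.basicOpen a) {c : AlgSt.QuotObj K G aX} (hc : InU K aX U c)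
    (m : uObj K aX Ya ya ⟶ c) (r : X ⟶ c.base) (hm : ya ≫ r = m.base) :
    LiftSq.LiftsUniquely (subI (ThetaS.overS h (AlgSt.QuotSt K G aX)) (InU K aX U)) (toSelf (ModSt.Coh f)) := by
  intro sq
  haveI := hst.1
  have hpre : Stk.IsPrestack (QuotSh.J K S) (ModSt.Coh f) :=
    ⟨hst.1, fun _ R hR => prestackFor_of_stackFor (hst.2 R hR)⟩
  have hself : Stk.IsPrestack (QuotSh.J K S) (selfOver (Over S)) := isPrestack_self _
  have H : UniqFlat h U (toSelf (ModSt.Coh f)) :=
    uniqFlat_sub h hUab hab ModSt.IsCohObj fun x hx => isQCohObj_of_isCohObj hx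
  refine ⟨hasLift_quot h hU hst hself H sq ?_, uniqLift_quot h hU hpre hself H sq⟩
  let ℬ := ThetaS.overS h (AlgSt.QuotSt K G aX)
  -- the objects
  have hva : InU K aX U (uObj K aX Ya ya) := closedInto_inU h U m hc
  let va : (sub ℬ (InU K aX U)).obj := ⟨uObj K aX Ya ya, hva⟩
  let cc : (sub ℬ (InU K aX U)).obj := ⟨c, hc⟩
  let v := vObj (K := K) h hU (𝟙 X)
  let k : v.obj ⟶ u0 K aX := uMap (K := K) (aX := aX) (openMap (𝟙 X) U) rfl
  have hk : IsQTerm (ℬ := ℬ) (Q := InU K aX U) v k := isQTerm h hU (𝟙 X)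
  obtain ⟨n, hn, -⟩ := hk va (uMap (K := K) (aX := aX) ya (Category.comp_id _))
  -- the pullback of the value at `c`
  let mm : va ⟶ cc := ObjectProperty.homMk m
  obtain ⟨L, ρ, hρ⟩ := exists_lift_of_eq (ModSt.Coh f).p ((Over.map h).map r)
    (show (ModSt.Coh f).p.obj (sq.top.obj cc) = (Over.map h).obj c.base from sq.top.w_obj cc)
  haveI hm1 : (sub ℬ (InU K aX U)).p.IsHomLift ((Over.map h).map ya ≫ (Over.map h).map r) mm := by
    rw [← Functor.map_comp, hm]
    exact IsHomLift.map (sub ℬ (InU K aX U)).p mm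
  haveI hm2 : (ModSt.Coh f).p.IsHomLift ((Over.map h).map ya ≫ (Over.map h).map r) (sq.top.map mm) :=
    BasedFunctor.preserves_isHomLift sq.top _ _
  obtain ⟨la, ⟨hla, -⟩, -⟩ := existsUnique_fac_lift (ModSt.Coh f).p ((Over.map h).map ya) ((Over.map h).map r) ρ
    (sq.top.map mm)
  have hnb : nbase (K := K) (aX := aX) n.hom ≫ openMap (𝟙 X) U = ya := congrArg (fun t => t.base) hn
  haveI hn1 : (sub ℬ (InU K aX U)).p.IsHomLift ((Over.map h).map (nbase (K := K) (aX := aX) n.hom)) n :=
    IsHomLift.map (sub ℬ (InU K aX U)).p n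
  haveI hn2 : (ModSt.Coh f).p.IsHomLift ((Over.map h).map (nbase (K := K) (aX := aX) n.hom)) (sq.top.map n) :=
    BasedFunctor.preserves_isHomLift sq.top _ _
  have hcomp : (Over.map h).map (nbase (K := K) (aX := aX) n.hom) ≫ (Over.map h).map (openMap (𝟙 X) U) =
      (Over.map h).map ya := by rw [← Functor.map_comp, hnb]
  haveI : IsOpenImmersion ((Over.map h).map (openMap (𝟙 X) U)).left := by
    change IsOpenImmersion ((𝟙 X : X ⟶ X).left ⁻¹ᵁ U).ι; infer_instance
  haveI : IsOpenImmersion ((Over.map h).map (nbase (K := K) (aX := aX) n.hom) ≫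
      (Over.map h).map (openMap (𝟙 X) U)).left := by
    rw [hcomp]; change IsOpenImmersion ya.left; infer_instance
  haveI : IsAffine ((Over.map h).obj X).left := ‹IsAffine X.left›
  haveI : IsNoetherianRing Γ(((Over.map h).obj X).left, ⊤) := ‹IsNoetherianRing Γ(X.left, ⊤)›
  haveI hla' : (ModSt.Coh f).p.IsHomLift ((Over.map h).map (nbase (K := K) (aX := aX) n.hom) ≫
      (Over.map h).map (openMap (𝟙 X) U)) la := by rw [hcomp]; exact hla
  obtain ⟨x, t, ht⟩ := exists_ext (f := f) ((Over.map h).map (openMap (𝟙 X) U))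
    ((Over.map h).map (nbase (K := K) (aX := aX) n.hom)) (a := a) (b := b) (by
      change (((𝟙 X : X ⟶ X).left ⁻¹ᵁ U).ι).opensRange = X.left.basicOpen a ⊔ X.left.basicOpen b
      rw [Scheme.Opens.opensRange_ι, ← hUab]; rfl) (by
      have : ∀ (m : (Over.map h).obj Ya ⟶ (Over.map h).obj X) (_ : (Over.map h).map ya = m)
          [IsOpenImmersion m.left], m.left.opensRange = X.left.basicOpen a := by
        rintro m rfl _; exact hya
      exact this _ hcomp.symm) hab hmax la (sq.top.map n) hla' hn2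
  exact exists_LL_self sq v k hk x t ht

end Quot

end K943.CohQuot
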