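import Mathlib.RingTheory.Flat.EquationalCriterion
import Mathlib.RingTheory.Noetherian.Basic
import Mathlib.RingTheory.Ideal.Quotient.Basic
import Groth.Agent.FlatA.LocalCriterion
import Mathlib.Tactic.LinearCombination
import Mathlib.Tactic.Ring
import Mathlib.Tactic.Abel
import Mathlib.LinearAlgebra.Basis.VectorSpace

/-!
# Modules on which `α, β` is a regular sequence (in both orders)

`Hart α β N`: `α` and `β` are nonzerodivisors on `N` and `β x = α y` only for `x = α z`.
-/

set_option autoImplicit false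

namespace K943.Depth2

open TensorProduct

/-- `α`, `β` are nonzerodivisors on `N` and `β x = α y` implies `x ∈ α N`. -/
structure Hart {B : Type*} [CommRing B] (α β : B) (N : Type*) [AddCommGroup N] [Module B N] : Prop where
  reg₁ : ∀ x : N, α • x = 0 → x = 0
  reg₂ : ∀ x : N, β • x = 0 → x = 0
  ex : ∀ x y : N, β • x = α • y → ∃ z, x = α • z

section

variable {B : Type*} [CommRing B] {α β : B} {N : Type*} [AddCommGroup N] [Module B N]

theorem Hart.ex' (h : Hart α β N) {x y : N} (e : β • x = α • y) : ∃ z, x = α • z ∧ y = β • z := by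
  obtain ⟨z, hz⟩ := h.ex x y e
  refine ⟨z, hz, ?_⟩
  have : α • (y - β • z) = 0 := by
    rw [smul_sub, ← e, hz, smul_comm, sub_self]
  exact sub_eq_zero.1 (h.reg₁ _ this)

theorem Hart.symm (h : Hart α β N) : Hart β α N :=
  ⟨h.reg₂, h.reg₁, fun x y e => by
    obtain ⟨z, -, hz⟩ := h.ex' e.symm
    exact ⟨z, hz⟩⟩

theorem Hart.reg₁_pow (h : Hart α β N) (n : ℕ) : ∀ x : N, α ^ n • x = 0 → x = 0 := by
  induction n with
  | zero => intro x hx; simpa using hx
  | succ n ih =>
    intro x hx
    rw [pow_succ, mul_smul] at hx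
    exact h.reg₁ _ (ih _ hx)

theorem Hart.reg₂_pow (h : Hart α β N) (n : ℕ) : ∀ x : N, β ^ n • x = 0 → x = 0 := h.symm.reg₁_pow n

theorem Hart.cancel₁ (h : Hart α β N) (n : ℕ) {x y : N} (e : α ^ n • x = α ^ n • y) : x = y :=
  sub_eq_zero.1 (h.reg₁_pow n _ (by rw [smul_sub, e, sub_self]))

theorem Hart.cancel₂ (h : Hart α β N) (n : ℕ) {x y : N} (e : β ^ n • x = β ^ n • y) : x = y :=
  h.symm.cancel₁ n e

theorem Hart.ex_pow₁ (h : Hart α β N) (m : ℕ) : ∀ x y : N, β ^ m • x = α • y → ∃ z, x = α • z := by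
  induction m with
  | zero => intro x y e; exact ⟨y, by simpa using e⟩
  | succ m ih =>
    intro x y e
    rw [pow_succ', mul_smul] at e
    obtain ⟨z, hz⟩ := h.ex _ _ e
    exact ih x z hz

theorem Hart.ex_pow (h : Hart α β N) (m n : ℕ) : ∀ {x y : N}, β ^ m • x = α ^ n • y →
    ∃ z, x = α ^ n • z ∧ y = β ^ m • z := by
  induction n with
  | zero =>
    intro x y e
    exact ⟨x, by simp, by simpa using e.symm⟩
  | succ n ih =>
    intro x y e
    rw [pow_succ', mul_smul] at e
    obtain ⟨x', rfl⟩ := h.ex_pow₁ m _ _ e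
    rw [smul_comm] at e
    have e' : β ^ m • x' = α ^ n • y := h.cancel₁ 1 (by simpa using e)
    obtain ⟨z, rfl, hz⟩ := ih e'
    exact ⟨z, by rw [pow_succ', mul_smul], hz⟩

/-- Multiplication by `(αβ)ᵏ` is injective. -/
theorem Hart.reg_mul_pow (h : Hart α β N) (n : ℕ) : ∀ x : N, (α * β) ^ n • x = 0 → x = 0 := by
  intro x hx
  rw [mul_pow, mul_smul] at hx
  exact h.reg₂_pow n _ (h.reg₁_pow n _ hx)

end

/-- The property passes to flat modules. -/
theorem Hart.of_flat {A : Type*} [CommRing A] {a b : A} (h : Hart a b A) (N : Type*) [AddCommGroup N]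
    [Module A N] [Module.Flat A N] : Hart a b N := by
  have reg : ∀ c : A, (∀ x : A, c • x = 0 → x = 0) → ∀ x : N, c • x = 0 → x = 0 := by
    intro c hc x hx
    have h1 : ∑ i : Fin 1, (fun _ => c) i • (fun _ => x) i = 0 := by simpa using hx
    obtain ⟨k, a, y, h2, h3⟩ := Module.Flat.isTrivialRelation_of_sum_smul_eq_zero h1
    have h4 := h2 0
    rw [show x = (fun _ : Fin 1 => x) 0 from rfl, h4]
    refine Finset.sum_eq_zero fun j _ => ?_
    have h5 : c • a 0 j = 0 := by simpa using h3 j
    rw [hc _ h5, zero_smul]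
  refine ⟨reg a h.reg₁, reg b h.reg₂, fun x y e => ?_⟩
  have h1 : ∑ i : Fin 2, (![b, -a] : Fin 2 → A) i • (![x, y] : Fin 2 → N) i = 0 := by
    simp [Fin.sum_univ_two, e]
  obtain ⟨k, c, z, h2, h3⟩ := Module.Flat.isTrivialRelation_of_sum_smul_eq_zero h1
  have h4 : ∀ j, ∃ d, c 0 j = a • d := by
    intro j
    refine h.ex (c 0 j) (c 1 j) ?_
    have := h3 j
    simp only [Fin.sum_univ_two, Matrix.cons_val_zero, Matrix.cons_val_one] at this
    rw [smul_eq_mul, smul_eq_mul]
    linear_combination this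
  choose d hd using h4
  refine ⟨∑ j, d j • z j, ?_⟩
  have h5 := h2 0
  simp only [Matrix.cons_val_zero] at h5
  rw [h5, Finset.smul_sum]
  refine Finset.sum_congr rfl fun j _ => ?_
  rw [hd, smul_smul, smul_eq_mul]

/-- Change of scalars. -/
theorem Hart.of_smul_eq {A B : Type*} [CommRing A] [CommRing B] {a b : A} {α β : B} {N : Type*} [AddCommGroup N]
    [Module A N] [Module B N] (h : Hart a b N) (h1 : ∀ x : N, a • x = α • x) (h2 : ∀ x : N, b • x = β • x) :
    Hart α β N :=
  ⟨fun x hx => h.reg₁ x ((h1 x).trans hx), fun x hx => h.reg₂ x ((h2 x).trans hx), fun x y e => by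
    obtain ⟨z, hz⟩ := h.ex x y (by rw [h1, h2, e])
    exact ⟨z, hz.trans (h1 z)⟩⟩

/-- Transport along an additive isomorphism compatible with the multiplications. -/
theorem Hart.of_equiv {A B : Type*} [CommRing A] [CommRing B] {a b : A} {α β : B} {N N' : Type*} [AddCommGroup N]
    [Module A N] [AddCommGroup N'] [Module B N'] (h : Hart a b N) (e : N ≃+ N') (h1 : ∀ x : N, e (a • x) = α • e x)
    (h2 : ∀ x : N, e (b • x) = β • e x) : Hart α β N' :=
  ⟨fun x hx => by
      obtain ⟨x, rfl⟩ := e.surjective x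
      rw [← h1] at hx
      rw [h.reg₁ x (e.injective (by rw [hx, map_zero])), map_zero],
    fun x hx => by
      obtain ⟨x, rfl⟩ := e.surjective x
      rw [← h2] at hx
      rw [h.reg₂ x (e.injective (by rw [hx, map_zero])), map_zero],
    fun x y e' => by
      obtain ⟨x, rfl⟩ := e.surjective x
      obtain ⟨y, rfl⟩ := e.surjective y
      rw [← h1, ← h2] at e'
      obtain ⟨z, rfl⟩ := h.ex x y (e.injective e')
      exact ⟨e z, h1 z⟩⟩

section Finite

variable {B : Type*} [CommRing B] [IsNoetherianRing B] {α β : B} {M N P : Type*} [AddCommGroup M] [Module B M]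
  [AddCommGroup N] [Module B N] [AddCommGroup P] [Module B P]

/-- A module which becomes finite after inverting `β` and which embeds compatibly with `N[1/α]`, `N` finite with
`Hart α β N`, is finite. -/
theorem finite_of_hart (hN : Hart α β N) [Module.Finite B N] (ι : N →ₗ[B] P) (hι : Function.Injective ι)
    (hα : ∀ p : P, α • p = 0 → p = 0) (u : M →ₗ[B] P) (hu : Function.Injective u)
    (h1 : ∀ m, ∃ (k : ℕ) (n : N), α ^ k • u m = ι n) (S : Finset M)
    (hS : ∀ m, ∃ l : ℕ, β ^ l • m ∈ Submodule.span B (S : Set M)) : Module.Finite B M := by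
  have hαn : ∀ (n : ℕ) (p : P), α ^ n • p = 0 → p = 0 := by
    intro n
    induction n with
    | zero => intro x hx; simpa using hx
    | succ n ih =>
      intro x hx
      rw [pow_succ, mul_smul] at hx
      exact hα _ (ih _ hx)
  choose k n hk using h1
  let c := S.sup k
  have hc : ∀ m ∈ S, k m ≤ c := fun m hm => Finset.le_sup hm
  have h2 : ∀ m ∈ Submodule.span B (S : Set M), α ^ c • u m ∈ LinearMap.range ι := by
    intro m hm
    induction hm using Submodule.span_induction with
    | mem m hm =>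
      obtain ⟨d, hd⟩ := Nat.exists_eq_add_of_le (hc m hm)
      rw [hd, Nat.add_comm, pow_add, mul_smul, hk]
      exact ⟨α ^ d • n m, by rw [map_smul]⟩
    | zero => rw [map_zero, smul_zero]; exact Submodule.zero_mem _
    | add x y _ _ hx hy => rw [map_add, smul_add]; exact Submodule.add_mem _ hx hy
    | smul r x _ hx => rw [map_smul, smul_comm]; exact Submodule.smul_mem _ _ hx
  have h3 : ∀ m, α ^ c • u m ∈ LinearMap.range ι := by
    intro m
    obtain ⟨l, hl⟩ := hS m
    obtain ⟨y, hy⟩ := h2 _ hl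
    -- `x := α^(k + c) u m ∈ N`, `y = α^c β^l u m`
    have hx : α ^ (k m) • (α ^ c • u m) = ι (α ^ c • n m) := by
      rw [smul_comm, hk, map_smul]
    have e : β ^ l • (α ^ c • n m) = α ^ (k m) • y := by
      apply hι
      rw [map_smul ι (β ^ l), ← hx, map_smul ι (α ^ k m) y, hy, map_smul]
      simp only [smul_smul]
      congr 1
      ring
    obtain ⟨z, hz, -⟩ := hN.ex_pow l (k m) e
    refine ⟨z, ?_⟩
    have h4 : α ^ (k m) • (α ^ c • u m - ι z) = 0 := by
      rw [smul_sub, hx, hz, map_smul, sub_self]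
    exact (sub_eq_zero.1 (hαn _ _ h4)).symm
  let v : M →ₗ[B] N :=
    (LinearEquiv.ofInjective ι hι).symm.toLinearMap ∘ₗ
      LinearMap.codRestrict (LinearMap.range ι) ((α ^ c) • u) h3
  have hv : Function.Injective v := by
    refine ((LinearEquiv.ofInjective ι hι).symm.injective).comp ?_
    intro x y e
    have e1 : (α ^ c) • u x = (α ^ c) • u y := congrArg Subtype.val e
    apply hu
    exact sub_eq_zero.1 (hαn c _ (by rw [smul_sub, e1, sub_self]))
  exact Module.Finite.of_injective v hv

end Finite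

section Flat

universe u

/-- The module `I ⊗ N` injects into `N` for `I = (a, b)` if `Hart a b N`. -/
theorem rTensor_injective {A : Type*} [CommRing A] {a b : A} {N : Type*} [AddCommGroup N] [Module A N]
    (h : Hart a b N) : Function.Injective ((Ideal.span {a, b}).subtype.rTensor N) := by
  rw [injective_iff_map_eq_zero]
  have ha : a ∈ Ideal.span {a, b} := Ideal.subset_span (by simp)
  have hb : b ∈ Ideal.span {a, b} := Ideal.subset_span (by simp)
  have h1 : ∀ x : (Ideal.span {a, b} : Ideal A) ⊗[A] N, ∃ y z : N,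
      x = (⟨a, ha⟩ : (Ideal.span {a, b} : Ideal A)) ⊗ₜ[A] y + (⟨b, hb⟩ : (Ideal.span {a, b} : Ideal A)) ⊗ₜ[A] z := by
    intro x
    induction x using TensorProduct.induction_on with
    | zero => exact ⟨0, 0, by simp⟩
    | tmul c n =>
      obtain ⟨c, hc⟩ := c
      obtain ⟨s, t, rfl⟩ := Ideal.mem_span_pair.1 hc
      refine ⟨s • n, t • n, ?_⟩
      rw [← TensorProduct.smul_tmul, ← TensorProduct.smul_tmul, ← TensorProduct.add_tmul]
      rfl
    | add x y hx hy =>
      obtain ⟨y1, z1, rfl⟩ := hx
      obtain ⟨y2, z2, rfl⟩ := hy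
      exact ⟨y1 + y2, z1 + z2, by rw [TensorProduct.tmul_add, TensorProduct.tmul_add]; abel⟩
  intro x hx
  obtain ⟨y, z, rfl⟩ := h1 x
  have h2 : a • y + b • z = 0 := by
    have := congrArg (TensorProduct.lid A N) hx
    simpa using this
  have h3 : b • z = a • (-y) := by rw [smul_neg, eq_neg_iff_add_eq_zero, add_comm]; exact h2
  obtain ⟨w, hw, hw'⟩ := h.ex' h3
  have hy : y = -(b • w) := by rw [← hw', neg_neg]
  rw [hy, hw, TensorProduct.tmul_neg, ← TensorProduct.smul_tmul, ← TensorProduct.smul_tmul, neg_add_eq_zero]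
  congr 1
  exact Subtype.ext (mul_comm b a)

theorem flat_of_isField {K V : Type*} [CommRing K] (h : IsField K) [AddCommGroup V] [Module K V] :
    Module.Flat K V := by
  let := h.toField
  exact inferInstance

/-- The local criterion: `N` finite over a Noetherian algebra `B` over the Noetherian ring `A`, `(a, b)` maximal in
`A` and `Hart a b N`; then `N` is flat over `A` at the primes of `B` above `(a, b)`. -/
theorem flatAt_of_hart {A B : Type u} [CommRing A] [CommRing B] [Algebra A B] [IsNoetherianRing A]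
    [IsNoetherianRing B] {N : Type u} [AddCommGroup N] [Module A N] [Module B N] [IsScalarTower A B N]
    [Module.Finite B N] {a b : A} (hmax : (Ideal.span {a, b}).IsMaximal) (h : Hart a b N) (q : Ideal B) [q.IsPrime]
    (hq : (Ideal.span {a, b}).map (algebraMap A B) ≤ q) : Module.Flat A (LocalizedModule q.primeCompl N) := by
  have : Module.Flat (A ⧸ Ideal.span {a, b}) ((A ⧸ Ideal.span {a, b}) ⊗[A] N) :=
    flat_of_isField ((Ideal.Quotient.maximal_ideal_iff_isField_quotient _).1 hmax)
  refine Groth.Agent.FlatA.LocalCriterion.flat_localized_of_forall_injective (B := B) (Ideal.span {a, b}) q.primeCompl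
    ?_ (LocalizedModule.mkLinearMap q.primeCompl N) ?_
  · intro r hr h1
    exact (Ideal.ne_top_iff_one q).1 (Ideal.IsPrime.ne_top inferInstance) (by
      have := q.add_mem h1 (hq hr)
      simpa using this)
  · exact Groth.Agent.FlatA.LocalCriterion.injective_of_torVan _
      (Groth.Agent.FlatA.TorOne.TorVan.of_submodule (rTensor_injective h))

end Flat

end K943.Depth2
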