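import Groth.Agent.ThetaS.K942.Coord
import Groth.Agent.ThetaS.K943.Hart
import Mathlib.RingTheory.DiscreteValuationRing.Basic
import Mathlib.RingTheory.Polynomial.Basic

/-!
# The rings `R[x]` and `R[s, t]/(st − π)` for a discrete valuation ring
-/

set_option autoImplicit false
set_option backward.isDefEq.respectTransparency false
set_option backward.isDefEq.respectTransparency.types false

universe u

open CategoryTheory AlgebraicGeometry TopologicalSpace Opposite
open scoped Polynomial

namespace K943.Rings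

open ThetaS K943.Depth2 K942.Coord

variable {R : Type u} [CommRing R]

theorem hart_X_C [IsDomain R] {ϖ : R} (h : ϖ ≠ 0) : Hart (Polynomial.X : R[X]) (Polynomial.C ϖ) R[X] := by
  have h1 := K942.RegPair.RegPair.X_C h
  refine ⟨fun x hx => h1.nzd x hx, fun x hx => ?_, fun x y e => h1.reg x y e⟩
  exact (mul_eq_zero.1 hx).resolve_left (Polynomial.C_ne_zero.2 h)

theorem t_nzd [IsDomain R] {π : R} (h : π ≠ 0) (x : STRing R π) (hx : tFn R π * x = 0) : x = 0 := by
  obtain ⟨f, rfl⟩ := Ideal.Quotient.mk_surjective x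
  rw [tFn, ← map_mul, Ideal.Quotient.eq_zero_iff_mem, Ideal.mem_span_singleton'] at hx
  obtain ⟨g, hg⟩ := hx
  have hp : Prime (MvPolynomial.X 1 : MvPolynomial (Fin 2) R) := MvPolynomial.X_prime
  have h1 : (MvPolynomial.X 1 : MvPolynomial (Fin 2) R) ∣ g * MvPolynomial.C π :=
    ⟨g * MvPolynomial.X 0 - f, by linear_combination -hg⟩
  have h2 : ¬ (MvPolynomial.X 1 : MvPolynomial (Fin 2) R) ∣ MvPolynomial.C π := by
    rintro ⟨c, hc⟩
    have := congrArg (MvPolynomial.eval (0 : Fin 2 → R)) hc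
    simp at this
    exact h this
  obtain ⟨g', rfl⟩ := (hp.dvd_or_dvd h1).resolve_right h2
  rw [Ideal.Quotient.eq_zero_iff_mem, Ideal.mem_span_singleton']
  refine ⟨g', mul_left_cancel₀ hp.ne_zero ?_⟩
  linear_combination hg

theorem hart_s_t [IsDomain R] {π : R} (h : π ≠ 0) : Hart (sFn R π) (tFn R π) (STRing R π) := by
  have h1 := K942.RegPair.RegPair.s_t h
  exact ⟨fun x hx => h1.nzd x hx, fun x hx => t_nzd h x hx, fun x y e => h1.reg x y e⟩

theorem isField_quot [IsDomain R] [IsDiscreteValuationRing R] {ϖ : R} (h : Irreducible ϖ) :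
    IsField (R ⧸ Ideal.span {ϖ}) := by
  rw [← Ideal.Quotient.maximal_ideal_iff_isField_quotient, ← Irreducible.maximalIdeal_eq h]
  infer_instance

theorem isMaximal_of_ker {A B : Type*} [CommRing A] [CommRing B] (hB : IsField B) (φ : A →+* B)
    (hφ : Function.Surjective φ) {I : Ideal A} (h1 : ∀ x ∈ I, φ x = 0) (h2 : ∀ x, φ x = 0 → x ∈ I) : I.IsMaximal := by
  let := hB.toField
  have h3 : I = RingHom.ker φ := by
    ext x
    exact ⟨fun h => h1 x h, fun h => h2 x h⟩
  rw [h3]
  exact RingHom.ker_isMaximal_of_surjective φ hφ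

theorem isMaximal_line [IsDomain R] [IsDiscreteValuationRing R] {ϖ : R} (h : Irreducible ϖ) :
    (Ideal.span {(Polynomial.X : R[X]), Polynomial.C ϖ}).IsMaximal := by
  refine isMaximal_of_ker (isField_quot h) ((Ideal.Quotient.mk (Ideal.span {ϖ})).comp (Polynomial.evalRingHom 0)) ?_ ?_ ?_
  · intro y
    obtain ⟨y, rfl⟩ := Ideal.Quotient.mk_surjective y
    exact ⟨Polynomial.C y, by simp⟩
  · intro x hx
    obtain ⟨p, q, rfl⟩ := Ideal.mem_span_pair.1 hx
    simp only [RingHom.comp_apply, Polynomial.coe_evalRingHom, Polynomial.eval_add, Polynomial.eval_mul,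
      Polynomial.eval_X, mul_zero, Polynomial.eval_C, zero_add]
    rw [Ideal.Quotient.eq_zero_iff_mem]
    exact Ideal.mul_mem_left _ _ (Ideal.mem_span_singleton_self _)
  · intro x hx
    simp only [RingHom.comp_apply, Polynomial.coe_evalRingHom] at hx
    rw [Ideal.Quotient.eq_zero_iff_mem, Ideal.mem_span_singleton'] at hx
    obtain ⟨r, hr⟩ := hx
    obtain ⟨g, hg⟩ : Polynomial.X ∣ x - Polynomial.C (Polynomial.eval 0 x) := by
      rw [Polynomial.X_dvd_iff]; simp [Polynomial.coeff_zero_eq_eval_zero]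
    rw [Ideal.mem_span_pair]
    refine ⟨g, Polynomial.C r, ?_⟩
    rw [← Polynomial.C_mul, hr]
    linear_combination -hg

theorem isMaximal_st [IsDomain R] [IsDiscreteValuationRing R] {π : R} (h : Irreducible π) :
    (Ideal.span {sFn R π, tFn R π}).IsMaximal := by
  let φ₀ : MvPolynomial (Fin 2) R →+* R ⧸ Ideal.span {π} :=
    (Ideal.Quotient.mk (Ideal.span {π})).comp (MvPolynomial.eval (0 : Fin 2 → R))
  have hφ₀ : ∀ a ∈ Ideal.span {(MvPolynomial.X 0 * MvPolynomial.X 1 - MvPolynomial.C π : MvPolynomial (Fin 2) R)},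
      φ₀ a = 0 := by
    intro a ha
    rw [Ideal.mem_span_singleton'] at ha
    obtain ⟨c, rfl⟩ := ha
    simp only [φ₀, RingHom.comp_apply, map_mul, map_sub, MvPolynomial.eval_X, Pi.zero_apply, mul_zero, zero_sub,
      MvPolynomial.eval_C, map_zero]
    have : (Ideal.Quotient.mk (Ideal.span {π})) π = 0 := by
      rw [Ideal.Quotient.eq_zero_iff_mem]; exact Ideal.mem_span_singleton_self _
    rw [this]; simp
  let φ : STRing R π →+* R ⧸ Ideal.span {π} := Ideal.Quotient.lift _ φ₀ hφ₀
  have hφmk : ∀ f, φ (Ideal.Quotient.mk _ f) = φ₀ f := fun f => Ideal.Quotient.lift_mk _ _ _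
  have hφ₀C : ∀ r, φ₀ (MvPolynomial.C r) = Ideal.Quotient.mk (Ideal.span {π}) r := fun r => by
    simp [φ₀]
  refine isMaximal_of_ker (isField_quot h) φ ?_ ?_ ?_
  · intro y
    obtain ⟨y, rfl⟩ := Ideal.Quotient.mk_surjective y
    exact ⟨Ideal.Quotient.mk _ (MvPolynomial.C y), by rw [hφmk, hφ₀C]⟩
  · intro x hx
    obtain ⟨p, q, rfl⟩ := Ideal.mem_span_pair.1 hx
    have h1 : φ (sFn R π) = 0 := by rw [sFn, hφmk]; simp [φ₀]
    have h2 : φ (tFn R π) = 0 := by rw [tFn, hφmk]; simp [φ₀]
    rw [map_add, map_mul, map_mul, h1, h2, mul_zero, mul_zero, add_zero]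
  · intro x hx
    obtain ⟨f, rfl⟩ := Ideal.Quotient.mk_surjective x
    rw [hφmk] at hx
    have key : ∀ f : MvPolynomial (Fin 2) R, Ideal.Quotient.mk _ (f - MvPolynomial.C (MvPolynomial.eval 0 f)) ∈
        Ideal.span {sFn R π, tFn R π} := by
      intro f
      induction f using MvPolynomial.induction_on with
      | C r => simp
      | add p q hp hq =>
        have : (p + q - MvPolynomial.C (MvPolynomial.eval 0 (p + q)) : MvPolynomial (Fin 2) R) =
          (p - MvPolynomial.C (MvPolynomial.eval 0 p)) + (q - MvPolynomial.C (MvPolynomial.eval 0 q)) := by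
          rw [map_add, map_add]; ring
        rw [this, map_add]
        exact Ideal.add_mem _ hp hq
      | mul_X p i _ =>
        have h1 : MvPolynomial.eval (0 : Fin 2 → R) (p * MvPolynomial.X i) = 0 := by simp
        rw [h1, map_zero, sub_zero, map_mul]
        refine Ideal.mul_mem_left _ _ (Ideal.subset_span ?_)
        fin_cases i
        · exact Or.inl rfl
        · exact Or.inr rfl
    have h1 : (Ideal.Quotient.mk (Ideal.span {π})) (MvPolynomial.eval 0 f) = 0 := hx
    rw [Ideal.Quotient.eq_zero_iff_mem, Ideal.mem_span_singleton'] at h1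
    obtain ⟨r, hr⟩ := h1
    have h2 := key f
    have h3 : (Ideal.Quotient.mk (Ideal.span {(MvPolynomial.X 0 * MvPolynomial.X 1 - MvPolynomial.C π :
        MvPolynomial (Fin 2) R)})) (MvPolynomial.C (MvPolynomial.eval 0 f)) ∈ Ideal.span {sFn R π, tFn R π} := by
      rw [← hr, map_mul, map_mul]
      refine Ideal.mul_mem_left _ _ ?_
      have h4 : (Ideal.Quotient.mk (Ideal.span {(MvPolynomial.X 0 * MvPolynomial.X 1 - MvPolynomial.C π :
          MvPolynomial (Fin 2) R)})) (MvPolynomial.C π) = sFn R π * tFn R π := (sFn_mul_tFn R π).symm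
      rw [h4]
      exact Ideal.mul_mem_right _ _ (Ideal.subset_span (Or.inl rfl))
    have := Ideal.add_mem _ h2 h3
    rwa [← map_add, sub_add_cancel] at this

section Transport

variable {A B : Type*} [CommRing A] [CommRing B] (e : A ≃+* B)

theorem hart_equiv {a b : A} (h : Hart a b A) : Hart (e a) (e b) B :=
  h.of_equiv e.toAddEquiv (fun x => map_mul e a x) (fun x => map_mul e b x)

theorem isMaximal_equiv {a b : A} (h : (Ideal.span {a, b}).IsMaximal) : (Ideal.span {e a, e b}).IsMaximal := by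
  have h1 : Ideal.span {e a, e b} = (Ideal.span {a, b}).map (e : A →+* B) := by
    rw [Ideal.map_span, Set.image_pair]; rfl
  rw [h1]
  exact Ideal.map_isMaximal_of_equiv e

end Transport

/-- Functions on the line. -/
noncomputable def eLine (R : Type u) [CommRing R] : R[X] ≃+* Γ((Line R).left, ⊤) :=
  (Scheme.ΓSpecIso (CommRingCat.of R[X])).symm.commRingCatIsoToRingEquiv

/-- Functions on `Spec R[s, t]/(st − π)`. -/
noncomputable def eST (R : Type u) [CommRing R] (π : R) : STRing R π ≃+* Γ((STSch R π).left, ⊤) :=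
  (Scheme.ΓSpecIso (CommRingCat.of (STRing R π))).symm.commRingCatIsoToRingEquiv

theorem hart_line [IsDomain R] {ϖ : R} (h : ϖ ≠ 0) :
    Hart (lineFn (R := R) Polynomial.X) (lineFn (Polynomial.C ϖ)) Γ((Line R).left, ⊤) :=
  hart_equiv (eLine R) (hart_X_C h)

theorem hart_st [IsDomain R] {π : R} (h : π ≠ 0) :
    Hart (stFn (sFn R π)) (stFn (tFn R π)) Γ((STSch R π).left, ⊤) :=
  hart_equiv (eST R π) (hart_s_t h)

theorem max_line [IsDomain R] [IsDiscreteValuationRing R] {ϖ : R} (h : Irreducible ϖ) :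
    (Ideal.span {lineFn (R := R) Polynomial.X, lineFn (Polynomial.C ϖ)}).IsMaximal :=
  isMaximal_equiv (eLine R) (isMaximal_line h)

theorem max_st [IsDomain R] [IsDiscreteValuationRing R] {π : R} (h : Irreducible π) :
    (Ideal.span {stFn (sFn R π), stFn (tFn R π)}).IsMaximal :=
  isMaximal_equiv (eST R π) (isMaximal_st h)

instance noeth_line [IsNoetherianRing R] : IsNoetherianRing Γ((Line R).left, ⊤) :=
  isNoetherianRing_of_ringEquiv _ (eLine R)

instance noeth_st [IsNoetherianRing R] (π : R) : IsNoetherianRing Γ((STSch R π).left, ⊤) :=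
  isNoetherianRing_of_ringEquiv _ (eST R π)

end K943.Rings
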