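import Groth.Agent.ThetaS.K942.AffMain
import Groth.Agent.ThetaS.K943.CohQuot
import Groth.Agent.ThetaS.K943.Points
import Groth.Agent.ThetaS.K943.Rings

/-!
# The stack of coherent sheaves is Θ-complete and S-complete
-/

set_option autoImplicit false
set_option linter.dupNamespace false
set_option linter.style.haveILetI false
set_option backward.isDefEq.respectTransparency false
set_option backward.isDefEq.respectTransparency.types false

universe u

open CategoryTheory MonoidalCategory CartesianMonoidalCategory AlgebraicGeometry TopologicalSpace Opposite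
open scoped TensorProduct Polynomial

namespace K943.CohTheta

open ThetaS K942.Coord K943.QuotOpen K943.QuotAtlas K943.QuotTriv K943.Points K943.Rings K943.CohQuot K942.AffMain

variable {C S : Scheme.{u}} {f : C ⟶ S} {K : Precoverage Scheme.{u}} [K.HasIsos] [K.IsStableUnderBaseChange]

theorem isThetaComplete_coh [LocallyOfFiniteType f] (hst : Stk.IsStack (QuotSh.J K S) (ModSt.Coh f)) :
    IsThetaComplete K (ModSt.Coh f) := by
  intro R _ _ _ ϖ hϖ h
  obtain ⟨g, hg⟩ := exists_line (R := R)
  have := liftsUniquely_coh (K := K) (aX := lineAction R) h (stable_line ϖ) (f := f)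
    (a := lineFn Polynomial.X) (b := lineFn (Polynomial.C ϖ)) rfl (hart_line hϖ.ne_zero) (max_line hϖ) hst
    (inc (lineFn Polynomial.X)) (opensRange_inc _) (inU_one K ϖ) (uMapG (str _) g hg) (str _) rfl
  rw [← missesOrigin_eq K ϖ] at this
  exact this

theorem isSCompleteOver_coh [LocallyOfFiniteType f] (hst : Stk.IsStack (QuotSh.J K S) (ModSt.Coh f)) :
    IsSCompleteOver K (ModSt.Coh f) := by
  intro R _ _ _ π hπ h
  obtain ⟨g, hg⟩ := exists_st π
  have := liftsUniquely_coh (K := K) (aX := stAction R π) h (stable_st π) (f := f)
    (a := stFn (sFn R π)) (b := stFn (tFn R π)) rfl (hart_st hπ.ne_zero) (max_st hπ) hst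
    (inc (stFn (sFn R π))) (opensRange_inc _) (inU_oneST π K) (uMapG (str _) g hg) (str _) rfl
  rw [← missesNode_eq K π] at this
  exact this

end K943.CohTheta
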