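import Groth.Agent.ThetaS.K943.FamUniq
import Groth.Agent.ThetaS.K943.SelfLift
import Groth.Agent.Ega3B.FlatRestrict
import Groth.Agent.PerfC.FPSections

/-!
# Unique extension of morphisms of flat families of modules over codimension-two complements
-/

set_option backward.isDefEq.respectTransparency false
set_option backward.isDefEq.respectTransparency.types false
set_option autoImplicit false
set_option linter.style.haveILetI false
universe u

open CategoryTheory CategoryTheory.Limits AlgebraicGeometry TopologicalSpace Opposite FibCat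
open K943.OpenCart K943.Depth2 K943.LocPair K943.SelfLift K943.FamUniq

namespace K943.CohUniq

variable {X S : Scheme.{u}} {f : X ⟶ S}

theorem isOpenImmersion_top {v x : ModSt.Obj f} (t : v ⟶ x) [IsOpenImmersion t.base.left] :
    IsOpenImmersion t.top := MorphismProperty.of_isPullback t.isPullback_top.flip inferInstance

/-- The comparison map of an arrow of flat families over the complement of a regular sequence is an isomorphism. -/
theorem isIso_c_fam {v x : ModSt.Obj f} (t : v ⟶ x) [IsOpenImmersion t.base.left] {T : Scheme.{u}} [IsAffine T]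
    (m : x.base.left ⟶ T) [IsIso m] {a b : Γ(T, ⊤)}
    (hr : (t.base.left ≫ m).opensRange = T.basicOpen a ⊔ T.basicOpen b) (hab : Hart a b Γ(T, ⊤))
    (hx : ModSt.IsQCohObj x) : IsIso t.c := by
  haveI := isOpenImmersion_top t
  have h1 : IsPullback t.top (v.q ≫ 𝟙 _) (x.q ≫ m) (t.base.left ≫ m) :=
    t.isPullback_top.paste_vert (IsPullback.of_vert_isIso ⟨by simp⟩)
  refine isIso_c h1 hr hab hx.2 ?_ t.c t.cart
  intro y
  exact (Groth.Agent.Ega3B.FlatRestrict.isFlatOverAt_comp_iff x.q m x.E y).2 (hx.1 y)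

theorem isQCohObj_of_isCohObj {x : ModSt.Obj f} (h : ModSt.IsCohObj x) : ModSt.IsQCohObj x :=
  ⟨h.1, Groth.Agent.PerfC.FPSections.isQCoh_of_isFP h.2⟩

theorem existsUnique_obj {v x x' : ModSt.Obj f} (t : v ⟶ x) (t' : v ⟶ x') [IsOpenImmersion t.base.left]
    [IsAffine x.base.left] {a b : Γ(x.base.left, ⊤)}
    (hr : t.base.left.opensRange = x.base.left.basicOpen a ⊔ x.base.left.basicOpen b)
    (hab : Hart a b Γ(x.base.left, ⊤)) (hx : ModSt.IsQCohObj x) (hx' : ModSt.IsQCohObj x') (ψ : x.base ⟶ x'.base)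
    [IsIso ψ] (e : t.base ≫ ψ = t'.base) : ∃! φ : x ⟶ x', φ.base = ψ ∧ t ≫ φ = t' := by
  haveI : IsIso ψ.left := by change IsIso ((Over.forget _).map ψ); infer_instance
  have e' : t'.base.left = t.base.left ≫ ψ.left := by rw [← e]; rfl
  haveI : IsOpenImmersion t'.base.left := by rw [e']; infer_instance
  haveI h1 : IsIso t.c := isIso_c_fam t (𝟙 _) (a := a) (b := b) (by
    rw [← hr]; congr 1) hab hx
  have e'' : t'.base.left ≫ inv ψ.left = t.base.left := by
    rw [e', Category.assoc, IsIso.hom_inv_id, Category.comp_id]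
  haveI h2 : IsIso t'.c := isIso_c_fam t' (inv ψ.left) (a := a) (b := b) (by rw [← hr]; congr 1) hab hx'
  exact existsUnique_fam t t' ψ e

/-- Morphisms of any full subcategory of flat quasi-coherent families extend uniquely. -/
theorem uniqAt_sub (Q : ModSt.Obj f → Prop) (hQ : ∀ x, Q x → ModSt.IsQCohObj x) {V T : Over S} (i : V ⟶ T)
    [IsOpenImmersion i.left] [IsAffine T.left] {a b : Γ(T.left, ⊤)}
    (hr : i.left.opensRange = T.left.basicOpen a ⊔ T.left.basicOpen b) (hab : Hart a b Γ(T.left, ⊤)) :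
    UniqAt i (toSelf (AlgSt.fullSub (ModSt.Fam f) Q)) := by
  apply uniqAt_self
  intro xv x x' t t' ψ hψ ht ht' e
  subst_hom_lift (AlgSt.fullSub (ModSt.Fam f) Q).p i t
  haveI i1 : IsOpenImmersion t.hom.base.left := ‹IsOpenImmersion _›
  haveI : IsAffine x.obj.base.left := ‹IsAffine _›
  obtain ⟨φ, ⟨h3, h4⟩, h5⟩ := existsUnique_obj t.hom t'.hom (a := a) (b := b) hr hab (hQ _ x.property)
    (hQ _ x'.property) ψ e
  refine ⟨ObjectProperty.homMk φ, ⟨h3, ObjectProperty.hom_ext _ h4⟩, ?_⟩
  rintro φ' ⟨h6, h7⟩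
  exact ObjectProperty.hom_ext _ (h5 φ'.hom ⟨h6, congrArg (fun t => t.hom) h7⟩)

end K943.CohUniq
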