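import Groth.Agent.ThetaS.K943.OpenCart
import Groth.Agent.ThetaS.K943.LocPair
import Groth.Prelude.Def_LiftSq

/-!
# Unique extension of morphisms in the category of families of modules

If the comparison maps of `t : v ⟶ x` and `t' : v ⟶ x'` are isomorphisms then every isomorphism of bases compatible
with `t`, `t'` lifts uniquely to a morphism `x ⟶ x'` compatible with `t`, `t'`.
-/

set_option backward.isDefEq.respectTransparency false
set_option backward.isDefEq.respectTransparency.types false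
set_option autoImplicit false
set_option linter.style.haveILetI false
universe u

open CategoryTheory CategoryTheory.Limits AlgebraicGeometry TopologicalSpace Opposite
open K943.OpenCart K943.Depth2 K943.LocPair

namespace K943.FamUniq

variable {X S : Scheme.{u}} {f : X ⟶ S}

theorem exists_c {v x x' : ModSt.Obj f} (t : v ⟶ x) [IsIso t.c] (top : x.XT ⟶ x'.XT) (top' : v.XT ⟶ x'.XT)
    (h : t.top ≫ top = top') (c' : x'.E ⟶ (Scheme.Modules.pushforward top').obj v.E) [IsIso c'] :
    ∃ c : x'.E ⟶ (Scheme.Modules.pushforward top).obj x.E, IsIso c ∧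
      ∀ (U : x'.XT.Opens) (s : Γ(x'.E, U)), HEq (t.c.app (top ⁻¹ᵁ U) (c.app U s)) (c'.app U s) := by
  subst h
  refine ⟨c' ≫ (Scheme.Modules.pushforwardComp t.top top).inv.app v.E ≫
    (Scheme.Modules.pushforward top).map (inv t.c), inferInstance, fun U s => heq_of_eq ?_⟩
  have h1 : (inv t.c ≫ t.c).app (top ⁻¹ᵁ U) = 𝟙 _ := by rw [IsIso.inv_hom_id]; rfl
  exact congr($h1 (c'.app U s))

theorem existsUnique_fam {v x x' : ModSt.Obj f} (t : v ⟶ x) (t' : v ⟶ x') [IsIso t.c] [IsIso t'.c]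
    (ψ : x.base ⟶ x'.base) [IsIso ψ] (e : t.base ≫ ψ = t'.base) :
    ∃! φ : x ⟶ x', φ.base = ψ ∧ t ≫ φ = t' := by
  have hw : x.p ≫ f = (x.q ≫ ψ.left) ≫ x'.base.hom := by
    rw [Category.assoc, Over.w ψ]; exact x.isPullback.w
  let top : x.XT ⟶ x'.XT := x'.isPullback.lift x.p (x.q ≫ ψ.left) hw
  have hp : top ≫ x'.p = x.p := x'.isPullback.lift_fst _ _ _
  have hq : top ≫ x'.q = x.q ≫ ψ.left := x'.isPullback.lift_snd _ _ _
  have htop : t.top ≫ top = t'.top := by
    apply x'.isPullback.hom_ext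
    · rw [Category.assoc, hp, t.w_p, t'.w_p]
    · rw [Category.assoc, hq, t'.w_q, reassoc_of% t.w_q, ← e]; rfl
  have hpb : IsPullback top x.q x'.q ψ.left := by
    have h : IsPullback (top ≫ x'.p) x.q f (ψ.left ≫ x'.base.hom) := by
      rw [hp, Over.w ψ]; exact x.isPullback
    exact IsPullback.of_right h hq x'.isPullback
  haveI : IsIso ψ.left := by change IsIso ((Over.forget S).map ψ); infer_instance
  haveI : IsIso top := hpb.isIso_fst_of_isIso
  obtain ⟨c, hc, hc'⟩ := exists_c t top t'.top htop t'.c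
  let φ : x ⟶ x' := { base := ψ, top := top, w_p := hp, w_q := hq, c := c, cart := isCart_of_isIso top c }
  refine ⟨φ, ⟨rfl, ?_⟩, ?_⟩
  · refine ModSt.Obj.Hom.ext' e htop fun U s => ?_
    exact hc' U s
  · rintro φ' ⟨h1, h2⟩
    have htop' : φ'.top = top := by
      apply x'.isPullback.hom_ext
      · rw [φ'.w_p, hp]
      · rw [φ'.w_q, h1, hq]
    obtain ⟨b, τ, wp, wq, c₁, hcart⟩ := φ'
    change b = ψ at h1
    change τ = top at htop'
    subst h1
    subst htop'
    have h3 : ∀ (U : x'.XT.Opens) (s : Γ(x'.E, U)), t.c.app (top ⁻¹ᵁ U) (c₁.app U s) =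
        t.c.app (top ⁻¹ᵁ U) (c.app U s) := by
      intro U s
      have h4 : t ≫ φ = t' := ModSt.Obj.Hom.ext' e htop fun U s => hc' U s
      have h5 : t ≫ (⟨b, top, wp, wq, c₁, hcart⟩ : x ⟶ x') = t ≫ φ := h2.trans h4.symm
      have h6 : ∀ {A B : ModSt.Obj f} {φ ψ : A ⟶ B} (h : φ = ψ) (U : B.XT.Opens) (s : Γ(B.E, U)),
          HEq (φ.c.app U s) (ψ.c.app U s) := by
        rintro A B φ ψ rfl U s; rfl
      exact eq_of_heq (h6 h5 U s)
    refine ModSt.Obj.Hom.ext' rfl rfl fun U s => heq_of_eq ?_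
    have h4 : Function.Injective (t.c.app (top ⁻¹ᵁ U)) :=
      (ConcreteCategory.bijective_of_isIso (t.c.app (top ⁻¹ᵁ U))).1
    exact h4 (h3 U s)

end K943.FamUniq
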