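import Mathlib.RingTheory.Smooth.IntegralClosure
import Mathlib.RingTheory.Localization.BaseChange
import Mathlib.RingTheory.Localization.Away.Basic
import Mathlib.RingTheory.RingHom.Smooth

/-!
# Integrally closed in an overring: smooth base change
-/

set_option autoImplicit false

open scoped TensorProduct

namespace K943.IntClos

/-- Every element of `B` integral over `A` comes from `A`. -/
def IC {A B : Type*} [CommRing A] [CommRing B] (f : A →+* B) : Prop :=
  ∀ y : B, f.IsIntegralElem y → y ∈ Set.range f

variable {A A' B B' : Type*} [CommRing A] [CommRing A'] [CommRing B] [CommRing B'] [Algebra A A'] [Algebra A B]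

theorem IC.tensor [Algebra.Smooth A B] (h : IC (algebraMap A A')) : IC (algebraMap B (B ⊗[A] A')) := by
  intro z hz
  obtain ⟨y, hy⟩ := (TensorProduct.toIntegralClosure_bijective_of_smooth (R := A) (S := B) (B := A')).2 ⟨z, hz⟩
  have key : ∀ y : B ⊗[A] integralClosure A A',
      ((TensorProduct.toIntegralClosure A B A' y : integralClosure B (B ⊗[A] A')) : B ⊗[A] A') ∈
        Set.range (algebraMap B (B ⊗[A] A')) := by
    intro y
    induction y with
    | zero => exact ⟨0, by simp⟩
    | add x y hx hy =>
      obtain ⟨a, ha⟩ := hx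
      obtain ⟨b, hb⟩ := hy
      exact ⟨a + b, by rw [map_add, ha, hb, map_add]; rfl⟩
    | tmul b c =>
      obtain ⟨a, ha⟩ := h c.1 c.2
      refine ⟨a • b, ?_⟩
      change _ = b ⊗ₜ[A] c.1
      rw [← ha, Algebra.TensorProduct.algebraMap_apply, Algebra.algebraMap_self, RingHom.id_apply,
        TensorProduct.smul_tmul, Algebra.algebraMap_eq_smul_one]
  have := key y
  rwa [hy] at this

theorem IC.of_algEquiv {C C' : Type*} [CommRing C] [CommRing C'] [Algebra B C] [Algebra B C'] (e : C ≃ₐ[B] C')
    (h : IC (algebraMap B C)) : IC (algebraMap B C') := by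
  intro y hy
  have h1 : IsIntegral B (e.symm y) := IsIntegral.map e.symm.toAlgHom (show IsIntegral B y from hy)
  obtain ⟨b, hb⟩ := h _ h1
  exact ⟨b, by rw [← e.apply_symm_apply y, ← hb, e.commutes]⟩

/-- Smooth base change for the localization away from an element. -/
theorem IC.away [Algebra.Smooth A B] [Algebra B B'] (x : A) [IsLocalization.Away x A']
    [IsLocalization.Away (algebraMap A B x) B'] (h : IC (algebraMap A A')) : IC (algebraMap B B') := by
  have h1 : IsLocalization (Algebra.algebraMapSubmonoid B (Submonoid.powers x)) (B ⊗[A] A') := inferInstance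
  have h2 : Algebra.algebraMapSubmonoid B (Submonoid.powers x) = Submonoid.powers (algebraMap A B x) :=
    Submonoid.map_powers _ _
  rw [h2] at h1
  exact (h.tensor (B := B)).of_algEquiv (IsLocalization.algEquiv (Submonoid.powers (algebraMap A B x)) _ _)

/-- A normal domain is integrally closed in its localizations. -/
theorem IC.of_isIntegrallyClosed [IsDomain A] [IsIntegrallyClosed A] (x : A) (hx : x ≠ 0) [IsLocalization.Away x A'] :
    IC (algebraMap A A') := by
  intro y hy
  have hx' : Submonoid.powers x ≤ nonZeroDivisors A := powers_le_nonZeroDivisors_of_noZeroDivisors hx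
  let K := FractionRing A
  have hu : ∀ z : Submonoid.powers x, IsUnit (algebraMap A K z) := fun z =>
    IsLocalization.map_units K (⟨z, hx' z.2⟩ : nonZeroDivisors A)
  let φ : A' →+* K := IsLocalization.lift (M := Submonoid.powers x) hu
  have hφ : ∀ a, φ (algebraMap A A' a) = algebraMap A K a := fun a => IsLocalization.lift_eq hu a
  have hinj : Function.Injective φ := by
    rw [IsLocalization.lift_injective_iff]
    intro a b
    rw [(IsLocalization.injective A' hx').eq_iff, (IsFractionRing.injective A K).eq_iff]
  have h1 : IsIntegral A (φ y) := by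
    obtain ⟨p, hp, hpy⟩ := hy
    refine ⟨p, hp, ?_⟩
    have h2 : algebraMap A K = φ.comp (algebraMap A A') := RingHom.ext fun a => (hφ a).symm
    rw [h2, ← Polynomial.hom_eval₂, hpy, map_zero]
  obtain ⟨a, ha⟩ := IsIntegrallyClosed.isIntegral_iff.1 h1
  exact ⟨a, hinj (by rw [hφ, ha])⟩

end K943.IntClos
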