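import Groth.Agent.ThetaS.K943.LocGlue

/-!
# Lifting squares against the inclusion of a subcategory: reduction to a covering object
-/

set_option backward.isDefEq.respectTransparency false
set_option backward.isDefEq.respectTransparency.types false
set_option autoImplicit false
set_option linter.style.haveILetI false

universe v₄ u₄ v₃ u₃ v₂ u₂ v u

open CategoryTheory Opposite FibCat K943.FibBase K943.CoverExt K943.LocLift K943.LocLift.LL K943.LocGlue

namespace K943.LiftGlue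

variable {C : Type u} [Category.{v} C]
variable {ℬ : BasedCategory.{v₂, u₂} C} {Q : ℬ.obj → Prop}
variable {𝒳 : BasedCategory.{v₃, u₃} C} {𝒴 : BasedCategory.{v₄, u₄} C} {f : 𝒳 ⥤ᵇ 𝒴}
variable [hℬ : IsFibGrpd ℬ.p] [h𝒳 : IsFibGrpd 𝒳.p] [h𝒴 : IsFibGrpd 𝒴.p]

/-- The property `P` on the full subcategory on `Q`. -/
abbrev resP (Q P : ℬ.obj → Prop) : (sub ℬ Q).obj → Prop := fun a => P a.obj

omit hℬ in
theorem closedInto_resP {P : ℬ.obj → Prop} (hP : ClosedInto P) : ClosedInto (resP Q P) :=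
  fun _ _ k h => hP k.hom h

/-- The covering sieve of an object of the full subcategory is the one in `ℬ`. -/
theorem cov_resP (hQ : ClosedInto Q) {P : ℬ.obj → Prop} (hP : ClosedInto P) (a : (sub ℬ Q).obj) :
    haveI := isFibGrpd_sub hQ
    cov (ℬ := sub ℬ Q) (closedInto_resP hP) a = cov hP a.obj := by
  haveI := isFibGrpd_sub hQ
  apply Sieve.ext
  intro V g
  constructor
  · rintro ⟨a', k, h1, h2⟩
    refine ⟨a'.obj, k.hom, h1, ?_⟩
    exact IsHomLift.of_fac' _ _ _ (IsHomLift.domain_eq (sub ℬ Q).p g k) rfl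
      (IsHomLift.fac' (sub ℬ Q).p g k)
  · rintro ⟨a', k, h1, h2⟩
    refine ⟨⟨a', hQ k a.property⟩, ObjectProperty.homMk k, h1, ?_⟩
    exact IsHomLift.of_fac' _ _ _ (IsHomLift.domain_eq ℬ.p g k) rfl (IsHomLift.fac' ℬ.p g k)

omit hℬ h𝒳 h𝒴 in
/-- A compatible family of local dotted arrows on a covering sub gives a dotted arrow. -/
theorem hasLift_of_family_aux (sq : LiftSq.Sq (subI ℬ Q) f) {P : ℬ.obj → Prop}
    (ℓ : ∀ b : (sub ℬ P).obj, LL sq b.obj)
    (F : ∀ {b c : (sub ℬ P).obj} (_ : b ⟶ c), (ℓ b).pt ⟶ (ℓ c).pt)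
    (hF : ∀ {b c : (sub ℬ P).obj} (m : b ⟶ c), IsH (ℓ b) (ℓ c) m.hom (F m))
    (hid : ∀ b : (sub ℬ P).obj, F (𝟙 b) = 𝟙 _)
    (hcomp : ∀ {b c d : (sub ℬ P).obj} (m : b ⟶ c) (n : c ⟶ d), F (m ≫ n) = F m ≫ F n) :
    ∃ (fn' : sub ℬ P ⥤ᵇ 𝒳) (b' : BasedFunctor.comp (subI ℬ P) sq.bot ⟶ BasedFunctor.comp fn' f)
      (t' : ∀ (a : (sub (sub ℬ Q) (resP Q P)).obj), sq.top.obj a.obj ⟶ fn'.obj ⟨a.obj.obj, a.property⟩),
      (∀ a, 𝒳.p.IsHomLift (𝟙 (ℬ.p.obj a.obj.obj)) (t' a)) ∧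
      (∀ {a a' : (sub (sub ℬ Q) (resP Q P)).obj} (n : a' ⟶ a), sq.top.map n.hom ≫ t' a =
        t' a' ≫ fn'.map (ObjectProperty.homMk n.hom.hom)) ∧
      (∀ a : (sub (sub ℬ Q) (resP Q P)).obj, b'.toNatTrans.app ⟨a.obj.obj, a.property⟩ =
        sq.iso.hom.toNatTrans.app a.obj ≫ f.map (t' a)) := by
  let fn' : sub ℬ P ⥤ᵇ 𝒳 :=
    { toFunctor :=
        { obj := fun b => (ℓ b).pt
          map := fun m => F m
          map_id := hid
          map_comp := hcomp }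
      w := CategoryTheory.Functor.ext (fun b => (ℓ b).hpt) (fun b b' m => by
        haveI := (hF m).lift
        exact IsHomLift.fac' 𝒳.p (ℬ.p.map m.hom) (F m)) }
  let b' : BasedFunctor.comp (subI ℬ P) sq.bot ⟶ BasedFunctor.comp fn' f :=
    { toNatTrans := { app := fun b => (ℓ b).bot, naturality := fun b c m => ((hF m).w_bot).symm }
      isHomLift' := fun b => (ℓ b).hbot }
  refine ⟨fn', b', fun a => (ℓ ⟨a.obj.obj, a.property⟩).t a.obj (𝟙 _), ?_, ?_, ?_⟩
  · intro a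
    have := (ℓ ⟨a.obj.obj, a.property⟩).ht a.obj (𝟙 _)
    rwa [ℬ.p.map_id] at this
  · intro a a' n
    have h1 := (ℓ ⟨a.obj.obj, a.property⟩).nat n.hom (𝟙 _)
    have h2 := (hF (ObjectProperty.homMk n.hom.hom : (⟨a'.obj.obj, a'.property⟩ : (sub ℬ P).obj) ⟶
      ⟨a.obj.obj, a.property⟩)).w_t a'.obj (𝟙 _)
    change sq.top.map n.hom ≫ (ℓ ⟨a.obj.obj, a.property⟩).t a.obj (𝟙 _) =
      (ℓ ⟨a'.obj.obj, a'.property⟩).t a'.obj (𝟙 _) ≫ F (ObjectProperty.homMk n.hom.hom)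
    rw [h1, h2, Category.comp_id, Category.id_comp]
    rfl
  · intro a
    have h1 := (ℓ ⟨a.obj.obj, a.property⟩).compat a.obj (𝟙 _)
    have e2 : sq.bot.map (𝟙 a.obj.obj) = 𝟙 _ := sq.bot.toFunctor.map_id _
    rw [e2] at h1
    exact (Category.id_comp _).symm.trans h1

/-- Existence of a dotted arrow from a compatible family on a covering sub. -/
theorem hasLift_of_family (hQ : ClosedInto Q) (sq : LiftSq.Sq (subI ℬ Q) f) {P : ℬ.obj → Prop}
    (hP : ClosedInto P) (hst : ∀ b : ℬ.obj, Stk.IsStackFor (cov hP b) 𝒳)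
    (hpre : ∀ b : ℬ.obj, Stk.IsPrestackFor (cov hP b) 𝒴)
    (ℓ : ∀ b : (sub ℬ P).obj, LL sq b.obj)
    (F : ∀ {b c : (sub ℬ P).obj} (_ : b ⟶ c), (ℓ b).pt ⟶ (ℓ c).pt)
    (hF : ∀ {b c : (sub ℬ P).obj} (m : b ⟶ c), IsH (ℓ b) (ℓ c) m.hom (F m))
    (hid : ∀ b : (sub ℬ P).obj, F (𝟙 b) = 𝟙 _)
    (hcomp : ∀ {b c d : (sub ℬ P).obj} (m : b ⟶ c) (n : c ⟶ d), F (m ≫ n) = F m ≫ F n) :
    sq.HasLift := by
  obtain ⟨fn', b', t', ht1, ht2, ht3⟩ := hasLift_of_family_aux sq ℓ @F @hF hid @hcomp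
  have hpreX : ∀ b : ℬ.obj, Stk.IsPrestackFor (cov hP b) 𝒳 := fun b => prestackFor_of_stackFor (hst b)
  obtain ⟨fn, ⟨ι⟩⟩ := exists_ext hP hst fn'
  haveI hA := isFibGrpd_sub hQ
  have hP' : ClosedInto (resP Q P) := closedInto_resP hP
  have hpreX' : ∀ a : (sub ℬ Q).obj, Stk.IsPrestackFor (cov (ℬ := sub ℬ Q) hP' a) 𝒳 := fun a => by
    have := hpreX a.obj
    rwa [← cov_resP hQ hP a] at this
  have hpreY' : ∀ a : (sub ℬ Q).obj, Stk.IsPrestackFor (cov (ℬ := sub ℬ Q) hP' a) 𝒴 := fun a => by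
    have := hpre a.obj
    rwa [← cov_resP hQ hP a] at this
  -- the bottom triangle
  haveI : ∀ b, IsIso (b'.toNatTrans.app b) := fun b => by
    haveI : 𝒴.p.IsHomLift (𝟙 (ℬ.p.obj b.obj)) (b'.toNatTrans.app b) := b'.isHomLift' b
    exact isIso_of_lift_id 𝒴.p (T := ℬ.p.obj b.obj) _
  haveI : IsIso (X := (BasedFunctor.comp (subI ℬ P) sq.bot).toFunctor) b'.toNatTrans :=
    NatIso.isIso_of_isIso_app _
  haveI : IsIso b' := BasedNatIso.isIso_of_toNatTrans_isIso b'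
  haveI : IsIso (BasedCategory.whiskerRight ι.inv f) :=
    ⟨BasedCategory.whiskerRight ι.hom f, by
      rw [← LiftSq.whiskerRight_comp', ι.inv_hom_id, LiftSq.whiskerRight_id'], by
      rw [← LiftSq.whiskerRight_comp', ι.hom_inv_id, LiftSq.whiskerRight_id']⟩
  obtain ⟨isoBot, hBot⟩ := exists_ext_iso (F := sq.bot) (G := BasedFunctor.comp fn f) hP hpre
    (asIso (b' ≫ BasedCategory.whiskerRight ι.inv f))
  -- the top triangle
  let τ : BasedFunctor.comp (subI (sub ℬ Q) (resP Q P)) sq.top ⟶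
      BasedFunctor.comp (subI (sub ℬ Q) (resP Q P)) (BasedFunctor.comp (subI ℬ Q) fn) :=
    { toNatTrans :=
        { app := fun a => t' a ≫ ι.inv.toNatTrans.app ⟨a.obj.obj, a.property⟩
          naturality := fun a' a n => by
            have h1 := ht2 n
            have h2 := ι.inv.toNatTrans.naturality (ObjectProperty.homMk n.hom.hom :
              (⟨a'.obj.obj, a'.property⟩ : (sub ℬ P).obj) ⟶ ⟨a.obj.obj, a.property⟩)
            change sq.top.map n.hom ≫ t' a ≫ ι.inv.toNatTrans.app ⟨a.obj.obj, a.property⟩ =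
              (t' a' ≫ ι.inv.toNatTrans.app ⟨a'.obj.obj, a'.property⟩) ≫ fn.map n.hom.hom
            rw [← Category.assoc, h1, Category.assoc, Category.assoc, h2]
            rfl }
      isHomLift' := fun a => by
        haveI := ht1 a
        haveI : 𝒳.p.IsHomLift (𝟙 (ℬ.p.obj a.obj.obj))
          (ι.inv.toNatTrans.app ⟨a.obj.obj, a.property⟩) := ι.inv.isHomLift' ⟨a.obj.obj, a.property⟩
        change 𝒳.p.IsHomLift (𝟙 (ℬ.p.obj a.obj.obj)) (t' a ≫ ι.inv.toNatTrans.app ⟨a.obj.obj, a.property⟩)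
        infer_instance }
  haveI : ∀ a, IsIso (τ.toNatTrans.app a) := fun a => by
    haveI : 𝒳.p.IsHomLift (𝟙 (ℬ.p.obj a.obj.obj)) (τ.toNatTrans.app a) := τ.isHomLift' a
    exact isIso_of_lift_id 𝒳.p (T := ℬ.p.obj a.obj.obj) _
  haveI : IsIso (X := (BasedFunctor.comp (subI (sub ℬ Q) (resP Q P)) sq.top).toFunctor) τ.toNatTrans :=
    NatIso.isIso_of_isIso_app _
  haveI : IsIso τ := BasedNatIso.isIso_of_toNatTrans_isIso τ
  obtain ⟨isoTop, hTop⟩ := exists_ext_iso (F := sq.top) (G := BasedFunctor.comp (subI ℬ Q) fn) hP' hpreX'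
    (asIso τ)
  refine ⟨⟨fn, isoTop.symm, isoBot, ?_⟩⟩
  apply nat_ext hP' hpreY'
  have key : BasedCategory.whiskerLeft (subI ℬ Q) isoBot.hom =
      sq.iso.hom ≫ BasedCategory.whiskerRight isoTop.hom f := by
    apply nat_ext hP' hpreY'
    apply BasedNatTrans.homCategory.ext
    ext a
    have e1 := congrArg (fun t : BasedFunctor.comp (subI ℬ P) sq.bot ⟶ BasedFunctor.comp (subI ℬ P)
      (BasedFunctor.comp fn f) => t.toNatTrans.app ⟨a.obj.obj, a.property⟩) hBot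
    have e2 := congrArg (fun t : BasedFunctor.comp (subI (sub ℬ Q) (resP Q P)) sq.top ⟶
      BasedFunctor.comp (subI (sub ℬ Q) (resP Q P)) (BasedFunctor.comp (subI ℬ Q) fn) =>
        t.toNatTrans.app a) hTop
    have e1' : isoBot.hom.toNatTrans.app a.obj.obj = b'.toNatTrans.app ⟨a.obj.obj, a.property⟩ ≫
      f.map (ι.inv.toNatTrans.app ⟨a.obj.obj, a.property⟩) := e1
    have e2' : isoTop.hom.toNatTrans.app a.obj = t' a ≫ ι.inv.toNatTrans.app ⟨a.obj.obj, a.property⟩ := e2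
    change isoBot.hom.toNatTrans.app a.obj.obj = sq.iso.hom.toNatTrans.app a.obj ≫
      f.map (isoTop.hom.toNatTrans.app a.obj)
    rw [e1', ht3, e2']
    erw [f.toFunctor.map_comp]
    rw [Category.assoc]
  rw [key, Category.assoc, ← LiftSq.whiskerRight_comp']
  have : isoTop.hom ≫ isoTop.symm.hom = 𝟙 _ := isoTop.hom_inv_id
  rw [this, LiftSq.whiskerRight_id', Category.comp_id]

section OfLift

variable {sq : LiftSq.Sq (subI ℬ Q) f}

omit hℬ h𝒳 h𝒴 in
/-- The local dotted arrows of a dotted arrow. -/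
def ofLift (d : sq.Lift) (b : ℬ.obj) : LL sq b where
  pt := d.fn.obj b
  bot := d.isoBot.hom.toNatTrans.app b
  hbot := d.isoBot.hom.isHomLift' b
  t := fun a m => d.isoTop.inv.toNatTrans.app a ≫ d.fn.map m
  ht := fun a m => by
    haveI : 𝒳.p.IsHomLift (𝟙 (ℬ.p.obj a.obj)) (d.isoTop.inv.toNatTrans.app a) := d.isoTop.inv.isHomLift' a
    haveI : ℬ.p.IsHomLift (ℬ.p.map m) m := IsHomLift.map ℬ.p m
    haveI : 𝒳.p.IsHomLift (ℬ.p.map m) (d.fn.map m) := BasedFunctor.preserves_isHomLift d.fn _ _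
    change 𝒳.p.IsHomLift (ℬ.p.map m) (d.isoTop.inv.toNatTrans.app a ≫ d.fn.map m)
    infer_instance
  nat := fun {a a'} n m => by
    have h := d.isoTop.inv.toNatTrans.naturality n
    have h' : sq.top.map n ≫ d.isoTop.inv.toNatTrans.app a =
      d.isoTop.inv.toNatTrans.app a' ≫ d.fn.map n.hom := h
    have e : d.fn.map (n.hom ≫ m) = d.fn.map n.hom ≫ d.fn.map m := d.fn.toFunctor.map_comp _ _
    rw [← Category.assoc, h', e, Category.assoc]
  compat := fun a m => by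
    have h1 : sq.bot.map m ≫ d.isoBot.hom.toNatTrans.app b =
      d.isoBot.hom.toNatTrans.app a.obj ≫ f.map (d.fn.map m) := d.isoBot.hom.toNatTrans.naturality m
    have h2 : d.isoBot.hom.toNatTrans.app a.obj ≫ f.map (d.isoTop.hom.toNatTrans.app a) =
      sq.iso.hom.toNatTrans.app a := congrArg (fun t : BasedFunctor.comp (subI ℬ Q) sq.bot ⟶
        BasedFunctor.comp sq.top f => t.toNatTrans.app a) d.w
    have h3 : d.isoTop.hom.toNatTrans.app a ≫ d.isoTop.inv.toNatTrans.app a = 𝟙 _ :=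
      congrArg (fun t : BasedFunctor.comp (subI ℬ Q) d.fn ⟶ BasedFunctor.comp (subI ℬ Q) d.fn =>
        t.toNatTrans.app a) d.isoTop.hom_inv_id
    have h4 : f.map (d.isoTop.inv.toNatTrans.app a ≫ d.fn.map m) =
      f.map (d.isoTop.inv.toNatTrans.app a) ≫ f.map (d.fn.map m) := f.toFunctor.map_comp _ _
    have h5 : f.map (d.isoTop.hom.toNatTrans.app a) ≫ f.map (d.isoTop.inv.toNatTrans.app a) = 𝟙 _ := by
      have := f.toFunctor.map_comp (d.isoTop.hom.toNatTrans.app a) (d.isoTop.inv.toNatTrans.app a)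
      rw [h3] at this
      exact this.symm.trans (f.toFunctor.map_id _)
    rw [h1, h4, ← h2, Category.assoc, ← Category.assoc (f.map (d.isoTop.hom.toNatTrans.app a)), h5,
      Category.id_comp]

omit hℬ h𝒳 h𝒴 in
theorem isH_ofLift (d : sq.Lift) {b c : ℬ.obj} (m : b ⟶ c) :
    IsH (ofLift d b) (ofLift d c) m (d.fn.map m) where
  lift := by
    haveI : ℬ.p.IsHomLift (ℬ.p.map m) m := IsHomLift.map ℬ.p m
    exact BasedFunctor.preserves_isHomLift d.fn _ _
  w_bot := (d.isoBot.hom.toNatTrans.naturality m).symm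
  w_t := fun a n => by
    have e : d.fn.map (n ≫ m) = d.fn.map n ≫ d.fn.map m := d.fn.toFunctor.map_comp _ _
    change (d.isoTop.inv.toNatTrans.app a ≫ d.fn.map n) ≫ d.fn.map m =
      d.isoTop.inv.toNatTrans.app a ≫ d.fn.map (n ≫ m)
    rw [e, Category.assoc]

omit hℬ h𝒳 h𝒴 in
theorem isH_hom {d d' : sq.Lift} (θ : d ⟶ d') (b : ℬ.obj) :
    IsH (ofLift d b) (ofLift d' b) (𝟙 b) (θ.hom.toNatTrans.app b) where
  lift := by rw [ℬ.p.map_id]; exact θ.hom.isHomLift' b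
  w_bot := by
    have h := congrArg (fun t : sq.bot ⟶ BasedFunctor.comp d'.fn f => t.toNatTrans.app b) θ.w_bot
    have h' : d.isoBot.hom.toNatTrans.app b ≫ f.map (θ.hom.toNatTrans.app b) =
      d'.isoBot.hom.toNatTrans.app b := h
    have e2 : sq.bot.map (𝟙 b) = 𝟙 _ := sq.bot.toFunctor.map_id _
    rw [e2]; exact h'.trans (Category.id_comp _).symm
  w_t := fun a n => by
    have h := congrArg (fun t : BasedFunctor.comp (subI ℬ Q) d.fn ⟶ sq.top => t.toNatTrans.app a) θ.w_top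
    have h' : θ.hom.toNatTrans.app a.obj ≫ d'.isoTop.hom.toNatTrans.app a = d.isoTop.hom.toNatTrans.app a := h
    have h3 : d.isoTop.inv.toNatTrans.app a ≫ d.isoTop.hom.toNatTrans.app a = 𝟙 _ :=
      congrArg (fun t : sq.top ⟶ sq.top => t.toNatTrans.app a) d.isoTop.inv_hom_id
    have h4 : d'.isoTop.hom.toNatTrans.app a ≫ d'.isoTop.inv.toNatTrans.app a = 𝟙 _ :=
      congrArg (fun t : BasedFunctor.comp (subI ℬ Q) d'.fn ⟶ BasedFunctor.comp (subI ℬ Q) d'.fn =>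
        t.toNatTrans.app a) d'.isoTop.hom_inv_id
    have h5 : d.isoTop.inv.toNatTrans.app a ≫ θ.hom.toNatTrans.app a.obj =
        d'.isoTop.inv.toNatTrans.app a := by
      calc d.isoTop.inv.toNatTrans.app a ≫ θ.hom.toNatTrans.app a.obj
          = d.isoTop.inv.toNatTrans.app a ≫ θ.hom.toNatTrans.app a.obj ≫
              d'.isoTop.hom.toNatTrans.app a ≫ d'.isoTop.inv.toNatTrans.app a := by
            rw [h4]; erw [Category.comp_id]
        _ = d.isoTop.inv.toNatTrans.app a ≫ d.isoTop.hom.toNatTrans.app a ≫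
              d'.isoTop.inv.toNatTrans.app a := by rw [← h', Category.assoc]
        _ = d'.isoTop.inv.toNatTrans.app a := by rw [← Category.assoc, h3, Category.id_comp]
    have h6 : d.fn.map n ≫ θ.hom.toNatTrans.app b = θ.hom.toNatTrans.app a.obj ≫ d'.fn.map n :=
      θ.hom.toNatTrans.naturality n
    change (d.isoTop.inv.toNatTrans.app a ≫ d.fn.map n) ≫ θ.hom.toNatTrans.app b =
      d'.isoTop.inv.toNatTrans.app a ≫ d'.fn.map (n ≫ 𝟙 b)
    rw [Category.assoc, h6, ← Category.assoc, h5, Category.comp_id]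

end OfLift

end K943.LiftGlue
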