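import Groth.Agent.ThetaS.K943.CoverExt

/-!
# Local dotted arrows of a lifting square at an object of `ℬ`

For a square `sq` over `(subI ℬ Q, f)`, `LL sq b` are the dotted arrows of the square at the object `b` of `ℬ`.
-/

set_option backward.isDefEq.respectTransparency false
set_option backward.isDefEq.respectTransparency.types false
set_option autoImplicit false
set_option linter.style.haveILetI false

universe v₄ u₄ v₃ u₃ v₂ u₂ v u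

open CategoryTheory Opposite FibCat K943.FibBase K943.CoverExt

namespace K943.LocLift

variable {C : Type u} [Category.{v} C]
variable {ℬ : BasedCategory.{v₂, u₂} C} {Q : ℬ.obj → Prop}
variable {𝒳 : BasedCategory.{v₃, u₃} C} {𝒴 : BasedCategory.{v₄, u₄} C} {f : 𝒳 ⥤ᵇ 𝒴}

/-- A local dotted arrow of the square at `b`: an object of `𝒳` over `p b`, an isomorphism over the identity of
its image with the bottom functor at `b`, and compatible arrows from the top functor's values on the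
objects over `b` with `Q`. -/
structure LL (sq : LiftSq.Sq (subI ℬ Q) f) (b : ℬ.obj) where
  /-- the object -/
  pt : 𝒳.obj
  /-- the bottom triangle -/
  bot : sq.bot.obj b ⟶ f.obj pt
  hbot : 𝒴.p.IsHomLift (𝟙 (ℬ.p.obj b)) bot
  /-- the top triangle -/
  t : ∀ (a : (sub ℬ Q).obj) (_ : a.obj ⟶ b), sq.top.obj a ⟶ pt
  ht : ∀ (a : (sub ℬ Q).obj) (m : a.obj ⟶ b), 𝒳.p.IsHomLift (ℬ.p.map m) (t a m)
  nat : ∀ {a a' : (sub ℬ Q).obj} (n : a' ⟶ a) (m : a.obj ⟶ b), sq.top.map n ≫ t a m = t a' (n.hom ≫ m)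
  compat : ∀ (a : (sub ℬ Q).obj) (m : a.obj ⟶ b),
    sq.bot.map m ≫ bot = sq.iso.hom.toNatTrans.app a ≫ f.map (t a m)

namespace LL

variable {sq : LiftSq.Sq (subI ℬ Q) f}

theorem hpt {b : ℬ.obj} (ℓ : LL sq b) : 𝒳.p.obj ℓ.pt = ℬ.p.obj b := by
  haveI := ℓ.hbot
  rw [← f.w_obj]
  exact IsHomLift.codomain_eq 𝒴.p (𝟙 (ℬ.p.obj b)) ℓ.bot

/-- `h` is a morphism of local dotted arrows over `m`. -/
structure IsH {b c : ℬ.obj} (ℓ : LL sq b) (ℓ' : LL sq c) (m : b ⟶ c) (h : ℓ.pt ⟶ ℓ'.pt) : Prop where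
  lift : 𝒳.p.IsHomLift (ℬ.p.map m) h
  w_bot : ℓ.bot ≫ f.map h = sq.bot.map m ≫ ℓ'.bot
  w_t : ∀ (a : (sub ℬ Q).obj) (n : a.obj ⟶ b), ℓ.t a n ≫ h = ℓ'.t a (n ≫ m)

theorem IsH.id {b : ℬ.obj} (ℓ : LL sq b) : IsH ℓ ℓ (𝟙 b) (𝟙 ℓ.pt) where
  lift := by rw [ℬ.p.map_id]; exact IsHomLift.id ℓ.hpt
  w_bot := by
    have e1 : f.map (𝟙 ℓ.pt) = 𝟙 _ := f.toFunctor.map_id _
    have e2 : sq.bot.map (𝟙 b) = 𝟙 _ := sq.bot.toFunctor.map_id _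
    rw [e1, e2]; exact (Category.comp_id _).trans (Category.id_comp _).symm
  w_t := fun a n => by rw [Category.comp_id, Category.comp_id]

theorem IsH.comp {a b c : ℬ.obj} {ℓ : LL sq a} {ℓ' : LL sq b} {ℓ'' : LL sq c} {n : a ⟶ b} {m : b ⟶ c}
    {h : ℓ.pt ⟶ ℓ'.pt} {h' : ℓ'.pt ⟶ ℓ''.pt} (H : IsH ℓ ℓ' n h) (H' : IsH ℓ' ℓ'' m h') :
    IsH ℓ ℓ'' (n ≫ m) (h ≫ h') where
  lift := by
    haveI := H.lift
    haveI := H'.lift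
    rw [ℬ.p.map_comp]; infer_instance
  w_bot := by
    have e1 : f.map (h ≫ h') = f.map h ≫ f.map h' := f.toFunctor.map_comp _ _
    have e2 : sq.bot.map (n ≫ m) = sq.bot.map n ≫ sq.bot.map m := sq.bot.toFunctor.map_comp _ _
    rw [e1, e2, ← Category.assoc, H.w_bot, Category.assoc, H'.w_bot, Category.assoc]
  w_t := fun a n => by rw [← Category.assoc, H.w_t, H'.w_t, Category.assoc]

variable [hℬ : IsFibGrpd ℬ.p] [h𝒳 : IsFibGrpd 𝒳.p] [h𝒴 : IsFibGrpd 𝒴.p]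

omit hℬ in
/-- Unique factorisation. -/
theorem IsH.exists_fac {a b c : ℬ.obj} {ℓ : LL sq a} {ℓ' : LL sq b} {ℓ'' : LL sq c} {n : a ⟶ b} {m : b ⟶ c}
    {h' : ℓ'.pt ⟶ ℓ''.pt} {h'' : ℓ.pt ⟶ ℓ''.pt} (H' : IsH ℓ' ℓ'' m h') (H'' : IsH ℓ ℓ'' (n ≫ m) h'') :
    ∃ χ : ℓ.pt ⟶ ℓ'.pt, IsH ℓ ℓ' n χ ∧ χ ≫ h' = h'' := by
  haveI := H'.lift
  haveI : 𝒳.p.IsHomLift (ℬ.p.map n ≫ ℬ.p.map m) h'' := by rw [← ℬ.p.map_comp]; exact H''.lift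
  obtain ⟨χ, ⟨h1, h2⟩, -⟩ := existsUnique_fac_lift 𝒳.p (ℬ.p.map n) (ℬ.p.map m) h' h''
  refine ⟨χ, ⟨h1, ?_, ?_⟩, h2⟩
  · haveI : 𝒴.p.IsHomLift (ℬ.p.map n) (f.map χ) := BasedFunctor.preserves_isHomLift f _ _
    haveI : 𝒴.p.IsHomLift (𝟙 (ℬ.p.obj a)) ℓ.bot := ℓ.hbot
    haveI : 𝒴.p.IsHomLift (𝟙 (ℬ.p.obj b)) ℓ'.bot := ℓ'.hbot
    haveI : ℬ.p.IsHomLift (ℬ.p.map n) n := IsHomLift.map ℬ.p n
    haveI : 𝒴.p.IsHomLift (ℬ.p.map n) (sq.bot.map n) := BasedFunctor.preserves_isHomLift sq.bot _ _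
    refine cart_ext_lift 𝒴.p (ℬ.p.map n) (f.map h') ?_
    have e1 : f.map h'' = f.map χ ≫ f.map h' := by rw [← h2]; exact f.toFunctor.map_comp _ _
    have e2 : sq.bot.map (n ≫ m) = sq.bot.map n ≫ sq.bot.map m := sq.bot.toFunctor.map_comp _ _
    rw [Category.assoc, ← e1, H''.w_bot, Category.assoc, H'.w_bot, e2, Category.assoc]
  · intro a' k
    haveI := ℓ.ht a' k
    haveI : 𝒳.p.IsHomLift (ℬ.p.map k ≫ ℬ.p.map n) (ℓ'.t a' (k ≫ n)) := by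
      rw [← ℬ.p.map_comp]; exact ℓ'.ht a' (k ≫ n)
    refine cart_ext_lift 𝒳.p (ℬ.p.map k ≫ ℬ.p.map n) h' ?_
    rw [Category.assoc, h2, H''.w_t, H'.w_t, Category.assoc]

omit hℬ h𝒴 in
theorem IsH.ext {a b c : ℬ.obj} {ℓ : LL sq a} {ℓ' : LL sq b} {ℓ'' : LL sq c} {n : a ⟶ b} {m : b ⟶ c}
    {h' : ℓ'.pt ⟶ ℓ''.pt} (_ : IsH ℓ' ℓ'' m h') {χ χ' : ℓ.pt ⟶ ℓ'.pt} (H : IsH ℓ ℓ' n χ)
    (H1 : IsH ℓ ℓ' n χ') (e : χ ≫ h' = χ' ≫ h') : χ = χ' := by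
  haveI := H.lift
  haveI := H1.lift
  exact cart_ext_lift 𝒳.p (ℬ.p.map n) h' e

omit hℬ in
/-- Pullback of local dotted arrows. -/
theorem exists_pullback {b c : ℬ.obj} (ℓ' : LL sq c) (m : b ⟶ c) :
    ∃ (ℓ : LL sq b) (h : ℓ.pt ⟶ ℓ'.pt), IsH ℓ ℓ' m h := by
  obtain ⟨x, h, hh⟩ := exists_lift_of_eq 𝒳.p (ℬ.p.map m) ℓ'.hpt
  haveI : ℬ.p.IsHomLift (ℬ.p.map m) m := IsHomLift.map ℬ.p m
  haveI : 𝒴.p.IsHomLift (ℬ.p.map m) (sq.bot.map m) := BasedFunctor.preserves_isHomLift sq.bot _ _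
  haveI : 𝒴.p.IsHomLift (ℬ.p.map m) (f.map h) := BasedFunctor.preserves_isHomLift f _ _
  haveI : 𝒴.p.IsHomLift (𝟙 (ℬ.p.obj c)) ℓ'.bot := ℓ'.hbot
  haveI : 𝒴.p.IsHomLift (𝟙 (ℬ.p.obj b) ≫ ℬ.p.map m) (sq.bot.map m ≫ ℓ'.bot) := by
    rw [Category.id_comp]; infer_instance
  obtain ⟨bot, ⟨hb1, hb2⟩, -⟩ := existsUnique_fac_lift 𝒴.p (𝟙 (ℬ.p.obj b)) (ℬ.p.map m) (f.map h)
    (sq.bot.map m ≫ ℓ'.bot)
  have ex : ∀ (a : (sub ℬ Q).obj) (n : a.obj ⟶ b), ∃ t : sq.top.obj a ⟶ x,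
      𝒳.p.IsHomLift (ℬ.p.map n) t ∧ t ≫ h = ℓ'.t a (n ≫ m) := by
    intro a n
    haveI : 𝒳.p.IsHomLift (ℬ.p.map n ≫ ℬ.p.map m) (ℓ'.t a (n ≫ m)) := by
      rw [← ℬ.p.map_comp]; exact ℓ'.ht _ _
    obtain ⟨t, ht, -⟩ := existsUnique_fac_lift 𝒳.p (ℬ.p.map n) (ℬ.p.map m) h (ℓ'.t a (n ≫ m))
    exact ⟨t, ht⟩
  choose t ht1 ht2 using ex
  refine ⟨{ pt := x, bot := bot, hbot := hb1, t := t, ht := ht1, nat := ?_, compat := ?_ }, h,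
    ⟨hh, hb2, fun a n => ht2 a n⟩⟩
  · intro a a' n k
    haveI := ht1 a k
    haveI : (sub ℬ Q).p.IsHomLift (ℬ.p.map n.hom) n := IsHomLift.map (sub ℬ Q).p n
    haveI : 𝒳.p.IsHomLift (ℬ.p.map n.hom) (sq.top.map n) := BasedFunctor.preserves_isHomLift sq.top _ _
    haveI : 𝒳.p.IsHomLift (ℬ.p.map n.hom ≫ ℬ.p.map k) (t a' (n.hom ≫ k)) := by
      rw [← ℬ.p.map_comp]; exact ht1 _ _
    refine cart_ext_lift 𝒳.p (ℬ.p.map n.hom ≫ ℬ.p.map k) h ?_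
    rw [Category.assoc, ht2, ht2, ℓ'.nat, Category.assoc]
  · intro a n
    haveI : ℬ.p.IsHomLift (ℬ.p.map n) n := IsHomLift.map ℬ.p n
    haveI : 𝒴.p.IsHomLift (ℬ.p.map n) (sq.bot.map n) := BasedFunctor.preserves_isHomLift sq.bot _ _
    haveI := ht1 a n
    haveI : 𝒴.p.IsHomLift (ℬ.p.map n) (f.map (t a n)) := BasedFunctor.preserves_isHomLift f _ _
    haveI : 𝒴.p.IsHomLift (𝟙 (ℬ.p.obj a.obj)) (sq.iso.hom.toNatTrans.app a) := sq.iso.hom.isHomLift' a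
    refine cart_ext_lift 𝒴.p (ℬ.p.map n) (f.map h) ?_
    have e1 : f.map (ℓ'.t a (n ≫ m)) = f.map (t a n) ≫ f.map h := by
      rw [← ht2]; exact f.toFunctor.map_comp _ _
    have e2 : sq.bot.map (n ≫ m) = sq.bot.map n ≫ sq.bot.map m := sq.bot.toFunctor.map_comp _ _
    rw [Category.assoc, hb2, Category.assoc, ← e1, ← ℓ'.compat, e2, Category.assoc]

end LL

end K943.LocLift
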