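import Groth.Agent.ThetaS.K943.ModPts
import Groth.Agent.IsoNat.K863.SepCore

/-!
# Lifting discrete valuation rings along good moduli spaces
-/

set_option autoImplicit false
set_option linter.style.haveILetI false
set_option backward.isDefEq.respectTransparency false
set_option backward.isDefEq.respectTransparency.types false
universe v₂ u₂ w v u
open CategoryTheory CategoryTheory.Limits AlgebraicGeometry Opposite Topology TopologicalSpace FibCat

namespace K943.ModDvr

open AlgSp AlgSt K943.SpVal K943.SpIso K735.Fib K735.Fp K735.Rep K735.Pts K735.PtsSp K735.Top K735.Cart K735.ClosedLim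
  K943.ModPts

variable {S : Scheme.{u}}

/-- The generic point of the spectrum of `R`, over `S`. -/
noncomputable abbrev gT {R : Type u} [CommRing R] [IsDomain R] (sR : Spec (CommRingCat.of R) ⟶ S) : Over S :=
  Over.mk (Spec.map (CommRingCat.ofHom (algebraMap R (FractionRing R))) ≫ sR)

/-- Its inclusion. -/
noncomputable abbrev gj {R : Type u} [CommRing R] [IsDomain R] (sR : Spec (CommRingCat.of R) ⟶ S) :
    gT sR ⟶ Over.mk sR :=
  Over.homMk (Spec.map (CommRingCat.ofHom (algebraMap R (FractionRing R)))) rfl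

/-- The map of spectra over `S` of a ring homomorphism. -/
noncomputable abbrev gm {R R' : Type u} [CommRing R] [CommRing R'] (φ : R →+* R') (sR : Spec (CommRingCat.of R) ⟶ S) :
    (Over.mk (Spec.map (CommRingCat.ofHom φ) ≫ sR) : Over S) ⟶ Over.mk sR :=
  Over.homMk (Spec.map (CommRingCat.ofHom φ)) rfl

section ring

variable {R R' : Type u} [CommRing R] [CommRing R'] [IsDomain R] [IsDomain R']

theorem injective_of_generic (φ : R →+* R')
    (h : Spec.map (CommRingCat.ofHom φ) (Spec.map (CommRingCat.ofHom (algebraMap R' (FractionRing R')))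
      (IsLocalRing.closedPoint (FractionRing R'))) =
      Spec.map (CommRingCat.ofHom (algebraMap R (FractionRing R))) (IsLocalRing.closedPoint (FractionRing R))) :
    Function.Injective φ := by
  have h1 := congrArg PrimeSpectrum.asIdeal h
  change Ideal.comap φ (Ideal.comap (algebraMap R' (FractionRing R')) (IsLocalRing.maximalIdeal (FractionRing R'))) =
    Ideal.comap (algebraMap R (FractionRing R)) (IsLocalRing.maximalIdeal (FractionRing R)) at h1
  rw [IsLocalRing.maximalIdeal_eq_bot, IsLocalRing.maximalIdeal_eq_bot] at h1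
  rw [← RingHom.ker_eq_comap_bot, ← RingHom.ker_eq_comap_bot,
    (RingHom.injective_iff_ker_eq_bot _).1 (IsFractionRing.injective R (FractionRing R)),
    (RingHom.injective_iff_ker_eq_bot _).1 (IsFractionRing.injective R' (FractionRing R'))] at h1
  rw [RingHom.injective_iff_ker_eq_bot, RingHom.ker_eq_comap_bot]
  exact h1

theorem isLocalHom_of_closed [IsLocalRing R] [IsLocalRing R'] (φ : R →+* R')
    (h : Spec.map (CommRingCat.ofHom φ) (IsLocalRing.closedPoint R') = IsLocalRing.closedPoint R) : IsLocalHom φ := by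
  have h1 := congrArg PrimeSpectrum.asIdeal h
  change Ideal.comap φ (IsLocalRing.maximalIdeal R') = IsLocalRing.maximalIdeal R at h1
  exact ((IsLocalRing.local_hom_TFAE φ).out 0 4).2 h1

end ring

section main

variable [QuasiSeparatedSpace S] [IsAffine S] {𝒳 : AlgSt.Cat S} (h𝒳 : IsAlgStack Scheme.fppfPrecoverage 𝒳) (M : Space S)
  (hM : IsQuasiSeparatedSp M.obj) (π : 𝒳 ⥤ᵇ ofSp M.obj) (hqc : IsQuasiCompactMor Scheme.fppfPrecoverage π)
  (hqs : IsQuasiSeparatedMor π) (hπ : StMod.IsGoodModuli π) (hft : LocQ (LocP @LocallyOfFiniteType) π)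

include h𝒳 hM hqc hqs hπ hft

/-- Points of `M` with values in a discrete valuation ring lift generically after an extension. -/
theorem exists_gen {R : Type u} [CommRing R] [IsDomain R] [IsDiscreteValuationRing R]
    (sR : Spec (CommRingCat.of R) ⟶ S) (m : (yon S).obj (Over.mk sR) ⟶ M.obj) :
    ∃ (R' : Type u) (_ : CommRing R') (_ : IsDomain R') (_ : IsDiscreteValuationRing R') (φ : R →+* R')
      (_ : Function.Injective φ) (_ : IsLocalHom φ)
      (a : overCat (gT (Spec.map (CommRingCat.ofHom φ) ≫ sR)) ⥤ᵇ 𝒳),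
      Nonempty (BasedFunctor.comp a π ≅
        yF ((yon S).map (gj (Spec.map (CommRingCat.ofHom φ) ≫ sR) ≫ gm φ sR) ≫ m)) := by
  haveI : IsAffine (Over.mk sR : Over S).left := inferInstanceAs (IsAffine (Spec (CommRingCat.of R)))
  haveI : IsLocallyNoetherian (Over.mk sR : Over S).left :=
    inferInstanceAs (IsLocallyNoetherian (Spec (CommRingCat.of R)))
  let η : (Over.mk sR : Over S).left := (gj sR).left (IsLocalRing.closedPoint (FractionRing R))
  let cl : (Over.mk sR : Over S).left := IsLocalRing.closedPoint R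
  have hA := K744.AlgOver.isAlgStack_overCat (Over.mk sR)
  obtain ⟨-, hsurj⟩ := K907.GoodFp.isClosedMap_affine h𝒳 M hM π hqc hqs hπ
    (inferInstance : IsAffine (Over.mk sR : Over S).left) (yF m)
  obtain ⟨x, hx⟩ := hsurj (Points.ofChart (BasedFunctor.id _) η)
  have hsp : Points.map (FibCat.fpFst (yF m) π) x ⤳ Points.ofChart (BasedFunctor.id (overCat (Over.mk sR))) cl := by
    rw [hx]
    exact (IsLocalRing.specializes_closedPoint η).map (continuous_ofChart_id _)
  obtain ⟨R', i1, i2, i3, sR', a, b, ⟨α⟩, ha, hb⟩ := K735.DvrReal.exists_dvr_of_specializes (isAlgStack_W h𝒳 M π m) hA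
    smoothLocally_overCat K744.AlgOver.isAlgStack_overCat
    (K906.isQuasiCompact_overCat (inferInstance : IsAffine (Over.mk sR : Over S).left))
    (K735.Rep.AlgSt_RepByAlgSpWith_mono inf_le_left isQuasiSeparatedOver_overCat)
    (locQ_W h𝒳 M π m hft) x _ hsp
  obtain ⟨g, ⟨β⟩⟩ := exists_iso_overMap b
  obtain ⟨φ', hφ'⟩ : ∃ φ' : R →+* R', g.left = Spec.map (CommRingCat.ofHom φ') :=
    ⟨(Spec.preimage g.left).hom, by rw [CommRingCat.ofHom_hom, Spec.map_preimage]⟩
  have hsR' : sR' = Spec.map (CommRingCat.ofHom φ') ≫ sR := by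
    rw [← hφ']; exact (Over.w g).symm
  subst hsR'
  have hg : g = gm φ' sR := Over.OverMorphism.ext hφ'
  subst hg
  have hcl : (gm φ' sR).left (IsLocalRing.closedPoint R') = cl := by
    apply (ofChart_id_bijective _).1
    rw [← hb, ofChart_congr β, ← ofChart_overMap]
    rfl
  have hη : (gm φ' sR).left ((gj (Spec.map (CommRingCat.ofHom φ') ≫ sR)).left
      (IsLocalRing.closedPoint (FractionRing R'))) = η := by
    apply (ofChart_id_bijective _).1
    rw [← hx, ← ha (IsLocalRing.closedPoint (FractionRing R')), map_ofChart, ofChart_congr α, ofChart_overMap,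
      ofChart_congr β, ← ofChart_overMap]
    rfl
  refine ⟨R', i1, i2, i3, φ', injective_of_generic φ' hη, isLocalHom_of_closed φ' hcl,
    BasedFunctor.comp a (FibCat.fpSnd (yF m) π), ?_⟩
  obtain ⟨j2⟩ := exists_iso_overMap_comp (gj (Spec.map (CommRingCat.ofHom φ') ≫ sR)) (gm φ' sR)
  obtain ⟨j3⟩ := yF_map (gj (Spec.map (CommRingCat.ofHom φ') ≫ sR) ≫ gm φ' sR) m
  exact ⟨(whiskerLeftIso a (FibCat.fpIso (yF m) π)).symm ≪≫ whiskerRightIso α (yF m) ≪≫
    whiskerRightIso (whiskerLeftIso _ β) (yF m) ≪≫ whiskerRightIso j2 (yF m) ≪≫ j3⟩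

/-- Points of `M` with values in a discrete valuation ring with a given generic lift lift after an extension. -/
theorem exists_lift {R : Type u} [CommRing R] [IsDomain R] [IsDiscreteValuationRing R]
    (sR : Spec (CommRingCat.of R) ⟶ S) (m : (yon S).obj (Over.mk sR) ⟶ M.obj) (a : overCat (gT sR) ⥤ᵇ 𝒳)
    (α₀ : BasedFunctor.comp a π ≅ yF ((yon S).map (gj sR) ≫ m)) :
    ∃ (R' : Type u) (_ : CommRing R') (_ : IsDomain R') (_ : IsDiscreteValuationRing R') (φ : R →+* R')
      (_ : Function.Injective φ) (_ : IsLocalHom φ)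
      (gψ : gT (Spec.map (CommRingCat.ofHom φ) ≫ sR) ⟶ gT sR)
      (c : overCat (Over.mk (Spec.map (CommRingCat.ofHom φ) ≫ sR)) ⥤ᵇ 𝒳),
      gψ ≫ gj sR = gj (Spec.map (CommRingCat.ofHom φ) ≫ sR) ≫ gm φ sR ∧
      Nonempty (BasedFunctor.comp c π ≅ yF ((yon S).map (gm φ sR) ≫ m)) ∧
      Nonempty (BasedFunctor.comp (overMap (gj (Spec.map (CommRingCat.ofHom φ) ≫ sR))) c ≅
        BasedFunctor.comp (overMap gψ) a) := by
  haveI : IsAffine (Over.mk sR : Over S).left := inferInstanceAs (IsAffine (Spec (CommRingCat.of R)))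
  haveI : IsLocallyNoetherian (Over.mk sR : Over S).left :=
    inferInstanceAs (IsLocallyNoetherian (Spec (CommRingCat.of R)))
  let pt : (gT sR : Over S).left := IsLocalRing.closedPoint (FractionRing R)
  let η : (Over.mk sR : Over S).left := (gj sR).left pt
  let cl : (Over.mk sR : Over S).left := IsLocalRing.closedPoint R
  have hA := K744.AlgOver.isAlgStack_overCat (Over.mk sR)
  have hA' := K744.AlgOver.isAlgStack_overCat (gT sR)
  have hW := isAlgStack_W h𝒳 M π m
  obtain ⟨β₀⟩ := yF_map (gj sR) m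
  let f : overCat (gT sR) ⥤ᵇ FibCat.fp (yF m) π := FibCat.fpLift (overMap (gj sR)) a (β₀ ≪≫ α₀.symm)
  have hf : LocQ (LocP @LocallyOfFiniteType) f := by
    haveI : LocallyOfFiniteType (gj sR).left := by
      haveI := K863.SepCore.isOpenImmersion_jj R (FractionRing R) sR
      exact (inferInstance : LocallyOfFiniteType (K604.DvrClosed.jj R (FractionRing R) sR).left)
    exact K742.EvQ.locQ_of_comp K742.nice_lft K742.nice_lft K742.nice_lft
      (fun A B C a b _ hab => by haveI : LocallyOfFiniteType (a ≫ b) := hab; exact locallyOfFiniteType_of_comp a b)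
      hA'.isStack.1 hW.isStack.1 hA.isStack.1 hA'.atlas hW.atlas hA.atlas f (FibCat.fpFst (yF m) π)
      (locQ_W h𝒳 M π m hft) (locQ_overMap (gj sR))
  let w₁ : Points (FibCat.fp (yF m) π) := Points.map f (Points.ofChart (BasedFunctor.id _) pt)
  have hw₁ : Points.map (FibCat.fpFst (yF m) π) w₁ = Points.ofChart (BasedFunctor.id _) η := by
    rw [← ofChart_overMap]
    rfl
  obtain ⟨hclosed, -⟩ := K907.GoodFp.isClosedMap_affine h𝒳 M hM π hqc hqs hπ
    (inferInstance : IsAffine (Over.mk sR : Over S).left) (yF m)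
  have h1 : IsClosed (Points.map (FibCat.fpFst (yF m) π) '' closure {w₁}) := hclosed _ isClosed_closure
  have h2 : Points.ofChart (BasedFunctor.id (overCat (Over.mk sR))) η ⤳
      Points.ofChart (BasedFunctor.id (overCat (Over.mk sR))) cl :=
    (IsLocalRing.specializes_closedPoint η).map (continuous_ofChart_id _)
  obtain ⟨w₀, hw₀, hw₀'⟩ := h2.mem_closed h1 ⟨w₁, subset_closure rfl, hw₁⟩
  have hsp : w₁ ⤳ w₀ := specializes_iff_mem_closure.2 hw₀
  obtain ⟨R', i1, i2, i3, sR', a', b', ⟨α⟩, ha, hb⟩ := K735.DvrReal.exists_dvr_of_specializes hA' hW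
    (noeth_W h𝒳 M π m hft) K744.AlgOver.isAlgStack_overCat (qc_W M π m inferInstance hqc) (diag_W h𝒳 M π m hqs) hf _ w₀ hsp
  obtain ⟨g, ⟨β⟩⟩ := exists_iso_overMap (BasedFunctor.comp b' (FibCat.fpFst (yF m) π))
  obtain ⟨gψ, ⟨γ⟩⟩ := exists_iso_overMap a'
  obtain ⟨φ', hφ'⟩ : ∃ φ' : R →+* R', g.left = Spec.map (CommRingCat.ofHom φ') :=
    ⟨(Spec.preimage g.left).hom, by rw [CommRingCat.ofHom_hom, Spec.map_preimage]⟩
  have hsR' : sR' = Spec.map (CommRingCat.ofHom φ') ≫ sR := by
    rw [← hφ']; exact (Over.w g).symm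
  subst hsR'
  have hg : g = gm φ' sR := Over.OverMorphism.ext hφ'
  subst hg
  have hcl : (gm φ' sR).left (IsLocalRing.closedPoint R') = cl := by
    apply (ofChart_id_bijective _).1
    rw [← hw₀', ← hb, map_ofChart, ofChart_congr β, ← ofChart_overMap]
    rfl
  let κ : BasedFunctor.comp a' (overMap (gj sR)) ≅
      BasedFunctor.comp (overMap (gj (Spec.map (CommRingCat.ofHom φ') ≫ sR))) (overMap (gm φ' sR)) :=
    whiskerRightIso α (FibCat.fpFst (yF m) π) ≪≫ whiskerLeftIso _ β
  obtain ⟨j1⟩ := exists_iso_overMap_comp gψ (gj sR)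
  obtain ⟨j2⟩ := exists_iso_overMap_comp (gj (Spec.map (CommRingCat.ofHom φ') ≫ sR)) (gm φ' sR)
  have hcomm : gψ ≫ gj sR = gj (Spec.map (CommRingCat.ofHom φ') ≫ sR) ≫ gm φ' sR :=
    eq_of_iso_overMap (j1.symm ≪≫ (whiskerRightIso γ (overMap (gj sR))).symm ≪≫ κ ≪≫ j2)
  have hη : (gm φ' sR).left ((gj (Spec.map (CommRingCat.ofHom φ') ≫ sR)).left
      (IsLocalRing.closedPoint (FractionRing R'))) = η := by
    have h3 : (gψ ≫ gj sR).left (IsLocalRing.closedPoint (FractionRing R')) =
        (gj (Spec.map (CommRingCat.ofHom φ') ≫ sR) ≫ gm φ' sR).left (IsLocalRing.closedPoint (FractionRing R')) := by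
      rw [hcomm]
    haveI : Subsingleton ↥(gT sR : Over S).left := inferInstanceAs (Subsingleton (PrimeSpectrum (FractionRing R)))
    have h4 : gψ.left (IsLocalRing.closedPoint (FractionRing R')) = pt := Subsingleton.elim _ _
    refine Eq.trans ?_ (congrArg (gj sR).left h4)
    exact h3.symm
  refine ⟨R', i1, i2, i3, φ', injective_of_generic φ' hη, isLocalHom_of_closed φ' hcl, gψ,
    BasedFunctor.comp b' (FibCat.fpSnd (yF m) π), hcomm, ?_, ⟨?_⟩⟩
  · obtain ⟨j3⟩ := yF_map (gm φ' sR) m
    exact ⟨(whiskerLeftIso b' (FibCat.fpIso (yF m) π)).symm ≪≫ whiskerRightIso β (yF m) ≪≫ j3⟩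
  · exact whiskerRightIso α.symm (FibCat.fpSnd (yF m) π) ≪≫ whiskerRightIso γ a

end main

end K943.ModDvr
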