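import Groth.Agent.ThetaS.K943.SpIso
import Groth.Agent.ThetaS.K943.SpSep
import Groth.Agent.AlgSt.K735.DvrReal
import Groth.Agent.AlgSt.K741.QcqsS
import Groth.Agent.AlgSt.K736.FinDiag
import Groth.Agent.StMod.K907.GoodFp
import Groth.Agent.Gerb.K894.LocQ2
import Groth.Agent.S12998

/-!
# Good moduli spaces and discrete valuation rings: the fibre product with the spectrum of a discrete valuation ring
-/

set_option autoImplicit false
set_option linter.style.haveILetI false
set_option backward.isDefEq.respectTransparency false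
set_option backward.isDefEq.respectTransparency.types false
universe v₂ u₂ w v u
open CategoryTheory CategoryTheory.Limits AlgebraicGeometry Opposite Topology TopologicalSpace FibCat

namespace K943.ModPts

open AlgSp AlgSt K943.SpVal K943.SpIso K735.Fib K735.Fp K735.Rep K735.Pts K735.PtsSp K735.Top K735.Cart K735.ClosedLim

variable {S : Scheme.{u}} {M : Sp S}

/-- The functor attached to a point of `M`. -/
noncomputable def yF {T : Over S} (m : (yon S).obj T ⟶ M) : overCat T ⥤ᵇ ofSp M :=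
  mkFun (ℬ := overCat T) (fun b => (yon S).map b.hom ≫ m) (fun {b b'} k => by
    change (yon S).map k.left ≫ (yon S).map b'.hom ≫ m = _
    rw [← Category.assoc, ← Functor.map_comp, Over.w k])

theorem yF_w {T : Over S} (m : (yon S).obj T ⟶ M) {b b' : (overCat T).obj} (k : b ⟶ b') :
    (yon S).map ((overCat T).p.map k) ≫ (yon S).map b'.hom ≫ m = (yon S).map b.hom ≫ m := by
  change (yon S).map k.left ≫ (yon S).map b'.hom ≫ m = _
  rw [← Category.assoc, ← Functor.map_comp, Over.w k]

theorem val_yF {T : Over S} (m : (yon S).obj T ⟶ M) (b : (overCat T).obj) : val (yF m) b = (yon S).map b.hom ≫ m :=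
  val_mkFun _ (yF_w m) b

theorem yF_map {T T' : Over S} (g : T' ⟶ T) (m : (yon S).obj T ⟶ M) :
    Nonempty (BasedFunctor.comp (overMap g) (yF m) ≅ yF ((yon S).map g ≫ m)) := by
  apply nonempty_iso
  intro b
  rw [val_comp, val_yF, val_yF]
  change (yon S).map (𝟙 _) ≫ (yon S).map (b.hom ≫ g) ≫ m = _
  rw [(yon S).map_id, Category.id_comp, Functor.map_comp, Category.assoc]

theorem eq_of_iso_yF {T : Over S} {m m' : (yon S).obj T ⟶ M} (i : yF m ≅ yF m') : m = m' := by
  have h := K943.SpSep.val_congr i.hom (Over.mk (𝟙 T))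
  rw [val_yF, val_yF] at h
  change (yon S).map (𝟙 T) ≫ m = (yon S).map (𝟙 T) ≫ m' at h
  rwa [(yon S).map_id, Category.id_comp, Category.id_comp] at h

theorem exists_yF {T : Over S} (F : overCat T ⥤ᵇ ofSp M) : ∃ m : (yon S).obj T ⟶ M, Nonempty (F ≅ yF m) := by
  refine ⟨val F (Over.mk (𝟙 T)), nonempty_iso _ _ fun b => ?_⟩
  rw [val_yF]
  let k : b ⟶ (Over.mk (𝟙 T) : Over T) := Over.homMk b.hom (by
    change b.hom ≫ 𝟙 T = b.hom
    rw [Category.comp_id])
  exact (val_map F (b := b) (b' := (Over.mk (𝟙 T) : Over T)) k).symm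

/-- Isomorphic slice functors come from equal morphisms. -/
theorem eq_of_iso_overMap {T V : Over S} {a b : T ⟶ V} (i : overMap a ≅ overMap b) : a = b := by
  have h := i.hom.isHomLift' (Over.mk (𝟙 T))
  have h0 := @IsHomLift.fac' _ _ _ _ (overCat V).p _ _ _ _ (𝟙 _) (i.hom.toNatTrans.app (Over.mk (𝟙 T))) h
  have h1 := Over.w (i.hom.toNatTrans.app (Over.mk (𝟙 T)))
  have h2 : (i.hom.toNatTrans.app (Over.mk (𝟙 T))).left = 𝟙 T := by
    refine h0.trans ?_
    change eqToHom _ ≫ 𝟙 T ≫ eqToHom _ = 𝟙 T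
    simp
  rw [h2] at h1
  change 𝟙 T ≫ (𝟙 T ≫ b) = 𝟙 T ≫ a at h1
  rw [Category.id_comp, Category.id_comp, Category.id_comp] at h1
  exact h1.symm

/-- Slices of affine schemes over an affine base are quasi-separated. -/
theorem isQuasiSeparatedOver_overCat [IsAffine S] {T : Over S} [IsAffine T.left] : IsQuasiSeparatedOver (overCat T) := by
  have h1 : AlgSt.RepByAlgSpWith AlgSp.IsSeparatedMor (FibCat.toSelf (FibCat.overCat T)) := by
    refine K736.FinDiag.repByAlgSpWith_toSelf_overCat K739.Props.bc_sep ?_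
    rw [AlgSp.isSeparatedMor_yon_map_iff]
    have : (Over.mkIdTerminal.from T).left = T.hom := by
      have := Over.w (Over.mkIdTerminal.from T)
      simp
    rw [this]
    infer_instance
  refine K738.repByAlgSpWith_diag h1 ?_
  intro F T' V π i fst g hπ sq hi
  have h2 := (AlgSp.repWith_isStableUnderBaseChange (S := S) @IsClosedImmersion).of_isPullback sq hπ
  have h3 : IsClosedImmersion i.left := (AlgSp.repWith_yon_map_iff _ _).1 h2
  refine ⟨(K738.isQuasiCompactMor_yon_iff i).2 inferInstance, K739.Props.qs_of_sep ?_⟩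
  rw [AlgSp.isSeparatedMor_yon_map_iff]
  infer_instance

theorem smoothLocally_overCat {T : Over S} [IsLocallyNoetherian T.left] :
    SmoothLocally (fun T => IsLocallyNoetherian T) (overCat T) := by
  intro U x hx
  obtain ⟨b, ⟨i⟩⟩ := exists_iso_overMap x
  have h1 : Smooth b.left := (K742.nice_smooth.overMap_iff b).1 (repByAlgSpWith_of_iso _ i hx)
  exact LocallyOfFiniteType.isLocallyNoetherian b.left

theorem locQ_overMap {T V : Over S} (b : T ⟶ V) [LocallyOfFiniteType b.left] :
    LocQ (LocP @LocallyOfFiniteType) (overMap b) :=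
  K742.EvQ.locQ_of_rep K742.nice_lft (isFibGrpd_overCat T) (isFibGrpd_overCat V) (K742.LN.hasAtlas_overCat T)
    (K742.LN.hasAtlas_overCat V) _ ((K742.nice_lft.overMap_iff b).2 inferInstance)

section fibre

variable [QuasiSeparatedSpace S] {𝒳 : AlgSt.Cat S} (h𝒳 : IsAlgStack Scheme.fppfPrecoverage 𝒳) (M : Space S)
  (π : 𝒳 ⥤ᵇ ofSp M.obj) {T : Over S} (m : (yon S).obj T ⟶ M.obj)

include h𝒳 in
theorem isAlgStack_W : IsAlgStack Scheme.fppfPrecoverage (FibCat.fp (yF m) π) :=
  K907.GoodFp.isAlgStack_fp h𝒳 M π (K744.AlgOver.isAlgStack_overCat T) (yF m)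

include h𝒳 in
theorem locQ_W (hft : LocQ (LocP @LocallyOfFiniteType) π) :
    LocQ (LocP @LocallyOfFiniteType) (FibCat.fpFst (yF m) π) :=
  K894.LocQ.locQ_fpFst K742.nice_lft h𝒳 (K740.SpDM.isAlgStack_ofSp M.property)
    (K744.AlgOver.isAlgStack_overCat T) (yF m) π hft

include h𝒳 in
theorem noeth_W [IsLocallyNoetherian T.left] (hft : LocQ (LocP @LocallyOfFiniteType) π) :
    SmoothLocally (fun T => IsLocallyNoetherian T) (FibCat.fp (yF m) π) :=
  Groth.Agent.S12998.result S _ _ (isAlgStack_W h𝒳 M π m) (K744.AlgOver.isAlgStack_overCat T) _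
    (locQ_W h𝒳 M π m hft) smoothLocally_overCat

theorem qc_W (hT : IsAffine T.left) (hqc : IsQuasiCompactMor Scheme.fppfPrecoverage π) :
    AlgSt.IsQuasiCompact (FibCat.fp (yF m) π) :=
  hqc _ (K744.AlgOver.isAlgStack_overCat T) (K906.isQuasiCompact_overCat hT) _

include h𝒳 in
theorem diag_W [IsAffine S] [IsAffine T.left] (hqs : IsQuasiSeparatedMor π) :
    RepByAlgSpWith IsQuasiCompactMor (FibCat.diag (FibCat.toSelf (FibCat.fp (yF m) π))) := by
  have hAM := K740.SpDM.isAlgStack_ofSp M.property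
  have hT := K744.AlgOver.isAlgStack_overCat T
  have h1 := Groth.Agent.S12954.result S 𝒳 _ (overCat T) h𝒳 hAM hT π (yF m) hqs
  have h2 := Groth.Agent.S12955.result S _ (overCat T) _ (isAlgStack_W h𝒳 M π m) hT (K741.isAlgStack_selfOver S)
    (FibCat.fpFst (yF m) π) (FibCat.toSelf (overCat T)) h1 isQuasiSeparatedOver_overCat
  rw [K741.eq_toSelf (BasedFunctor.comp (FibCat.fpFst (yF m) π) (FibCat.toSelf (overCat T)))] at h2
  exact K735.Rep.AlgSt_RepByAlgSpWith_mono inf_le_left h2

end fibre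

end K943.ModPts
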