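import Groth.Agent.ThetaS.K943.SpTheta

/-!
# Algebraic spaces with affine diagonal are Θ-complete; separated ones are S-complete
-/

set_option autoImplicit false
set_option linter.style.haveILetI false
set_option backward.isDefEq.respectTransparency false
set_option backward.isDefEq.respectTransparency.types false
universe v₂ u₂ w v u
open CategoryTheory CategoryTheory.Limits AlgebraicGeometry Opposite Topology TopologicalSpace FibCat
open CartesianMonoidalCategory MonoidalCategory
open scoped Polynomial

namespace K943.SpComplete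

open AlgSp ThetaS K943.SpConst K943.SpUniq K943.SpVal K943.LocPair K943.SelfLift K943.FibBase K943.CoverExt
  K943.QuotAtlas K943.QuotCover K943.QuotOpen K943.QuotTriv K943.SpNode K943.Points K943.LocLift K942.Coord
  K942.AffMain K951.Pts K943.SpTheta

attribute [local instance] K951.Pts.algΓ

variable {S : Scheme.{u}} {M : Sp S} {R : Type u} [CommRing R]

theorem isQuasiSeparatedSp_of_affine (hd : RepWith @IsAffineHom (Limits.diag M)) : IsQuasiSeparatedSp M :=
  ⟨hd.1, fun _ _ _ _ snd sq => by
    haveI : IsAffineHom snd.left := hd.2 _ _ _ sq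
    change QuasiCompact snd.left; infer_instance⟩

theorem repWith_affine_of_sep (hsep : IsSeparatedSp M) : RepWith @IsAffineHom (Limits.diag M) :=
  ⟨hsep.1, fun _ _ _ _ snd sq => by
    haveI : IsClosedImmersion snd.left := hsep.2 _ _ _ sq
    change IsAffineHom snd.left; infer_instance⟩

/-- Two points of a separated space over a domain agree if they do over the fraction field. -/
theorem eq_of_frac [IsDomain R] (hsep : IsSeparatedSp M) (h : Spec (CommRingCat.of R) ⟶ S)
    (a b : (yon S).obj (B0 h) ⟶ M)
    (e : (yon S).map (stB h (CoactBr.sp R (FractionRing R))) ≫ a =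
      (yon S).map (stB h (CoactBr.sp R (FractionRing R))) ≫ b) : a = b := by
  obtain ⟨E, i, hi, hcl⟩ := (K613.Chart.repWith_diag_iff @IsClosedImmersion).1 hsep _ a b
  obtain ⟨k, hk, -⟩ := hi.lift _ _ e
  haveI : IsReduced (B0 h).left := inferInstanceAs (IsReduced (Spec (CommRingCat.of R)))
  have hdom : DenseRange i.left := by
    have h1 : DenseRange (stB h (CoactBr.sp R (FractionRing R))).left := by
      have h2 : Function.Injective (algebraMap R (FractionRing R)) := IsFractionRing.injective R (FractionRing R)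
      exact PrimeSpectrum.denseRange_comap_iff_ker_le_nilRadical _ |>.2
        ((le_of_eq ((RingHom.injective_iff_ker_eq_bot _).1 h2)).trans bot_le)
    refine h1.mono ?_
    rintro _ ⟨y, rfl⟩
    refine ⟨k.left y, ?_⟩
    rw [← hk]; rfl
  haveI : Surjective i.left := ⟨Set.range_eq_univ.1 (by
    rw [← i.left.isClosedEmbedding.isClosed_range.closure_eq]; exact hdom.closure_range)⟩
  haveI := isIso_of_isClosedImmersion_of_surjective i.left
  haveI : IsIso ((Over.forget S).map i) := by change IsIso i.left; infer_instance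
  haveI : IsIso i := isIso_of_reflects_iso i (Over.forget S)
  rw [← cancel_epi ((yon S).map i)]
  exact hi.w

theorem uniqFlat_line [IsDomain R] {ϖ : R} (hϖ : ϖ ≠ 0) (hd : RepWith @IsAffineHom (Limits.diag M))
    (h : Spec (CommRingCat.of R) ⟶ S) : UniqFlat h (Uline ϖ) (toSelf (AlgSt.ofSp M)) := by
  intro Y y hy hY
  haveI : IsAffine ((Over.map h).obj Y).left := hY
  haveI : IsIso ((Over.map h).map (openMap y (Uline ϖ))).left.appTop := isIso_line hϖ y
  exact uniqAt_ofSp hd _

theorem uniqFlat_st [IsDomain R] {π : R} (hπ : π ≠ 0) (hd : RepWith @IsAffineHom (Limits.diag M))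
    (h : Spec (CommRingCat.of R) ⟶ S) : UniqFlat h (Ust π) (toSelf (AlgSt.ofSp M)) := by
  intro Y y hy hY
  haveI : IsAffine ((Over.map h).obj Y).left := hY
  haveI : IsIso ((Over.map h).map (openMap y (Ust π))).left.appTop := isIso_st hπ y
  exact uniqAt_ofSp hd _

theorem isThetaComplete [QuasiSeparatedSpace ↥S] (hM : IsAlgSpace M)
    (hd : RepWith @IsAffineHom (Limits.diag M)) : IsThetaComplete Scheme.fppfPrecoverage (AlgSt.ofSp M) := by
  intro R _ _ _ ϖ hϖ h
  have hst := isStack_ofSp M
  have H := uniqFlat_line (M := M) hϖ.ne_zero hd h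
  have hpre : Stk.IsPrestack (QuotSh.J Scheme.fppfPrecoverage S) (AlgSt.ofSp M) := isPrestack hst
  have key : LiftSq.LiftsUniquely (subI (ThetaS.overS h (AlgSt.QuotSt Scheme.fppfPrecoverage (Gm R) (lineAction R)))
      (InU Scheme.fppfPrecoverage (lineAction R) (Uline ϖ))) (toSelf (AlgSt.ofSp M)) := by
    intro sq
    refine ⟨?_, uniqLift_quot h (stable_line ϖ) hpre (isPrestack_self _) H sq⟩
    refine hasLift_of_ext h (stable_line ϖ) hst H sq ((yon S).map (stB h (Line R)) ≫ atOne _ ϖ h sq.top) ?_
    rw [val_theta hM (isQuasiSeparatedSp_of_affine hd) hϖ h sq.top, ← Category.assoc, ← Functor.map_comp, stB_eq]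
  rw [← missesOrigin_eq] at key
  exact key

theorem isUnit_frac [IsDomain R] {π : R} (hπ : π ≠ 0) :
    IsUnit (algebraMap R Γ((CoactBr.sp R (FractionRing R)).left, ⊤) π) := by
  have h1 : algebraMap R Γ((CoactBr.sp R (FractionRing R)).left, ⊤) π =
      fn (B := FractionRing R) (𝟙 (CoactBr.sp R (FractionRing R))) (algebraMap R (FractionRing R) π) :=
    ((fn (B := FractionRing R) (𝟙 (CoactBr.sp R (FractionRing R)))).commutes π).symm
  rw [h1]
  have h2 : IsUnit (algebraMap R (FractionRing R) π) :=
    isUnit_iff_ne_zero.2 (by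
      rw [Ne, FaithfulSMul.algebraMap_eq_zero_iff]
      exact hπ)
  exact h2.map _

theorem isSCompleteOver (hsep : IsSeparatedSp M) : IsSCompleteOver Scheme.fppfPrecoverage (AlgSt.ofSp M) := by
  intro R _ _ _ π hπ h
  have hd := repWith_affine_of_sep hsep
  have hst := isStack_ofSp M
  have H := uniqFlat_st (M := M) hπ.ne_zero hd h
  have hpre : Stk.IsPrestack (QuotSh.J Scheme.fppfPrecoverage S) (AlgSt.ofSp M) := isPrestack hst
  have key : LiftSq.LiftsUniquely (subI (ThetaS.overS h (AlgSt.QuotSt Scheme.fppfPrecoverage (Gm R) (stAction R π)))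
      (InU Scheme.fppfPrecoverage (stAction R π) (Ust π))) (toSelf (AlgSt.ofSp M)) := by
    intro sq
    refine ⟨?_, uniqLift_quot h (stable_st π) hpre (isPrestack_self _) H sq⟩
    refine hasLift_of_ext h (stable_st π) hst H sq ((yon S).map (stB h (STSch R π)) ≫ atS h sq.top) ?_
    have hST : atS h sq.top = atT h sq.top := eq_of_frac hsep h _ _ (atS_eq_atT h sq.top (isUnit_frac hπ.ne_zero))
    obtain ⟨n, hn, hnv⟩ := val_eq_s h sq.top
    obtain ⟨n', hn', hnv'⟩ := val_eq_t h sq.top
    rw [← hST] at hnv'
    let o : YU (𝟙 (STSch R π)) (Ust π) ⟶ STSch R π := openMap (𝟙 (STSch R π)) (Ust π)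
    haveI hoi : IsOpenImmersion o.left := by
      change IsOpenImmersion ((𝟙 (STSch R π) : STSch R π ⟶ STSch R π).left ⁻¹ᵁ Ust π).ι; infer_instance
    haveI hni : IsOpenImmersion n.left := openImm_of_comp n o _ hn
    haveI hni' : IsOpenImmersion n'.left := openImm_of_comp n' o _ hn'
    haveI : IsOpenImmersion ((Over.map h).map n).left := hni
    haveI : IsOpenImmersion ((Over.map h).map n').left := hni'
    rw [← Category.assoc, ← Functor.map_comp, stB_eq]
    refine K610.Site.eq_of_cover fun t => ?_
    have ht : o.left t ∈ Ust π := t.2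
    rcases ht with ht | ht
    · have h2 : o.left t ∈ (inc (X := STSch R π) (stFn (sFn R π))).left.opensRange := by
        rw [opensRange_inc]; exact ht
      obtain ⟨y, hy⟩ := h2
      refine ⟨_, (Over.map h).map n, inferInstance, inferInstance, ⟨y, hoi.base_open.injective ?_⟩, hnv.symm⟩
      have h3 : o.left (n.left y) = (inc (X := STSch R π) (stFn (sFn R π))).left y := by rw [← hn]; rfl
      exact h3.trans hy
    · have h2 : o.left t ∈ (inc (X := STSch R π) (stFn (tFn R π))).left.opensRange := by
        rw [opensRange_inc]; exact ht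
      obtain ⟨y, hy⟩ := h2
      refine ⟨_, (Over.map h).map n', inferInstance, inferInstance, ⟨y, hoi.base_open.injective ?_⟩, hnv'.symm⟩
      have h3 : o.left (n'.left y) = (inc (X := STSch R π) (stFn (tFn R π))).left y := by rw [← hn']; rfl
      exact h3.trans hy
  rw [← missesNode_eq] at key
  exact key

end K943.SpComplete
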