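import Groth.Agent.AlgSp.K610.Chart
import Groth.Agent.AlgSp.K610.Site
import Groth.Agent.AlgSp.K596.QC2
import Groth.Agent.ThetaS.K943.IntClos
import Mathlib.AlgebraicGeometry.Morphisms.QuasiFinite
import Mathlib.AlgebraicGeometry.Morphisms.Etale
import Mathlib.RingTheory.Unramified.LocalStructure

/-!
# Maps to algebraic spaces which are constant on a dense open subset

`eq_const`: a map `f : T ⟶ M` to a quasi-separated algebraic space which on a principal open subset factors through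
the spectrum `P` of a field does so everywhere, if the functions on `T` are integrally closed in those on the open
subset.
-/

set_option autoImplicit false
set_option backward.isDefEq.respectTransparency false
set_option backward.isDefEq.respectTransparency.types false
set_option linter.style.haveILetI false
universe u
open CategoryTheory CategoryTheory.Limits AlgebraicGeometry Opposite Topology TopologicalSpace

namespace K943.SpConst

open AlgSp K943.IntClos

section Ring

variable {A B C : Type*} [CommRing A] [CommRing B] [CommRing C]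

theorem exists_factor (res : A →+* B) (hres : Function.Injective res) (g : C →+* B)
    (h : ∀ c, g c ∈ Set.range res) : ∃ ψ : C →+* A, res.comp ψ = g := by
  choose ψ hψ using h
  refine ⟨⟨⟨⟨ψ, hres ?_⟩, fun x y => hres ?_⟩, hres ?_, fun x y => hres ?_⟩, RingHom.ext hψ⟩
  · rw [hψ, map_one, map_one]
  · change res (ψ (x * y)) = res (ψ x * ψ y)
    rw [hψ, map_mul, map_mul, hψ, hψ]
  · change res (ψ 0) = res 0
    rw [hψ, map_zero, map_zero]
  · change res (ψ (x + y)) = res (ψ x + ψ y)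
    rw [hψ, map_add, map_add, hψ, hψ]

theorem IC.comp_bijective {f : A →+* B} (h : IC f) (g : B →+* C) (hg : Function.Bijective g) : IC (g.comp f) := by
  intro y hy
  obtain ⟨b, rfl⟩ := hg.2 y
  have h1 : f.IsIntegralElem b := by
    obtain ⟨p, hp, hpy⟩ := hy
    refine ⟨p, hp, hg.1 ?_⟩
    rw [map_zero, Polynomial.hom_eval₂, hpy]
  obtain ⟨a, rfl⟩ := h b h1
  exact ⟨a, rfl⟩

end Ring

section Scheme

variable {Y N P : Scheme.{u}}

theorem locallyQuasiFinite_of_etale {X Y : Scheme.{u}} (f : X ⟶ Y) [Etale f] : LocallyQuasiFinite f where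
  quasiFinite_appLE := fun {U} hU {V} hV e => by
    have h := Etale.etale_appLE f hU hV e
    algebraize [(f.appLE U V e).hom]
    exact (inferInstance : Algebra.QuasiFinite Γ(Y, U) Γ(X, V))

theorem exists_hom [IsAffine N] (ψ : Γ(N, ⊤) ⟶ Γ(Y, ⊤)) : ∃ r : Y ⟶ N, r.appTop = ψ := by
  refine ⟨Y.toSpecΓ ≫ Spec.map ψ ≫ N.isoSpec.inv, ?_⟩
  have h1 : N.isoSpec.inv.appTop = (Scheme.ΓSpecIso Γ(N, ⊤)).inv := by
    have h2 : N.isoSpec.hom.appTop = (Scheme.ΓSpecIso Γ(N, ⊤)).hom := Scheme.toSpecΓ_appTop N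
    rw [← cancel_mono N.isoSpec.hom.appTop, ← Scheme.Hom.comp_appTop, Iso.hom_inv_id, h2, Iso.inv_hom_id]
    simp
  rw [Scheme.Hom.comp_appTop, Scheme.Hom.comp_appTop, Scheme.toSpecΓ_appTop, h1, ← Scheme.ΓSpecIso_inv_naturality,
    Category.assoc, Iso.inv_hom_id, Category.comp_id]

theorem hom_ext_of_isAffine [IsAffine N] {r r' : Y ⟶ N} (h : r.appTop = r'.appTop) : r = r' := by
  rw [← cancel_mono N.toSpecΓ, Scheme.toSpecΓ_naturality, Scheme.toSpecΓ_naturality, h]

/-- Extension of maps to finite schemes. -/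
theorem exists_extend [IsAffine N] [IsAffine P] (d : N ⟶ P) (hd : d.appTop.hom.IsIntegral) (s : Y ⟶ P)
    (O : Y.Opens) (hIC : IC O.ι.appTop.hom) (hinj : Function.Injective O.ι.appTop.hom) (r₀ : (O : Scheme.{u}) ⟶ N)
    (h : r₀ ≫ d = O.ι ≫ s) : ∃ r : Y ⟶ N, r ≫ d = s ∧ O.ι ≫ r = r₀ := by
  have hc : ∀ c, r₀.appTop.hom c ∈ Set.range O.ι.appTop.hom := by
    intro c
    apply hIC
    obtain ⟨p, hp, hpc⟩ := hd c
    refine ⟨p.map s.appTop.hom, hp.map _, ?_⟩
    rw [Polynomial.eval₂_map]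
    have h1 : O.ι.appTop.hom.comp s.appTop.hom = r₀.appTop.hom.comp d.appTop.hom := by
      have := congrArg (fun t : (O : Scheme.{u}) ⟶ P => t.appTop.hom) h
      simp only [Scheme.Hom.comp_appTop, CommRingCat.hom_comp] at this
      exact this.symm
    rw [h1, ← Polynomial.hom_eval₂, hpc, map_zero]
  obtain ⟨ψ, hψ⟩ := exists_factor _ hinj _ hc
  obtain ⟨r, hr⟩ := exists_hom (CommRingCat.ofHom ψ)
  have h2 : O.ι ≫ r = r₀ := by
    apply hom_ext_of_isAffine
    rw [Scheme.Hom.comp_appTop, hr]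
    ext c
    exact congr($hψ c)
  refine ⟨r, ?_, h2⟩
  apply hom_ext_of_isAffine
  ext c
  apply hinj
  have h3 : (O.ι ≫ r ≫ d).appTop = (O.ι ≫ s).appTop := by rw [← Category.assoc, h2, h]
  rw [Scheme.Hom.comp_appTop, Scheme.Hom.comp_appTop] at h3
  exact congr($h3 c)

theorem eq_of_injective [IsAffine N] (O : Y.Opens) (hinj : Function.Injective O.ι.appTop.hom) {r r' : Y ⟶ N}
    (h : O.ι ≫ r = O.ι ≫ r') : r = r' := by
  apply hom_ext_of_isAffine
  ext c
  apply hinj
  have h3 : (O.ι ≫ r).appTop = (O.ι ≫ r').appTop := by rw [h]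
  rw [Scheme.Hom.comp_appTop, Scheme.Hom.comp_appTop] at h3
  exact congr($h3 c)

theorem ι_appTop_basicOpen (y : Γ(Y, ⊤)) : ∃ e : Γ(Y, Y.basicOpen y) →+* Γ((Y.basicOpen y : Scheme.{u}), ⊤),
    Function.Bijective e ∧ (Y.basicOpen y).ι.appTop.hom =
      e.comp (algebraMap Γ(Y, ⊤) Γ(Y, Y.basicOpen y)) := by
  refine ⟨(Y.basicOpen y).topIso.inv.hom, ConcreteCategory.bijective_of_isIso _, ?_⟩
  have : (Y.basicOpen y).ι.appTop = Y.presheaf.map (homOfLE (Y.basicOpen_le y)).op ≫ (Y.basicOpen y).topIso.inv := by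
    rw [Scheme.Opens.ι_appTop, Scheme.Opens.topIso_inv, ← Functor.map_comp]
    rfl
  rw [this]
  rfl

/-- The condition on `T` propagates to schemes etale over it. -/
theorem ic_of_smooth {T : Scheme.{u}} [IsAffine T] [IsAffine Y] (c : Y ⟶ T) [Smooth c] (x : Γ(T, ⊤))
    (h : IC (T.basicOpen x).ι.appTop.hom) : IC (Y.basicOpen (c.appTop x)).ι.appTop.hom := by
  obtain ⟨e, he, h1⟩ := ι_appTop_basicOpen x
  obtain ⟨e', he', h1'⟩ := ι_appTop_basicOpen (c.appTop x)
  rw [h1] at h
  rw [h1']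
  refine IC.comp_bijective ?_ _ he'
  letI : Algebra Γ(T, ⊤) Γ(Y, ⊤) := c.appTop.hom.toAlgebra
  haveI : Algebra.Smooth Γ(T, ⊤) Γ(Y, ⊤) := (HasRingHomProperty.iff_of_isAffine (P := @Smooth)).1 ‹Smooth c›
  haveI : IsLocalization.Away x Γ(T, T.basicOpen x) := (isAffineOpen_top T).isLocalization_basicOpen x
  haveI : IsLocalization.Away (algebraMap Γ(T, ⊤) Γ(Y, ⊤) x) Γ(Y, Y.basicOpen (c.appTop x)) :=
    (isAffineOpen_top Y).isLocalization_basicOpen (c.appTop x)
  refine IC.away (A' := Γ(T, T.basicOpen x)) x ?_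
  intro y hy
  have h2 : (e.comp (algebraMap Γ(T, ⊤) Γ(T, T.basicOpen x))).IsIntegralElem (e y) := by
    obtain ⟨p, hp, hpy⟩ := hy
    exact ⟨p, hp, by rw [← Polynomial.hom_eval₂, hpy, map_zero]⟩
  obtain ⟨a, ha⟩ := h _ h2
  exact ⟨a, he.1 ha⟩

theorem inj_of_nzd [IsAffine Y] {y : Γ(Y, ⊤)} (h : y ∈ nonZeroDivisors Γ(Y, ⊤)) :
    Function.Injective (Y.basicOpen y).ι.appTop.hom := by
  obtain ⟨e, he, h1⟩ := ι_appTop_basicOpen y
  have : IsLocalization.Away y Γ(Y, Y.basicOpen y) := (isAffineOpen_top Y).isLocalization_basicOpen y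
  rw [h1]
  exact he.1.comp (IsLocalization.injective (M := Submonoid.powers y) _
    (Submonoid.powers_le.2 h))

theorem nzd_of_flat {T : Scheme.{u}} [IsAffine T] [IsAffine Y] (c : Y ⟶ T) [Flat c] {x : Γ(T, ⊤)}
    (h : x ∈ nonZeroDivisors Γ(T, ⊤)) : c.appTop x ∈ nonZeroDivisors Γ(Y, ⊤) := by
  letI : Algebra Γ(T, ⊤) Γ(Y, ⊤) := c.appTop.hom.toAlgebra
  haveI : Module.Flat Γ(T, ⊤) Γ(Y, ⊤) := (HasRingHomProperty.iff_of_isAffine (P := @Flat)).1 ‹Flat c›
  have h1 : IsSMulRegular Γ(T, ⊤) x := fun a b hab => by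
    have : x * (a - b) = 0 := by rw [mul_sub]; exact sub_eq_zero.2 hab
    exact sub_eq_zero.1 ((mem_nonZeroDivisors_iff.1 h).1 _ this)
  have h2 : IsSMulRegular Γ(Y, ⊤) x := h1.of_flat
  refine mem_nonZeroDivisors_iff_right.2 fun z hz => ?_
  apply h2
  change c.appTop.hom x * z = c.appTop.hom x * 0
  rw [mul_zero, mul_comm]
  exact hz

end Scheme

section Sp

variable {S : Scheme.{u}}

/-- An open subscheme of a scheme over `S`. -/
noncomputable abbrev op' (T : Over S) (U : T.left.Opens) : Over S := Over.mk (U.ι ≫ T.hom)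

/-- Its inclusion. -/
noncomputable abbrev opι (T : Over S) (U : T.left.Opens) : op' T U ⟶ T := Over.homMk U.ι rfl

instance (T : Over S) (U : T.left.Opens) : IsOpenImmersion (opι T U).left := by
  change IsOpenImmersion U.ι; infer_instance

theorem mono_opι (T : Over S) (U : T.left.Opens) : Mono (opι T U) := by
  haveI : Mono ((Over.forget S).map (opι T U)) := by change Mono U.ι; infer_instance
  exact (Over.forget S).mono_of_mono_map this

/-- Lifting to an open subscheme. -/
theorem exists_lift_op {T Y : Over S} (U : T.left.Opens) (g : Y ⟶ T) (h : ∀ y : Y.left, g.left y ∈ U) :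
    ∃ g' : Y ⟶ op' T U, g' ≫ opι T U = g := by
  have h1 : Set.range g.left ⊆ Set.range U.ι := by
    rintro _ ⟨y, rfl⟩
    rw [Scheme.Opens.range_ι]
    exact h y
  refine ⟨Over.homMk (IsOpenImmersion.lift U.ι g.left h1) ?_, ?_⟩
  · change IsOpenImmersion.lift U.ι g.left h1 ≫ U.ι ≫ T.hom = Y.hom
    rw [IsOpenImmersion.lift_fac_assoc, Over.w]
  · apply Over.OverMorphism.ext
    exact IsOpenImmersion.lift_fac _ _ _

variable [QuasiSeparatedSpace ↥S] {M : Sp S}

/-- A map to a quasi-separated algebraic space which is constant on a dense open subset is constant. -/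
theorem eq_const (hM : IsAlgSpace M) (hq : IsQuasiSeparatedSp M) {T P : Over S} [IsAffine T.left] [IsAffine P.left]
    [IsLocallyArtinian P.left] (str : T ⟶ P) (x : Γ(T.left, ⊤)) (hx : IC (T.left.basicOpen x).ι.appTop.hom)
    (hx0 : x ∈ nonZeroDivisors Γ(T.left, ⊤)) (f : (yon S).obj T ⟶ M) (m : (yon S).obj P ⟶ M)
    (h : (yon S).map (opι T (T.left.basicOpen x)) ≫ f =
      (yon S).map (opι T (T.left.basicOpen x)) ≫ (yon S).map str ≫ m) : f = (yon S).map str ≫ m := by
  obtain ⟨W, p, hpe, hps⟩ := hM.atlas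
  apply K610.Site.eq_of_cover
  intro t
  obtain ⟨V, b, c, sq, hce, hcs, -⟩ := K610.Chart.exists_common_chart hpe hps f
  obtain ⟨v, rfl⟩ := c.left.surjective t
  obtain ⟨W', hW', hbv, -⟩ := exists_isAffineOpen_mem_and_subset (show b.left v ∈ (⊤ : W.left.Opens) from trivial)
  obtain ⟨V', hV', hv, hVW⟩ := exists_isAffineOpen_mem_and_subset (show v ∈ b.left ⁻¹ᵁ W' from hbv)
  obtain ⟨q, hq'⟩ := exists_lift_op W' (opι V V' ≫ b) (fun y => hVW y.2)
  let c' : op' V V' ⟶ T := opι V V' ≫ c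
  haveI : Etale c'.left := by
    change Etale (V'.ι ≫ c.left); infer_instance
  haveI : IsAffine (op' V V').left := hV'
  haveI : IsAffine (op' W W').left := hW'
  refine ⟨op' V V', c', inferInstance, inferInstance, ⟨⟨v, hv⟩, rfl⟩, ?_⟩
  let p' : (yon S).obj (op' W W') ⟶ M := (yon S).map (opι W W') ≫ p
  have hp1 : RepWith @Etale p' := MorphismProperty.comp_mem _ _ _
    ((repWith_yon_map_iff _ _).2 (show Etale W'.ι from inferInstance)) hpe
  have hp2 : RepWith @QuasiCompact p' := K596.QC.repWith_of_isQuasiCompactMor hp1.1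
    (K596.QC2.isQuasiCompactMor_of_qc_of_qs (IsAlgSpace.yon_obj _) hM p' (K596.QC.isQuasiCompactSp_yon _) hq)
  have sqN := hp1.rep.isPullback' m
  set N := hp1.rep.pullback m with hN
  set a := hp1.rep.fst' m with ha
  set d := hp1.rep.snd m with hd
  haveI : Etale d.left := hp1.2 _ _ _ sqN
  haveI : QuasiCompact d.left := hp2.2 _ _ _ sqN
  haveI : LocallyQuasiFinite d.left := locallyQuasiFinite_of_etale d.left
  haveI : IsFinite d.left := IsFinite.of_locallyQuasiFinite d.left
  haveI : IsAffine N.left := isAffine_of_isAffineHom d.left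
  -- the open part
  let y : Γ((op' V V').left, ⊤) := c'.left.appTop x
  let O : (op' V V').left.Opens := (op' V V').left.basicOpen y
  have hO : O = c'.left ⁻¹ᵁ T.left.basicOpen x := (Scheme.preimage_basicOpen c'.left x).symm
  obtain ⟨cO, hcO⟩ := exists_lift_op (T.left.basicOpen x) (opι (op' V V') O ≫ c') (fun z => by
    have : z.1 ∈ c'.left ⁻¹ᵁ T.left.basicOpen x := hO ▸ z.2
    exact this)
  have e1 : (yon S).map (opι (op' V V') O ≫ q) ≫ p' = (yon S).map (opι (op' V V') O ≫ c' ≫ str) ≫ m := by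
    calc (yon S).map (opι (op' V V') O ≫ q) ≫ p'
        = (yon S).map (opι (op' V V') O) ≫ (yon S).map (q ≫ opι W W') ≫ p := by
          simp only [p', Functor.map_comp, Category.assoc]
      _ = (yon S).map (opι (op' V V') O) ≫ (yon S).map (opι V V') ≫ (yon S).map c ≫ f := by
          rw [hq', Functor.map_comp, Category.assoc, sq.w]
      _ = (yon S).map (cO ≫ opι T (T.left.basicOpen x)) ≫ f := by
          rw [hcO]; simp only [c', Functor.map_comp, Category.assoc]
      _ = (yon S).map (cO ≫ opι T (T.left.basicOpen x)) ≫ (yon S).map str ≫ m := by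
          rw [Functor.map_comp, Category.assoc, h, Category.assoc]
      _ = _ := by rw [hcO]; simp only [Functor.map_comp, Category.assoc]
  obtain ⟨r₀', hr₀⟩ : ∃ r : (yon S).obj (op' (op' V V') O) ⟶ (yon S).obj N,
      r ≫ (yon S).map a = (yon S).map (opι (op' V V') O ≫ q) ∧
        r ≫ (yon S).map d = (yon S).map (opι (op' V V') O ≫ c' ≫ str) :=
    ⟨sqN.lift _ _ e1, sqN.lift_fst _ _ _, sqN.lift_snd _ _ _⟩
  obtain ⟨r₀, rfl⟩ := (yon S).map_surjective r₀'
  have hr1 : r₀ ≫ a = opι (op' V V') O ≫ q := (yon S).map_injective (by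
    rw [Functor.map_comp]; exact hr₀.1)
  have hr2 : r₀ ≫ d = opι (op' V V') O ≫ c' ≫ str := (yon S).map_injective (by
    rw [Functor.map_comp]; exact hr₀.2)
  have hinj : Function.Injective O.ι.appTop.hom := inj_of_nzd (nzd_of_flat c'.left hx0)
  obtain ⟨r, hrd, hrO⟩ := exists_extend d.left (IsIntegralHom.isIntegral_app d.left ⊤ (isAffineOpen_top _)) (c' ≫ str).left O
    (ic_of_smooth c'.left x hx) hinj r₀.left (congrArg (fun t => t.left) hr2)
  have hrw : r ≫ N.hom = (op' V V').hom := by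
    rw [← Over.w d, ← Category.assoc, hrd, Over.w]
  let rr : op' V V' ⟶ N := Over.homMk r hrw
  have hrr1 : rr ≫ d = c' ≫ str := Over.OverMorphism.ext hrd
  have hrr2 : rr ≫ a = q := by
    apply Over.OverMorphism.ext
    apply eq_of_injective O hinj
    change O.ι ≫ r ≫ a.left = O.ι ≫ q.left
    rw [← Category.assoc, hrO]
    exact congrArg (fun t => t.left) hr1
  calc (yon S).map c' ≫ f = (yon S).map (opι V V') ≫ (yon S).map b ≫ p := by
        rw [sq.w]; simp only [c', Functor.map_comp, Category.assoc]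
    _ = (yon S).map q ≫ p' := by
        rw [← Category.assoc, ← Functor.map_comp, ← hq']; simp only [p', Functor.map_comp, Category.assoc]
    _ = (yon S).map rr ≫ (yon S).map a ≫ p' := by rw [← hrr2, Functor.map_comp, Category.assoc]
    _ = (yon S).map rr ≫ (yon S).map d ≫ m := by rw [sqN.w]
    _ = _ := by rw [← Category.assoc, ← Functor.map_comp, hrr1, Functor.map_comp, Category.assoc]

end Sp

end K943.SpConst
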