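import Groth.Agent.ThetaS.K943.SpComplete

/-!
# Isomorphisms of functors to an algebraic space; constancy on `Θ_R ∖ 0` and `ST_R ∖ 0`
-/

set_option autoImplicit false
set_option linter.style.haveILetI false
set_option backward.isDefEq.respectTransparency false
set_option backward.isDefEq.respectTransparency.types false
universe v₂ u₂ w v u
open CategoryTheory CategoryTheory.Limits MonoidalCategory CartesianMonoidalCategory MonObj GrpObj AlgebraicGeometry
open Opposite Topology TopologicalSpace FibCat ThetaS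
open scoped Polynomial

namespace K943.SpIso

open AlgSp K943.FibBase K943.CoverExt K943.QuotAtlas K943.QuotCover K943.SpConst K943.SpNode
  K943.QuotOpen K943.SpUniq K943.LocPair K943.SelfLift K943.SpVal K943.SpProp K943.STNormal K942.Coord K943.Points
  K942.AffMain K951.Pts K943.SpTheta K943.SpComplete

section gen

variable {S : Scheme.{u}} {M N : Sp S} {ℬ : BasedCategory.{v₂, u₂} (Over S)}

/-- Functors to the category of `M` with the same values are isomorphic. -/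
theorem nonempty_iso (Φ Ψ : ℬ ⥤ᵇ AlgSt.ofSp M) (H : ∀ b, val Φ b = val Ψ b) : Nonempty (Φ ≅ Ψ) := by
  have key : ∀ (Φ Ψ : ℬ ⥤ᵇ AlgSt.ofSp M) (b : ℬ.obj), val Φ b = val Ψ b →
      M.obj.map (eqToHom ((Φ.w_obj b).trans (Ψ.w_obj b).symm)).op (Ψ.obj b).sec = (Φ.obj b).sec := by
    intro Φ Ψ b h
    apply yo_injective
    rw [← map_yo]
    have h1 : (yon S).map (eqToHom (Φ.w_obj b)) ≫ val Φ b = (yon S).map (eqToHom (Φ.w_obj b)) ≫ val Ψ b := by rw [h]
    rw [val, val, ← Category.assoc, ← Category.assoc, ← Functor.map_comp, ← Functor.map_comp, eqToHom_trans,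
      eqToHom_trans, eqToHom_refl, (yon S).map_id, Category.id_comp] at h1
    exact h1.symm
  let hb : ∀ (Φ Ψ : ℬ ⥤ᵇ AlgSt.ofSp M) (_ : ∀ b, val Φ b = val Ψ b) (b : ℬ.obj), Φ.obj b ⟶ Ψ.obj b := fun Φ Ψ h b =>
    ⟨eqToHom ((Φ.w_obj b).trans (Ψ.w_obj b).symm), key Φ Ψ b (h b)⟩
  let i : ∀ b, Φ.obj b ≅ Ψ.obj b := fun b =>
    { hom := hb Φ Ψ H b
      inv := hb Ψ Φ (fun b => (H b).symm) b
      hom_inv_id := Stk.EltObj.hom_ext (by
        change eqToHom ((Φ.w_obj b).trans (Ψ.w_obj b).symm) ≫ eqToHom ((Ψ.w_obj b).trans (Φ.w_obj b).symm) = 𝟙 _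
        rw [eqToHom_trans, eqToHom_refl])
      inv_hom_id := Stk.EltObj.hom_ext (by
        change eqToHom ((Ψ.w_obj b).trans (Φ.w_obj b).symm) ≫ eqToHom ((Φ.w_obj b).trans (Ψ.w_obj b).symm) = 𝟙 _
        rw [eqToHom_trans, eqToHom_refl]) }
  refine ⟨BasedNatIso.mkNatIso (NatIso.ofComponents i ?_) ?_⟩
  · intro b b' k
    apply Stk.EltObj.hom_ext
    change (Φ.map k).hom ≫ eqToHom ((Φ.w_obj b').trans (Ψ.w_obj b').symm) =
      eqToHom ((Φ.w_obj b).trans (Ψ.w_obj b).symm) ≫ (Ψ.map k).hom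
    have h1 : (Φ.map k).hom = eqToHom (Φ.w_obj b) ≫ ℬ.p.map k ≫ eqToHom (Φ.w_obj b').symm := Functor.congr_hom Φ.w k
    have h2 : (Ψ.map k).hom = eqToHom (Ψ.w_obj b) ≫ ℬ.p.map k ≫ eqToHom (Ψ.w_obj b').symm := Functor.congr_hom Ψ.w k
    rw [h1, h2]
    simp
  · intro b
    have e1 : (AlgSt.ofSp M).p.obj (Φ.obj b) = ℬ.p.obj b := Φ.w_obj b
    have e2 : (AlgSt.ofSp M).p.obj (Ψ.obj b) = ℬ.p.obj b := Ψ.w_obj b
    refine IsHomLift.of_fac (AlgSt.ofSp M).p (𝟙 (ℬ.p.obj b)) _ e1 e2 ?_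
    change 𝟙 _ = eqToHom _ ≫ eqToHom ((Φ.w_obj b).trans (Ψ.w_obj b).symm) ≫ eqToHom _
    simp

/-- The values of a composite with a map of sheaves. -/
theorem val_ofSpMap (Φ : ℬ ⥤ᵇ AlgSt.ofSp N) (u : N ⟶ M) (b : ℬ.obj) :
    val (BasedFunctor.comp Φ (AlgSt.ofSpMap u)) b = val Φ b ≫ u := by
  rw [val, val, Category.assoc]
  congr 1
  change yo (u.hom.app _ (Φ.obj b).sec) = yo (Φ.obj b).sec ≫ u
  exact ((J S).uliftYonedaEquiv_symm_naturality_right _ u (Φ.obj b).sec).symm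

end gen

section chart

variable {S : Scheme.{u}} {M : Sp S} {R : Type u} [CommRing R] (h : Spec (CommRingCat.of R) ⟶ S)
  {G : Over (Spec (CommRingCat.of R))} [GrpObj G] {X : Over (Spec (CommRingCat.of R))} {aX : AlgGrp.Action G X}
  {U : X.left.Opens} (hU : Stable aX U)

include hU in
/-- Constancy from constancy at the atlas. -/
theorem val_of_chart (Φ : sub (ThetaS.overS h (AlgSt.QuotSt Scheme.fppfPrecoverage G aX))
      (InU Scheme.fppfPrecoverage aX U) ⥤ᵇ AlgSt.ofSp M) (c : (yon S).obj (B0 h) ⟶ M)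
    (hv : val Φ (vObj (K := Scheme.fppfPrecoverage) h hU (𝟙 X)) = (yon S).map (stB h (YU (𝟙 X) U)) ≫ c)
    (A : (sub (ThetaS.overS h (AlgSt.QuotSt Scheme.fppfPrecoverage G aX)) (InU Scheme.fppfPrecoverage aX U)).obj) :
    val Φ A = (yon S).map (stB h A.obj.base) ≫ c := by
  have hA' : InU Scheme.fppfPrecoverage aX U (uObj Scheme.fppfPrecoverage aX A.obj.P A.obj.φ) :=
    closedInto_inU h U (qb A.obj) A.property
  have h1 := val_mor h Φ (c := ⟨_, hA'⟩) (c' := A) (qb A.obj)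
  obtain ⟨n, hn, hv'⟩ := exists_val_chart h hU Φ A.obj.φ hA'
  haveI := epi_pi h A.obj
  rw [← cancel_epi ((yon S).map ((Over.map h).map A.obj.π))]
  refine h1.trans (hv'.symm.trans ?_)
  rw [hv, ← Category.assoc, ← Functor.map_comp, stB_eq, ← Category.assoc, ← Functor.map_comp, stB_eq]

end chart

section rows

attribute [local instance] K951.Pts.algΓ

variable {S : Scheme.{u}} {M : Sp S} {R : Type u} [CommRing R] [IsDomain R] [IsDiscreteValuationRing R]

/-- Functors `Θ_R ∖ 0 ⟶ M` are constant. -/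
theorem val_line [QuasiSeparatedSpace ↥S] (hM : IsAlgSpace M) (hq : IsQuasiSeparatedSp M) {ϖ : R} (hϖ : Irreducible ϖ)
    (h : Spec (CommRingCat.of R) ⟶ S)
    (Φ : sub (ThetaS.overS h (AlgSt.QuotSt Scheme.fppfPrecoverage (Gm R) (lineAction R)))
      (InU Scheme.fppfPrecoverage (lineAction R) (Uline ϖ)) ⥤ᵇ AlgSt.ofSp M)
    (A : (sub (ThetaS.overS h (AlgSt.QuotSt Scheme.fppfPrecoverage (Gm R) (lineAction R)))
      (InU Scheme.fppfPrecoverage (lineAction R) (Uline ϖ))).obj) :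
    val Φ A = (yon S).map (stB h A.obj.base) ≫ atOne _ ϖ h Φ :=
  val_of_chart h (stable_line ϖ) Φ _ (val_theta hM hq hϖ h Φ) A

/-- Functors `ST_R ∖ 0 ⟶ M` are constant for `M` separated. -/
theorem val_st (hsep : IsSeparatedSp M) {π : R} (hπ : Irreducible π) (h : Spec (CommRingCat.of R) ⟶ S)
    (Φ : sub (ThetaS.overS h (AlgSt.QuotSt Scheme.fppfPrecoverage (Gm R) (stAction R π)))
      (InU Scheme.fppfPrecoverage (stAction R π) (Ust π)) ⥤ᵇ AlgSt.ofSp M)
    (A : (sub (ThetaS.overS h (AlgSt.QuotSt Scheme.fppfPrecoverage (Gm R) (stAction R π)))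
      (InU Scheme.fppfPrecoverage (stAction R π) (Ust π))).obj) :
    val Φ A = (yon S).map (stB h A.obj.base) ≫ atS h Φ := by
  refine val_of_chart h (stable_st π) Φ _ ?_ A
  have hST : atS h Φ = atT h Φ := eq_of_frac hsep h _ _ (atS_eq_atT h Φ (isUnit_frac hπ.ne_zero))
  obtain ⟨n, hn, hnv⟩ := val_eq_s h Φ
  obtain ⟨n', hn', hnv'⟩ := val_eq_t h Φ
  rw [← hST] at hnv'
  let o : YU (𝟙 (STSch R π)) (Ust π) ⟶ STSch R π := openMap (𝟙 (STSch R π)) (Ust π)
  haveI hoi : IsOpenImmersion o.left := by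
    change IsOpenImmersion ((𝟙 (STSch R π) : STSch R π ⟶ STSch R π).left ⁻¹ᵁ Ust π).ι; infer_instance
  haveI hni : IsOpenImmersion n.left := openImm_of_comp n o _ hn
  haveI hni' : IsOpenImmersion n'.left := openImm_of_comp n' o _ hn'
  haveI : IsOpenImmersion ((Over.map h).map n).left := hni
  haveI : IsOpenImmersion ((Over.map h).map n').left := hni'
  refine K610.Site.eq_of_cover fun t => ?_
  have ht : o.left t ∈ Ust π := t.2
  rcases ht with ht | ht
  · have h2 : o.left t ∈ (inc (X := STSch R π) (stFn (sFn R π))).left.opensRange := by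
      rw [opensRange_inc]; exact ht
    obtain ⟨y, hy⟩ := h2
    refine ⟨_, (Over.map h).map n, inferInstance, inferInstance, ⟨y, hoi.base_open.injective ?_⟩, hnv⟩
    have h3 : o.left (n.left y) = (inc (X := STSch R π) (stFn (sFn R π))).left y := by rw [← hn]; rfl
    exact h3.trans hy
  · have h2 : o.left t ∈ (inc (X := STSch R π) (stFn (tFn R π))).left.opensRange := by
      rw [opensRange_inc]; exact ht
    obtain ⟨y, hy⟩ := h2
    refine ⟨_, (Over.map h).map n', inferInstance, inferInstance, ⟨y, hoi.base_open.injective ?_⟩, hnv'⟩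
    have h3 : o.left (n'.left y) = (inc (X := STSch R π) (stFn (tFn R π))).left y := by rw [← hn']; rfl
    exact h3.trans hy

end rows

end K943.SpIso
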