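import Groth.Agent.ThetaS.K943.SpConst
import Groth.Agent.S2260
import Groth.Agent.Sga4B.EtaleDomain
import Mathlib.AlgebraicGeometry.Morphisms.Separated
import Mathlib.AlgebraicGeometry.PullbackCarrier

/-!
# Propagation of the equality of two maps to an algebraic space

`propagate`: two maps from a normal scheme `T` to an algebraic space which agree on an open subset `O` and on an
irreducible scheme over `T` meeting `O` agree in an etale neighbourhood of every point of the latter.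
-/

set_option autoImplicit false
set_option linter.style.haveILetI false
set_option backward.isDefEq.respectTransparency false
set_option backward.isDefEq.respectTransparency.types false
universe u
open CategoryTheory CategoryTheory.Limits AlgebraicGeometry Opposite Topology TopologicalSpace

namespace K943.SpProp

open AlgSp K943.SpConst

variable {S : Scheme.{u}} {M : Sp S}

theorem eq_of_dominant {X Y W : Scheme.{u}} [IsIntegral X] [IsAffine Y] (τ : W ⟶ X) [UniversallyOpen τ]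
    (w : W) {f g : X ⟶ Y} (h : τ ≫ f = τ ≫ g) : f = g := by
  haveI : IsDominant τ := ⟨by
    have h1 : IsOpen (Set.range τ) := τ.isOpenMap.isOpen_range
    exact h1.dense ⟨_, w, rfl⟩⟩
  exact ext_of_isDominant τ h

theorem propagate (hM : IsAlgSpace M) {T : Over S} [IsLocallyNoetherian T.left]
    (hT : ∀ t : T.left, IsDomain (T.left.presheaf.stalk t) ∧ IsIntegrallyClosed (T.left.presheaf.stalk t))
    (O : T.left.Opens) (g h : (yon S).obj T ⟶ M)
    (e : (yon S).map (opι T O) ≫ g = (yon S).map (opι T O) ≫ h) {Z : Over S} (z : Z ⟶ T)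
    [PreirreducibleSpace Z.left] (eZ : (yon S).map z ≫ g = (yon S).map z ≫ h) (z₀ z₁ : Z.left)
    (hz : z.left z₁ ∈ O) :
    ∃ (V : Over S) (c : V ⟶ T), Etale c.left ∧ z.left z₀ ∈ Set.range c.left ∧
      (yon S).map c ≫ g = (yon S).map c ≫ h := by
  obtain ⟨W, p, hpe, hps⟩ := hM.atlas
  obtain ⟨Y₀, w₀, cY₀, sqY, hYe, hYs, -⟩ := K610.Chart.exists_common_chart hpe hps h
  obtain ⟨y₀, hy₀⟩ := cY₀.left.surjective (z.left z₀)
  obtain ⟨W', hW', hwy, -⟩ := exists_isAffineOpen_mem_and_subset (show w₀.left y₀ ∈ (⊤ : W.left.Opens) from trivial)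
  let Y : Over S := op' Y₀ (w₀.left ⁻¹ᵁ W')
  obtain ⟨w, hw⟩ := exists_lift_op W' (opι Y₀ (w₀.left ⁻¹ᵁ W') ≫ w₀) (fun y => y.2)
  let cY : Y ⟶ T := opι Y₀ (w₀.left ⁻¹ᵁ W') ≫ cY₀
  haveI : Etale cY.left := by
    change Etale ((w₀.left ⁻¹ᵁ W').ι ≫ cY₀.left); infer_instance
  haveI : IsAffine (op' W W').left := hW'
  let p' : (yon S).obj (op' W W') ⟶ M := (yon S).map (opι W W') ≫ p
  have hp1 : RepWith @Etale p' := MorphismProperty.comp_mem _ _ _
    ((repWith_yon_map_iff _ _).2 (show Etale W'.ι from inferInstance)) hpe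
  have hwh : (yon S).map w ≫ p' = (yon S).map cY ≫ h := by
    simp only [p', cY, ← Category.assoc, ← Functor.map_comp, hw]
    simp only [Functor.map_comp, Category.assoc, sqY.w]
  have sqV := hp1.rep.isPullback' ((yon S).map cY ≫ g)
  set V := hp1.rep.pullback ((yon S).map cY ≫ g) with hV
  set q := hp1.rep.fst' ((yon S).map cY ≫ g) with hq
  set d := hp1.rep.snd ((yon S).map cY ≫ g) with hd
  haveI : Etale d.left := hp1.2 _ _ _ sqV
  -- the section over the curve
  let ZY : Over S := Over.mk (pullback.fst z.left cY.left ≫ Z.hom)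
  let zy1 : ZY ⟶ Z := Over.homMk (pullback.fst z.left cY.left) rfl
  let zy2 : ZY ⟶ Y := Over.homMk (pullback.snd z.left cY.left) (by
    change pullback.snd z.left cY.left ≫ Y.hom = pullback.fst z.left cY.left ≫ Z.hom
    rw [← Over.w cY, ← pullback.condition_assoc, Over.w])
  have hzy : zy1 ≫ z = zy2 ≫ cY := Over.OverMorphism.ext pullback.condition
  haveI : Etale zy1.left := by change Etale (pullback.fst z.left cY.left); infer_instance
  obtain ⟨zy, hzy1, hzy2⟩ := Scheme.Pullback.exists_preimage_pullback (f := z.left) (g := cY.left) z₀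
    (⟨y₀, hwy⟩ : Y.left) hy₀.symm
  have eσZ : (yon S).map (zy2 ≫ w) ≫ p' = (yon S).map zy2 ≫ (yon S).map cY ≫ g := by
    rw [Functor.map_comp, Category.assoc, hwh, ← Category.assoc, ← Functor.map_comp, ← hzy, Functor.map_comp,
      Category.assoc, ← eZ, ← Category.assoc, ← Functor.map_comp, hzy, Functor.map_comp, Category.assoc]
  obtain ⟨σZ', hσZ'⟩ : ∃ r : (yon S).obj ZY ⟶ (yon S).obj V, r ≫ (yon S).map q = (yon S).map (zy2 ≫ w) ∧
      r ≫ (yon S).map d = (yon S).map zy2 := ⟨sqV.lift _ _ eσZ, sqV.lift_fst _ _ _, sqV.lift_snd _ _ _⟩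
  obtain ⟨σZ, rfl⟩ := (yon S).map_surjective σZ'
  have hσZ1 : σZ ≫ q = zy2 ≫ w := (yon S).map_injective (by rw [Functor.map_comp]; exact hσZ'.1)
  have hσZ2 : σZ ≫ d = zy2 := (yon S).map_injective (by rw [Functor.map_comp]; exact hσZ'.2)
  -- the section over the open part
  let Ys : Over S := op' Y (cY.left ⁻¹ᵁ O)
  obtain ⟨cO, hcO⟩ := exists_lift_op O (opι Y (cY.left ⁻¹ᵁ O) ≫ cY) (fun y => y.2)
  have eσ : (yon S).map (opι Y (cY.left ⁻¹ᵁ O) ≫ w) ≫ p' =
      (yon S).map (opι Y (cY.left ⁻¹ᵁ O)) ≫ (yon S).map cY ≫ g := by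
    rw [Functor.map_comp, Category.assoc, hwh, ← Category.assoc, ← Functor.map_comp, ← hcO, Functor.map_comp,
      Category.assoc, ← e, ← Category.assoc, ← Functor.map_comp, hcO, Functor.map_comp, Category.assoc]
  obtain ⟨σ', hσ'⟩ : ∃ r : (yon S).obj Ys ⟶ (yon S).obj V, r ≫ (yon S).map q =
      (yon S).map (opι Y (cY.left ⁻¹ᵁ O) ≫ w) ∧ r ≫ (yon S).map d = (yon S).map (opι Y (cY.left ⁻¹ᵁ O)) :=
    ⟨sqV.lift _ _ eσ, sqV.lift_fst _ _ _, sqV.lift_snd _ _ _⟩
  obtain ⟨σ, rfl⟩ := (yon S).map_surjective σ'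
  have hσ1 : σ ≫ q = opι Y (cY.left ⁻¹ᵁ O) ≫ w := (yon S).map_injective (by rw [Functor.map_comp]; exact hσ'.1)
  have hσ2 : σ ≫ d = opι Y (cY.left ⁻¹ᵁ O) := (yon S).map_injective (by rw [Functor.map_comp]; exact hσ'.2)
  haveI : Etale σ.left := by
    have h1 : σ.left ≫ d.left = (cY.left ⁻¹ᵁ O).ι := congrArg (fun t => t.left) hσ2
    haveI : Etale (σ.left ≫ d.left) := by rw [h1]; infer_instance
    exact Etale.of_comp σ.left d.left
  -- an integral neighbourhood
  haveI : Etale (d.left ≫ cY.left) := inferInstance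
  haveI : IsLocallyNoetherian V.left := LocallyOfFiniteType.isLocallyNoetherian (d.left ≫ cY.left)
  haveI : IsDomain (V.left.presheaf.stalk (σZ.left zy)) :=
    Groth.Agent.Sga4B.EtaleDomain.isDomain_stalk_of_etale (d.left ≫ cY.left) _ (hT _).1 (hT _).2
  obtain ⟨V', hv, hV'⟩ := Groth.Agent.S2260.result V.left (σZ.left zy)
  refine ⟨op' V V', opι V V' ≫ d ≫ cY, ?_, ⟨⟨σZ.left zy, hv⟩, ?_⟩, ?_⟩
  · change Etale (V'.ι ≫ d.left ≫ cY.left); infer_instance
  · change cY.left (d.left (σZ.left zy)) = z.left z₀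
    have h1 : d.left (σZ.left zy) = zy2.left zy := by
      rw [← Scheme.Hom.comp_apply, ← Over.comp_left, hσZ2]
    have h2 : cY.left (zy2.left zy) = z.left (zy1.left zy) := by
      rw [← Scheme.Hom.comp_apply, ← Over.comp_left, ← hzy]; rfl
    rw [h1, h2]
    exact congrArg z.left hzy1
  -- a point of the open part in the neighbourhood
  obtain ⟨ζ, hζ1, hζ2⟩ : ∃ ζ : ZY.left, σZ.left ζ ∈ V' ∧ z.left (zy1.left ζ) ∈ O := by
    have h1 : IsOpen (zy1.left '' (σZ.left ⁻¹ᵁ V' : ZY.left.Opens)) :=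
      zy1.left.isOpenMap _ (σZ.left ⁻¹ᵁ V').isOpen
    obtain ⟨x, -, ⟨ζ, hζ, rfl⟩, hx⟩ := PreirreducibleSpace.isPreirreducible_univ (X := Z.left) _ _ h1
      (z.left ⁻¹ᵁ O).isOpen ⟨z₀, trivial, zy, hv, hzy1⟩ ⟨z₁, trivial, hz⟩
    exact ⟨ζ, hζ, hx⟩
  have hζ3 : zy2.left ζ ∈ cY.left ⁻¹ᵁ O := by
    change cY.left (zy2.left ζ) ∈ O
    rw [← Scheme.Hom.comp_apply, ← Over.comp_left, ← hzy]
    exact hζ2
  -- the two sections agree at that point
  have hσσ : σ.left (⟨zy2.left ζ, hζ3⟩ : Ys.left) = σZ.left ζ := by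
    let O' : ZY.left.Opens := zy2.left ⁻¹ᵁ (cY.left ⁻¹ᵁ O)
    obtain ⟨k, hk⟩ := exists_lift_op (cY.left ⁻¹ᵁ O) (opι ZY O' ≫ zy2) (fun y => y.2)
    have h1 : k ≫ σ = opι ZY O' ≫ σZ := by
      apply (yon S).map_injective
      apply sqV.hom_ext
      · rw [← Functor.map_comp, ← Functor.map_comp]
        congr 1
        rw [Category.assoc, Category.assoc, hσ1, hσZ1, ← Category.assoc, hk, Category.assoc]
      · rw [← Functor.map_comp, ← Functor.map_comp]
        congr 1
        rw [Category.assoc, Category.assoc, hσ2, hσZ2, hk]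
    have h2 : k.left (⟨ζ, hζ3⟩ : (op' ZY O').left) = (⟨zy2.left ζ, hζ3⟩ : Ys.left) := by
      apply Subtype.ext
      exact congrArg (fun t : op' ZY O' ⟶ Y => t.left (⟨ζ, hζ3⟩ : (op' ZY O').left)) hk
    rw [← h2]
    exact congrArg (fun t : op' ZY O' ⟶ V => t.left (⟨ζ, hζ3⟩ : (op' ZY O').left)) h1
  -- the two maps to the chart agree
  have key : opι V V' ≫ q = opι V V' ≫ d ≫ w := by
    apply Over.OverMorphism.ext
    let τ := σ.left ∣_ V'
    have h1 : τ ≫ V'.ι = (σ.left ⁻¹ᵁ V').ι ≫ σ.left := morphismRestrict_ι _ _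
    have hpt : (⟨zy2.left ζ, hζ3⟩ : Ys.left) ∈ σ.left ⁻¹ᵁ V' := by
      change σ.left _ ∈ V'
      rw [hσσ]; exact hζ1
    haveI : IsIntegral (op' V V').left := hV'
    refine eq_of_dominant (X := (op' V V').left) (Y := (op' W W').left) τ ⟨_, hpt⟩ ?_
    change τ ≫ V'.ι ≫ q.left = τ ≫ V'.ι ≫ d.left ≫ w.left
    have h2 : σ.left ≫ q.left = σ.left ≫ d.left ≫ w.left := by
      have e1 : σ ≫ q = σ ≫ d ≫ w := by rw [hσ1, ← Category.assoc, hσ2]
      exact congrArg (fun t => t.left) e1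
    rw [← Category.assoc, h1, Category.assoc, h2, ← Category.assoc τ, h1, Category.assoc]
  calc (yon S).map (opι V V' ≫ d ≫ cY) ≫ g
      = (yon S).map (opι V V') ≫ (yon S).map d ≫ (yon S).map cY ≫ g := by
        simp only [Functor.map_comp, Category.assoc]
    _ = (yon S).map (opι V V' ≫ q) ≫ p' := by
        rw [← sqV.w, (yon S).map_comp (opι V V') q]
        exact (Category.assoc _ _ _).symm
    _ = (yon S).map (opι V V' ≫ d) ≫ (yon S).map w ≫ p' := by
        rw [key]; simp only [Functor.map_comp, Category.assoc]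
    _ = _ := by rw [hwh]; simp only [Functor.map_comp, Category.assoc]

end K943.SpProp
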