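import Groth.Agent.ThetaS.K943.SpVal
import Groth.Agent.ThetaS.K943.SpNode
import Groth.Agent.ThetaS.K942.AffMain
import Groth.Agent.ThetaS.K943.Points

/-!
# Functors from `Θ_R ∖ 0` and `ST_R ∖ 0` to an algebraic space
-/

set_option autoImplicit false
set_option linter.style.haveILetI false
set_option backward.isDefEq.respectTransparency false
set_option backward.isDefEq.respectTransparency.types false
universe v₂ u₂ w v u
open CategoryTheory CategoryTheory.Limits AlgebraicGeometry Opposite Topology TopologicalSpace FibCat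
open CartesianMonoidalCategory MonoidalCategory
open scoped Polynomial

namespace K943.SpTheta

open AlgSp ThetaS K943.SpConst K943.SpUniq K943.SpVal K943.LocPair K943.SelfLift K943.FibBase K943.CoverExt
  K943.QuotAtlas K943.QuotCover K943.QuotOpen K943.QuotTriv K943.SpNode K943.Points K943.LocLift K942.Coord
  K942.AffMain K951.Pts

theorem exists_factor {S : Scheme.{u}} {T V O : Over S} (o : O ⟶ T) (c : V ⟶ T) [IsOpenImmersion c.left]
    (h : ∀ y, o.left y ∈ Set.range c.left) : ∃ k : O ⟶ V, k ≫ c = o := by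
  have h1 : Set.range o.left ⊆ Set.range c.left := by
    rintro _ ⟨y, rfl⟩; exact h y
  refine ⟨Over.homMk (IsOpenImmersion.lift c.left o.left h1) ?_, ?_⟩
  · rw [← Over.w c, IsOpenImmersion.lift_fac_assoc, Over.w]
  · apply Over.OverMorphism.ext
    exact IsOpenImmersion.lift_fac _ _ _

section Normal

variable {Y : Scheme.{u}} [IsAffine Y] [IsDomain Γ(Y, ⊤)] {f : Γ(Y, ⊤)} (hf : f ≠ 0)

include hf

theorem isDomain_basicOpen : IsDomain Γ((Y.basicOpen f : Scheme.{u}), ⊤) := by
  obtain ⟨e, he, -⟩ := ι_appTop_basicOpen f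
  haveI : IsLocalization.Away f Γ(Y, Y.basicOpen f) := (isAffineOpen_top Y).isLocalization_basicOpen f
  haveI : IsDomain Γ(Y, Y.basicOpen f) := IsLocalization.isDomain_of_le_nonZeroDivisors (R := Γ(Y, ⊤)) (M := Submonoid.powers f) _
    (powers_le_nonZeroDivisors_of_noZeroDivisors hf)
  exact (RingEquiv.ofBijective e he).symm.toMulEquiv.isDomain _

theorem isIntegrallyClosed_basicOpen [IsIntegrallyClosed Γ(Y, ⊤)] :
    IsIntegrallyClosed Γ((Y.basicOpen f : Scheme.{u}), ⊤) := by
  obtain ⟨e, he, -⟩ := ι_appTop_basicOpen f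
  haveI : IsLocalization.Away f Γ(Y, Y.basicOpen f) := (isAffineOpen_top Y).isLocalization_basicOpen f
  haveI : IsDomain Γ(Y, Y.basicOpen f) := IsLocalization.isDomain_of_le_nonZeroDivisors (R := Γ(Y, ⊤)) (M := Submonoid.powers f) _
    (powers_le_nonZeroDivisors_of_noZeroDivisors hf)
  haveI : IsIntegrallyClosed Γ(Y, Y.basicOpen f) := isIntegrallyClosed_of_isLocalization _ (Submonoid.powers f)
    (powers_le_nonZeroDivisors_of_noZeroDivisors hf)
  exact IsIntegrallyClosed.of_equiv (RingEquiv.ofBijective e he)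

theorem ι_ne_zero {x : Γ(Y, ⊤)} (hx : x ≠ 0) : (Y.basicOpen f).ι.appTop x ≠ 0 := by
  intro e
  apply hx
  apply inj_of_nzd (mem_nonZeroDivisors_of_ne_zero hf)
  rw [map_zero]
  exact e

end Normal

section Quot

variable {S' S : Scheme.{u}} (h : S' ⟶ S) {G : Over S'} [GrpObj G] {X : Over S'} {aX : AlgGrp.Action G X}
  {K : Precoverage Scheme.{u}} [K.HasIsos] {U : X.left.Opens} (hU : Stable aX U) {M : Sp S}

omit [K.HasIsos] in
/-- The value at a map of objects over the open part. -/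
theorem val_mor (Φ : sub (ThetaS.overS h (AlgSt.QuotSt K G aX)) (InU K aX U) ⥤ᵇ AlgSt.ofSp M)
    {c c' : (sub (ThetaS.overS h (AlgSt.QuotSt K G aX)) (InU K aX U)).obj} (m : c.obj ⟶ c'.obj) :
    (yon S).map ((Over.map h).map m.base) ≫ val Φ c' = val Φ c :=
  val_map Φ (ObjectProperty.homMk m : c ⟶ c')

variable [K.IsStableUnderBaseChange]

/-- The restriction of the value at the open part of the atlas. -/
theorem exists_val_chart (Φ : sub (ThetaS.overS h (AlgSt.QuotSt K G aX)) (InU K aX U) ⥤ᵇ AlgSt.ofSp M)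
    {Y : Over S'} (y : Y ⟶ X) (hy : InU K aX U (uObj K aX Y y)) :
    ∃ n : Y ⟶ YU (𝟙 X) U, n ≫ openMap (𝟙 X) U = y ∧
      (yon S).map ((Over.map h).map n) ≫ val Φ (vObj (K := K) h hU (𝟙 X)) = val Φ ⟨uObj K aX Y y, hy⟩ := by
  have hk := isQTerm (K := K) h hU (𝟙 X)
  obtain ⟨n, hn, -⟩ := hk ⟨uObj K aX Y y, hy⟩ (uMap (K := K) (aX := aX) y (Category.comp_id _))
  exact ⟨nbase (K := K) (aX := aX) n.hom, congrArg (fun t => t.base) hn, val_map Φ n⟩

include hU in
/-- Lifting from an extension at the atlas. -/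
theorem hasLift_of_ext [Flat G.hom] [IsAffineHom G.hom] [IsAffine X.left]
    (hst : Stk.IsStack (QuotSh.J K S) (AlgSt.ofSp M)) (H : UniqFlat h U (toSelf (AlgSt.ofSp M)))
    (sq : LiftSq.Sq (subI (ThetaS.overS h (AlgSt.QuotSt K G aX)) (InU K aX U)) (toSelf (AlgSt.ofSp M)))
    (y : (yon S).obj ((Over.map h).obj X) ⟶ M)
    (hy : (yon S).map ((Over.map h).map (openMap (𝟙 X) U)) ≫ y = val sq.top (vObj (K := K) h hU (𝟙 X))) :
    sq.HasLift := by
  refine hasLift_quot h hU hst (isPrestack_self _) H sq ?_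
  have hk := isQTerm (K := K) h hU (𝟙 X)
  have e : (sq.top.obj (vObj (K := K) h hU (𝟙 X))).base = (Over.map h).obj (YU (𝟙 X) U) := sq.top.w_obj _
  obtain ⟨t, ht⟩ := exists_hom_to (M := M) ((Over.map h).map (openMap (𝟙 X) U)) e y (by rw [hy]; rfl)
  haveI : IsFibGrpd (AlgSt.ofSp M).p := hst.1
  exact exists_LL_self sq (vObj (K := K) h hU (𝟙 X)) _ hk _ t ht

end Quot


section Line

variable {S : Scheme.{u}} {M : Sp S} {R : Type u} [CommRing R] {K : Precoverage Scheme.{u}} [K.HasIsos]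
  [K.IsStableUnderBaseChange]

attribute [local instance] K951.Pts.algΓ

/-- Agreement over a chart gives agreement over a smaller open. -/
theorem eq_opι_of_eq {T V : Over S} (c : V ⟶ T) [IsOpenImmersion c.left] {g g' : (yon S).obj T ⟶ M}
    (e : (yon S).map c ≫ g = (yon S).map c ≫ g') (O : T.left.Opens) (hO : ∀ x ∈ O, x ∈ Set.range c.left) :
    (yon S).map (opι T O) ≫ g = (yon S).map (opι T O) ≫ g' := by
  obtain ⟨k, hk⟩ := exists_factor (opι T O) c (fun y => hO _ y.2)
  rw [← hk, Functor.map_comp, Category.assoc, e, Category.assoc]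

variable (K) in
/-- The value at the point `1`. -/
noncomputable abbrev atOne (ϖ : R) (h : Spec (CommRingCat.of R) ⟶ S)
    (Φ : sub (ThetaS.overS h (AlgSt.QuotSt K (Gm R) (lineAction R))) (InU K (lineAction R) (Uline ϖ)) ⥤ᵇ AlgSt.ofSp M) :
    (yon S).obj (B0 h) ⟶ M := val Φ ⟨uObj K (lineAction R) _ one, inU_one K ϖ⟩

omit [K.IsStableUnderBaseChange] in
theorem inU_chart (ϖ : R) {Y : Over (Spec (CommRingCat.of R))} (y : Y ⟶ Line R)
    (hy : y.left ⁻¹ᵁ Uline ϖ = ⊤) : InU K (lineAction R) (Uline ϖ) (uObj K (lineAction R) Y y) :=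
  (inU_uObj_iff (stable_line ϖ) y).2 hy

theorem openImm_of_comp {T Y Z : Over S} (n : Y ⟶ Z) (o : Z ⟶ T) (y : Y ⟶ T) (e : n ≫ o = y)
    [IsOpenImmersion o.left] [IsOpenImmersion y.left] : IsOpenImmersion n.left := by
  have h1 : n.left ≫ o.left = y.left := by rw [← e]; rfl
  haveI : IsOpenImmersion (n.left ≫ o.left) := by rw [h1]; infer_instance
  exact IsOpenImmersion.of_comp n.left o.left

/-- On the locus where `x` is invertible. -/
theorem val_eq_x (ϖ : R) (h : Spec (CommRingCat.of R) ⟶ S)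
    (Φ : sub (ThetaS.overS h (AlgSt.QuotSt K (Gm R) (lineAction R))) (InU K (lineAction R) (Uline ϖ)) ⥤ᵇ AlgSt.ofSp M) :
    ∃ n : chart (X := Line R) (lineFn Polynomial.X) ⟶ YU (𝟙 (Line R)) (Uline ϖ), n ≫ openMap (𝟙 (Line R)) (Uline ϖ) = inc _ ∧
      (yon S).map ((Over.map h).map n) ≫ val Φ (vObj (K := K) h (stable_line ϖ) (𝟙 (Line R))) =
        (yon S).map ((Over.map h).map n) ≫ (yon S).map (stB h (YU (𝟙 (Line R)) (Uline ϖ))) ≫ atOne K ϖ h Φ := by
  obtain ⟨g, hg⟩ := exists_line (R := R)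
  let m := uMapG (K := K) (aX := lineAction R) (y := inc (X := Line R) (lineFn Polynomial.X)) (str _) g hg
  have hva : InU K (lineAction R) (Uline ϖ) (uObj K (lineAction R) _ (inc (X := Line R) (lineFn Polynomial.X))) :=
    closedInto_inU h (Uline ϖ) m (inU_one K ϖ)
  obtain ⟨n, hn, hv⟩ := exists_val_chart (K := K) h (stable_line ϖ) Φ (inc (X := Line R) (lineFn Polynomial.X)) hva
  refine ⟨n, hn, ?_⟩
  rw [hv, ← Category.assoc, ← Functor.map_comp, stB_eq]
  exact (val_mor h Φ (c := ⟨_, hva⟩) (c' := ⟨uObj K (lineAction R) _ one, inU_one K ϖ⟩) m).symm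

instance isDomain_line [IsDomain R] : IsDomain Γ((Line R).left, ⊤) :=
  (K943.Rings.eLine R).symm.toMulEquiv.isDomain _

instance isIntegrallyClosed_line [IsDomain R] [IsIntegrallyClosed R] : IsIntegrallyClosed Γ((Line R).left, ⊤) :=
  IsIntegrallyClosed.of_equiv (K943.Rings.eLine R)

theorem lineFn_ne_zero {q : R[X]} (hq : q ≠ 0) : lineFn q ≠ 0 := fun e =>
  hq ((K943.Rings.eLine R).injective (e.trans (map_zero (K943.Rings.eLine R)).symm))

/-- A function of `Spec` of the fraction field from the invertibility of the uniformizer. -/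
theorem exists_frac [IsDomain R] [IsDiscreteValuationRing R] {ϖ : R} (hϖ : Irreducible ϖ) (A : Type u) [CommRing A]
    [Algebra R A] (h : IsUnit (algebraMap R A ϖ)) : Nonempty (FractionRing R →ₐ[R] A) := by
  have h1 : ∀ y : nonZeroDivisors R, IsUnit (algebraMap R A y) := by
    intro y
    obtain ⟨n, w, hw⟩ := IsDiscreteValuationRing.eq_unit_mul_pow_irreducible (nonZeroDivisors.coe_ne_zero y) hϖ
    rw [hw, map_mul, map_pow]
    exact (w.isUnit.map _).mul (h.pow n)
  exact ⟨IsLocalization.liftAlgHom (M := nonZeroDivisors R) (f := Algebra.ofId R A) h1⟩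

/-- A functor from `Θ_R ∖ 0` to a quasi-separated algebraic space is constant. -/
theorem val_theta [QuasiSeparatedSpace ↥S] (hM : IsAlgSpace M) (hq : IsQuasiSeparatedSp M) [IsDomain R]
    [IsDiscreteValuationRing R] {ϖ : R} (hϖ : Irreducible ϖ) (h : Spec (CommRingCat.of R) ⟶ S)
    (Φ : sub (ThetaS.overS h (AlgSt.QuotSt K (Gm R) (lineAction R))) (InU K (lineAction R) (Uline ϖ)) ⥤ᵇ AlgSt.ofSp M) :
    val Φ (vObj (K := K) h (stable_line ϖ) (𝟙 (Line R))) =
      (yon S).map (stB h (YU (𝟙 (Line R)) (Uline ϖ))) ≫ atOne K ϖ h Φ := by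
  obtain ⟨n, hn, hnv⟩ := val_eq_x (K := K) ϖ h Φ
  let T : Over S := (Over.map h).obj (YU (𝟙 (Line R)) (Uline ϖ))
  let o : YU (𝟙 (Line R)) (Uline ϖ) ⟶ Line R := openMap (𝟙 (Line R)) (Uline ϖ)
  haveI hoi : IsOpenImmersion o.left := by change IsOpenImmersion ((𝟙 (Line R) : Line R ⟶ Line R).left ⁻¹ᵁ Uline ϖ).ι; infer_instance
  haveI hni : IsOpenImmersion n.left := openImm_of_comp n o _ hn
  haveI : IsOpenImmersion ((Over.map h).map n).left := hni
  let a : Γ(T.left, ⊤) := o.left.appTop (lineFn Polynomial.X)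
  -- the locus where `x` is invertible
  have hrange : ∀ x ∈ T.left.basicOpen a, x ∈ Set.range ((Over.map h).map n).left := by
    intro x hx
    have h1 : x ∈ o.left ⁻¹ᵁ (Line R).left.basicOpen (lineFn Polynomial.X) := by
      rw [preimage_basicOpen_top]; exact hx
    have h2 : o.left x ∈ (inc (X := Line R) (lineFn Polynomial.X)).left.opensRange := by
      rw [opensRange_inc]; exact h1
    obtain ⟨y, hy⟩ := h2
    refine ⟨y, hoi.base_open.injective ?_⟩
    have h3 : o.left (n.left y) = (inc (X := Line R) (lineFn Polynomial.X)).left y := by rw [← hn]; rfl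
    exact h3.trans hy
  have hD := eq_opι_of_eq ((Over.map h).map n) hnv (T.left.basicOpen a) hrange
  -- the locus where `ϖ` is invertible
  let Z := chart (X := Line R) (lineFn (Polynomial.C ϖ))
  have hC : (Polynomial.C ϖ : R[X]) ≠ 0 := Polynomial.C_ne_zero.2 hϖ.ne_zero
  have hZU : InU K (lineAction R) (Uline ϖ) (uObj K (lineAction R) Z (inc _)) := by
    apply inU_chart
    rw [preimage_Uline]
    have h1 : fn (B := R[X]) (inc (X := Line R) (lineFn (Polynomial.C ϖ))) (Polynomial.C ϖ) =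
      (inc (X := Line R) (lineFn (Polynomial.C ϖ))).left.appTop (lineFn (Polynomial.C ϖ)) := rfl
    rw [h1, Scheme.basicOpen_of_isUnit _ (isUnit_inc _), sup_top_eq]
  obtain ⟨n', hn', -⟩ := exists_val_chart (K := K) h (stable_line ϖ) Φ _ hZU
  haveI hni' : IsOpenImmersion n'.left := openImm_of_comp n' o _ hn'
  let z : (Over.map h).obj Z ⟶ T := (Over.map h).map n'
  haveI : IsOpenImmersion z.left := hni'
  haveI hZa : IsAffine Z.left := (isAffineOpen_top (Line R).left).basicOpen _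
  haveI : IsAffine ((Over.map h).obj Z).left := hZa
  haveI : IsDomain Γ(((Over.map h).obj Z).left, ⊤) := isDomain_basicOpen (Y := (Line R).left) (lineFn_ne_zero hC)
  haveI : IsIntegrallyClosed Γ(((Over.map h).obj Z).left, ⊤) :=
    isIntegrallyClosed_basicOpen (Y := (Line R).left) (lineFn_ne_zero hC)
  have hu : IsUnit (algebraMap R Γ(Z.left, ⊤) ϖ) := by
    rw [← fn_C (inc (X := Line R) (lineFn (Polynomial.C ϖ))) ϖ]
    exact isUnit_inc (X := Line R) (lineFn (Polynomial.C ϖ))
  obtain ⟨ψ⟩ := exists_frac hϖ Γ(Z.left, ⊤) hu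
  let P : Over S := (Over.map h).obj (CoactBr.sp R (FractionRing R))
  haveI : IsAffine P.left := inferInstanceAs (IsAffine (Spec (CommRingCat.of (FractionRing R))))
  haveI : IsLocallyArtinian P.left := Scheme.isLocallyArtinianScheme_Spec.2
    (inferInstanceAs (IsArtinianRing (FractionRing R)))
  have hZ := axis_eq hM hq (stB h (YU (𝟙 (Line R)) (Uline ϖ))) z ((Over.map h).map (K951.Pts.ofFn ψ))
    (stB h (CoactBr.sp R (FractionRing R))) (by rw [stB_eq, stB_eq]) a (by
      have h1 : z.left.appTop a = (inc (X := Line R) (lineFn (Polynomial.C ϖ))).left.appTop (lineFn Polynomial.X) := by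
        rw [← hn']; rfl
      rw [h1]
      exact ι_ne_zero (Y := (Line R).left) (lineFn_ne_zero hC) (lineFn_ne_zero Polynomial.X_ne_zero)) _ _ hD
  -- the two loci cover
  refine K610.Site.eq_of_cover fun t => ?_
  have ht : o.left t ∈ Uline ϖ := t.2
  rcases ht with ht | ht
  · have h2 : o.left t ∈ (inc (X := Line R) (lineFn Polynomial.X)).left.opensRange := by
      rw [opensRange_inc]; exact ht
    obtain ⟨y, hy⟩ := h2
    refine ⟨(Over.map h).obj (chart (X := Line R) (lineFn Polynomial.X)), (Over.map h).map n, inferInstance,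
      inferInstance, ⟨y, hoi.base_open.injective ?_⟩, hnv⟩
    have h3 : o.left (n.left y) = (inc (X := Line R) (lineFn Polynomial.X)).left y := by rw [← hn]; rfl
    exact h3.trans hy
  · have h2 : o.left t ∈ (inc (X := Line R) (lineFn (Polynomial.C ϖ))).left.opensRange := by
      rw [opensRange_inc]; exact ht
    obtain ⟨y, hy⟩ := h2
    refine ⟨(Over.map h).obj Z, z, inferInstance, inferInstance, ⟨y, hoi.base_open.injective ?_⟩, hZ⟩
    have h3 : o.left (n'.left y) = (inc (X := Line R) (lineFn (Polynomial.C ϖ))).left y := by rw [← hn']; rfl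
    exact h3.trans hy

end Line

section ST

variable {S : Scheme.{u}} {M : Sp S} {R : Type u} [CommRing R] {K : Precoverage Scheme.{u}} [K.HasIsos]
  [K.IsStableUnderBaseChange]

attribute [local instance] K951.Pts.algΓ

variable (π : R)

/-- The point `(π, 1)` of `Spec R[s, t]/(st − π)`. -/
noncomputable def twoST : Over.mk (𝟙 (Spec (CommRingCat.of R))) ⟶ STSch R π :=
  ofFn (stPt (algebraMap R _ π) 1 (mul_one _))

theorem exists_st' : ∃ g : chart (X := STSch R π) (stFn (tFn R π)) ⟶ Gm R,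
    sm (stAction R π) g (str _ ≫ twoST π) = inc (X := STSch R π) (stFn (tFn R π)) := by
  obtain ⟨g, hg⟩ := exists_gm (isUnit_inc (X := STSch R π) (stFn (tFn R π))).unit⁻¹
  have hs : fn (B := STRing R π) (str (chart (X := STSch R π) (stFn (tFn R π))) ≫ twoST π) (tFn R π) = 1 := by
    rw [fn_comp, twoST, fn_ofFn, stPt_tFn, map_one]
  have e1 : fn (B := STRing R π) (inc (X := STSch R π) (stFn (tFn R π))) (tFn R π) =
      (inc (X := STSch R π) (stFn (tFn R π))).left.appTop (stFn (tFn R π)) := rfl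
  have e2 := congrArg (fn (B := STRing R π) (inc (X := STSch R π) (stFn (tFn R π)))) (sFn_mul_tFn R π)
  rw [map_mul, AlgHom.commutes] at e2
  have hst := congrArg (fn (B := STRing R π) (str (chart (X := STSch R π) (stFn (tFn R π))) ≫ twoST π)) (sFn_mul_tFn R π)
  rw [map_mul, AlgHom.commutes, hs, _root_.mul_one] at hst
  refine ⟨g, ?_⟩
  apply fn_injective (B := STRing R π)
  apply stRing_algHom_ext
  · rw [sm_def, (fn_stAct (π := π) g (str _ ≫ twoST π)).1, hg, zpow_one, hst, ← e2, e1, _root_.mul_comm (fn _ _) _,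
      ← _root_.mul_assoc, IsUnit.val_inv_mul, _root_.one_mul]
  · rw [sm_def, (fn_stAct (π := π) g (str _ ≫ twoST π)).2, hg, zpow_neg, zpow_one, inv_inv, hs, _root_.mul_one,
      IsUnit.unit_spec]
    rfl

theorem inU_twoST (K : Precoverage Scheme.{u}) [K.HasIsos] :
    InU K (stAction R π) (Ust π) (uObj K (stAction R π) _ (twoST π)) := by
  rw [inU_uObj_iff (stable_st π), preimage_Ust]
  have h1 : fn (B := STRing R π) (twoST π) (tFn R π) = 1 := by
    rw [twoST, fn_ofFn, stPt_tFn]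
  rw [h1, Scheme.basicOpen_of_isUnit _ isUnit_one, sup_top_eq]

/-- The two points agree over the locus where `π` is invertible, up to the action. -/
theorem exists_st'' {Y : Over (Spec (CommRingCat.of R))} (hu : IsUnit (algebraMap R Γ(Y.left, ⊤) π)) :
    ∃ g : Y ⟶ Gm R, sm (stAction R π) g (str Y ≫ oneST π) = str Y ≫ twoST π := by
  obtain ⟨g, hg⟩ := exists_gm hu.unit
  have hs : fn (B := STRing R π) (str Y ≫ oneST π) (sFn R π) = 1 := by
    rw [fn_comp, oneST, fn_ofFn, stPt_sFn, map_one]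
  have ht : fn (B := STRing R π) (str Y ≫ twoST π) (tFn R π) = 1 := by
    rw [fn_comp, twoST, fn_ofFn, stPt_tFn, map_one]
  have hst := congrArg (fn (B := STRing R π) (str Y ≫ oneST π)) (sFn_mul_tFn R π)
  rw [map_mul, AlgHom.commutes, hs, _root_.one_mul] at hst
  have hst' := congrArg (fn (B := STRing R π) (str Y ≫ twoST π)) (sFn_mul_tFn R π)
  rw [map_mul, AlgHom.commutes, ht, _root_.mul_one] at hst'
  refine ⟨g, ?_⟩
  apply fn_injective (B := STRing R π)
  apply stRing_algHom_ext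
  · rw [sm_def, (fn_stAct (π := π) g (str _ ≫ oneST π)).1, hg, zpow_one, hs, _root_.mul_one, IsUnit.unit_spec, hst']
  · rw [sm_def, (fn_stAct (π := π) g (str _ ≫ oneST π)).2, hg, zpow_neg, zpow_one, hst, ht, IsUnit.val_inv_mul]

variable {π}

/-- The value at the point `(1, π)`. -/
noncomputable abbrev atS (h : Spec (CommRingCat.of R) ⟶ S)
    (Φ : sub (ThetaS.overS h (AlgSt.QuotSt K (Gm R) (stAction R π))) (InU K (stAction R π) (Ust π)) ⥤ᵇ AlgSt.ofSp M) :
    (yon S).obj (B0 h) ⟶ M := val Φ ⟨uObj K (stAction R π) _ (oneST π), inU_oneST π K⟩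

/-- The value at the point `(π, 1)`. -/
noncomputable abbrev atT (h : Spec (CommRingCat.of R) ⟶ S)
    (Φ : sub (ThetaS.overS h (AlgSt.QuotSt K (Gm R) (stAction R π))) (InU K (stAction R π) (Ust π)) ⥤ᵇ AlgSt.ofSp M) :
    (yon S).obj (B0 h) ⟶ M := val Φ ⟨uObj K (stAction R π) _ (twoST π), inU_twoST π K⟩

/-- On the locus where `s` is invertible. -/
theorem val_eq_s (h : Spec (CommRingCat.of R) ⟶ S)
    (Φ : sub (ThetaS.overS h (AlgSt.QuotSt K (Gm R) (stAction R π))) (InU K (stAction R π) (Ust π)) ⥤ᵇ AlgSt.ofSp M) :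
    ∃ n : chart (X := STSch R π) (stFn (sFn R π)) ⟶ YU (𝟙 (STSch R π)) (Ust π), n ≫ openMap (𝟙 (STSch R π)) (Ust π) = inc _ ∧
      (yon S).map ((Over.map h).map n) ≫ val Φ (vObj (K := K) h (stable_st π) (𝟙 (STSch R π))) =
        (yon S).map ((Over.map h).map n) ≫ (yon S).map (stB h (YU (𝟙 (STSch R π)) (Ust π))) ≫ atS h Φ := by
  obtain ⟨g, hg⟩ := exists_st π
  let m := uMapG (K := K) (aX := stAction R π) (y := inc (X := STSch R π) (stFn (sFn R π))) (str _) g hg
  have hva : InU K (stAction R π) (Ust π) (uObj K (stAction R π) _ (inc (X := STSch R π) (stFn (sFn R π)))) :=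
    closedInto_inU h (Ust π) m (inU_oneST π K)
  obtain ⟨n, hn, hv⟩ := exists_val_chart (K := K) h (stable_st π) Φ (inc (X := STSch R π) (stFn (sFn R π))) hva
  refine ⟨n, hn, ?_⟩
  rw [hv, ← Category.assoc, ← Functor.map_comp, stB_eq]
  exact (val_mor h Φ (c := ⟨_, hva⟩) (c' := ⟨uObj K (stAction R π) _ (oneST π), inU_oneST π K⟩) m).symm

/-- On the locus where `t` is invertible. -/
theorem val_eq_t (h : Spec (CommRingCat.of R) ⟶ S)
    (Φ : sub (ThetaS.overS h (AlgSt.QuotSt K (Gm R) (stAction R π))) (InU K (stAction R π) (Ust π)) ⥤ᵇ AlgSt.ofSp M) :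
    ∃ n : chart (X := STSch R π) (stFn (tFn R π)) ⟶ YU (𝟙 (STSch R π)) (Ust π), n ≫ openMap (𝟙 (STSch R π)) (Ust π) = inc _ ∧
      (yon S).map ((Over.map h).map n) ≫ val Φ (vObj (K := K) h (stable_st π) (𝟙 (STSch R π))) =
        (yon S).map ((Over.map h).map n) ≫ (yon S).map (stB h (YU (𝟙 (STSch R π)) (Ust π))) ≫ atT h Φ := by
  obtain ⟨g, hg⟩ := exists_st' π
  let m := uMapG (K := K) (aX := stAction R π) (y := inc (X := STSch R π) (stFn (tFn R π))) (str _) g hg
  have hva : InU K (stAction R π) (Ust π) (uObj K (stAction R π) _ (inc (X := STSch R π) (stFn (tFn R π)))) :=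
    closedInto_inU h (Ust π) m (inU_twoST π K)
  obtain ⟨n, hn, hv⟩ := exists_val_chart (K := K) h (stable_st π) Φ (inc (X := STSch R π) (stFn (tFn R π))) hva
  refine ⟨n, hn, ?_⟩
  rw [hv, ← Category.assoc, ← Functor.map_comp, stB_eq]
  exact (val_mor h Φ (c := ⟨_, hva⟩) (c' := ⟨uObj K (stAction R π) _ (twoST π), inU_twoST π K⟩) m).symm

omit [K.IsStableUnderBaseChange] in
/-- The two values agree where `π` is invertible. -/
theorem atS_eq_atT (h : Spec (CommRingCat.of R) ⟶ S)
    (Φ : sub (ThetaS.overS h (AlgSt.QuotSt K (Gm R) (stAction R π))) (InU K (stAction R π) (Ust π)) ⥤ᵇ AlgSt.ofSp M)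
    {Y : Over (Spec (CommRingCat.of R))} (hu : IsUnit (algebraMap R Γ(Y.left, ⊤) π)) :
    (yon S).map (stB h Y) ≫ atS h Φ = (yon S).map (stB h Y) ≫ atT h Φ := by
  obtain ⟨g, hg⟩ := exists_st'' π hu
  let m := uMapG (K := K) (aX := stAction R π) (y := str Y ≫ twoST π) (str Y) g hg
  let m' : uObj K (stAction R π) Y (str Y ≫ twoST π) ⟶ uObj K (stAction R π) _ (twoST π) := uMap (str Y) rfl
  have hva : InU K (stAction R π) (Ust π) (uObj K (stAction R π) Y (str Y ≫ twoST π)) :=
    closedInto_inU h (Ust π) m (inU_oneST π K)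
  exact (val_mor h Φ (c := ⟨_, hva⟩) (c' := ⟨uObj K (stAction R π) _ (oneST π), inU_oneST π K⟩) m).trans
    (val_mor h Φ (c := ⟨_, hva⟩) (c' := ⟨uObj K (stAction R π) _ (twoST π), inU_twoST π K⟩) m').symm

end ST

end K943.SpTheta
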