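import Groth.Agent.ThetaS.K943.SpConst
import Groth.Agent.ThetaS.K943.SelfLift
import Groth.Agent.ThetaS.K943.QuotOpen
import Groth.Agent.AlgSp.K613.Chart
import Groth.Agent.Stk.K751.OfPsh
import Groth.Prelude.Def_AlgSt2

/-!
# The category of an algebraic space: elements, uniqueness of extensions
-/

set_option autoImplicit false
set_option linter.style.haveILetI false
set_option backward.isDefEq.respectTransparency false
set_option backward.isDefEq.respectTransparency.types false
universe w v u
open CategoryTheory CategoryTheory.Limits AlgebraicGeometry Opposite Topology TopologicalSpace FibCat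

namespace K943.SpUniq

open AlgSp K943.SpConst K943.LocPair K943.SelfLift K943.QuotOpen K943.FibBase

section Psh

variable {C : Type u} [Category.{v} C] {P : Cᵒᵖ ⥤ Type w}

theorem isHomLift_hom {V T : C} {i : V ⟶ T} {a b : Stk.EltObj P} (f : a ⟶ b)
    (h : (Stk.EltObj.forget P).IsHomLift i f) : ∃ (e1 : a.base = V) (e2 : b.base = T),
      f.hom = eqToHom e1 ≫ i ≫ eqToHom e2.symm := by
  have e1 : a.base = V := IsHomLift.domain_eq (Stk.EltObj.forget P) i f
  have e2 : b.base = T := IsHomLift.codomain_eq (Stk.EltObj.forget P) i f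
  refine ⟨e1, e2, ?_⟩
  exact IsHomLift.fac' (Stk.EltObj.forget P) i f

/-- Unique extension of morphisms from uniqueness of extension of elements. -/
theorem uniqAt_ofPsh {V T : C} (i : V ⟶ T) (H : ∀ a b : P.obj (op T), P.map i.op a = P.map i.op b → a = b) :
    UniqAt i (toSelf (Stk.ofPsh P)) := by
  refine uniqAt_self i fun xv x x' t t' ψ _ ht ht' e => ?_
  have key : P.map ψ.op x'.sec = x.sec := by
    obtain ⟨V', sv⟩ := xv
    obtain ⟨T', s⟩ := x
    obtain ⟨T'', s'⟩ := x'
    obtain ⟨e1, e2, h1⟩ := isHomLift_hom t ht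
    dsimp only at e1 e2
    subst e1 e2
    have h2 : t.hom = i := by rw [h1]; simp
    have h3 : t.hom ≫ ψ = t'.hom := e
    apply H
    have h4 := t'.map_sec
    rw [← h3, op_comp, Functor.map_comp_apply] at h4
    have h5 := t.map_sec
    rw [h2] at h4 h5
    exact h4.trans h5.symm
  exact ⟨⟨ψ, key⟩, ⟨rfl, Stk.EltObj.hom_ext e⟩, fun φ h => Stk.EltObj.hom_ext h.1⟩

end Psh

section Sp

variable {S : Scheme.{u}} {M : Sp S}

theorem isStack_ofSp (M : Sp S) : Stk.IsStack (QuotSh.J Scheme.fppfPrecoverage S) (AlgSt.ofSp M) :=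
  K751.OfPsh.isStack_of_isSheaf _ ((isSheaf_iff_isSheaf_of_type _ _).1 M.2)

/-- The map from a representable sheaf attached to an element. -/
noncomputable def yo {T : Over S} (x : M.obj.obj (op T)) : (yon S).obj T ⟶ M := (J S).uliftYonedaEquiv.symm x

/-- The element attached to a map from a representable sheaf. -/
noncomputable def oy {T : Over S} (x : (yon S).obj T ⟶ M) : M.obj.obj (op T) := (J S).uliftYonedaEquiv x

theorem oy_yo {T : Over S} (x : M.obj.obj (op T)) : oy (yo x) = x := ((J S).uliftYonedaEquiv.{u + 1}).apply_symm_apply x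

theorem yo_oy {T : Over S} (x : (yon S).obj T ⟶ M) : yo (oy x) = x := ((J S).uliftYonedaEquiv.{u + 1}).symm_apply_apply x

theorem yo_injective {T : Over S} {x y : M.obj.obj (op T)} (h : yo x = yo y) : x = y := by
  rw [← oy_yo x, h, oy_yo]

/-- The map from a representable sheaf attached to an object of the category of elements. -/
noncomputable abbrev toYon (a : (AlgSt.ofSp M).obj) : (yon S).obj a.base ⟶ M := yo a.sec

theorem map_yo {V T : Over S} (i : V ⟶ T) (x : M.obj.obj (op T)) :
    (yon S).map i ≫ yo x = yo (M.obj.map i.op x) :=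
  ((J S).uliftYonedaEquiv_symm_naturality_left i M x)

theorem map_oy {V T : Over S} (i : V ⟶ T) (x : (yon S).obj T ⟶ M) :
    M.obj.map i.op (oy x) = oy ((yon S).map i ≫ x) := by
  apply yo_injective
  rw [← map_yo, yo_oy, yo_oy]

theorem toYon_map {a b : (AlgSt.ofSp M).obj} (f : a ⟶ b) : (yon S).map f.hom ≫ toYon b = toYon a := by
  rw [toYon, map_yo, f.map_sec]

/-- Elements of a space with affine diagonal are determined on an open subscheme with the same functions. -/
theorem eq_of_affineDiag (hd : RepWith @IsAffineHom (Limits.diag M)) {V T : Over S} (i : V ⟶ T) [IsAffine T.left]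
    [IsIso i.left.appTop] (a b : (yon S).obj T ⟶ M) (h : (yon S).map i ≫ a = (yon S).map i ≫ b) : a = b := by
  obtain ⟨E, e, he, hP⟩ := (K613.Chart.repWith_diag_iff @IsAffineHom).1 hd T a b
  obtain ⟨k, hk, -⟩ := he.lift V i h
  haveI : IsAffine E.left := isAffine_of_isAffineHom e.left
  obtain ⟨r, hr⟩ := exists_hom (k.left.appTop ≫ inv i.left.appTop)
  have hre : r ≫ e.left = 𝟙 _ := by
    apply hom_ext_of_isAffine
    rw [Scheme.Hom.comp_appTop, hr, ← Category.assoc, ← Scheme.Hom.comp_appTop, ← Over.comp_left, hk,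
      IsIso.hom_inv_id]
    simp
  have hrw : r ≫ E.hom = T.hom := by rw [← Over.w e, ← Category.assoc, hre, Category.id_comp]
  let rr : T ⟶ E := Over.homMk r hrw
  have hrr : rr ≫ e = 𝟙 T := Over.OverMorphism.ext hre
  calc a = (yon S).map (rr ≫ e) ≫ a := by rw [hrr, (yon S).map_id, Category.id_comp]
    _ = (yon S).map (rr ≫ e) ≫ b := by rw [Functor.map_comp, Category.assoc, he.w, Category.assoc]
    _ = b := by rw [hrr, (yon S).map_id, Category.id_comp]

theorem uniqAt_ofSp (hd : RepWith @IsAffineHom (Limits.diag M)) {V T : Over S} (i : V ⟶ T) [IsAffine T.left]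
    [IsIso i.left.appTop] : UniqAt i (toSelf (AlgSt.ofSp M)) := by
  apply uniqAt_ofPsh
  intro a b hab
  apply yo_injective
  refine eq_of_affineDiag hd i _ _ ?_
  rw [map_yo, map_yo, hab]

end Sp

end K943.SpUniq
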